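import Mathlib.RingTheory.Flat.FaithfullyFlat.Algebra
import Mathlib.RingTheory.Flat.FaithfullyFlat.Basic
import Mathlib.RingTheory.Flat.Stability

set_option autoImplicit false
universe u

namespace Groth.Agent.Lib.Helper14

open TensorProduct

/-- Descent of flatness: if `C` is faithfully flat over `B` and flat over `A`, then `B` is flat
over `A`. -/
theorem flat_of_faithfullyFlat_of_flat (A B C : Type u) [CommRing A] [CommRing B] [CommRing C]
    [Algebra A B] [Algebra B C] [Algebra A C] [IsScalarTower A B C]
    [Module.FaithfullyFlat B C] [Module.Flat A C] : Module.Flat A B := by
  rw [Module.Flat.iff_lTensor_preserves_injective_linearMap]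
  intro N P _ _ _ _ f hf
  have h1 : Function.Injective (LinearMap.lTensor C f) :=
    Module.Flat.lTensor_preserves_injective_linearMap f hf
  have h2 : Function.Injective (LinearMap.lTensor C (f.baseChange B)) := by
    have hsq : ∀ z : C ⊗[B] (B ⊗[A] N),
        AlgebraTensorModule.cancelBaseChange A B C C P
          (LinearMap.lTensor C (f.baseChange B) z) =
        LinearMap.lTensor C f (AlgebraTensorModule.cancelBaseChange A B C C N z) := by
      intro z
      induction z using TensorProduct.induction_on with
      | zero => simp
      | tmul c x =>
        induction x using TensorProduct.induction_on with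
        | zero => simp
        | tmul b n => simp
        | add x y hx hy => simp only [tmul_add, map_add, hx, hy]
      | add x y hx hy => simp only [map_add, hx, hy]
    intro x y hxy
    have := congrArg (AlgebraTensorModule.cancelBaseChange A B C C P) hxy
    rw [hsq, hsq] at this
    exact (AlgebraTensorModule.cancelBaseChange A B C C N).injective (h1 this)
  have h3 : Function.Injective (f.baseChange B) :=
    (Module.FaithfullyFlat.lTensor_injective_iff_injective B C _).1 h2
  exact h3

end Groth.Agent.Lib.Helper14
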