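import Groth.Prelude.Def_CInt

set_option autoImplicit false
universe u v

namespace Groth.Agent.Lib.Helper14

open RingTheory.Sequence

section
variable {A : Type u} [CommRing A] {M : Type v} [AddCommGroup M] [Module A M]

/-- the trivial (Koszul) relations among `f` with coefficients in `M` -/
def trivRel {n : ℕ} (f : Fin n → A) (M : Type v) [AddCommGroup M] [Module A M] :
    Submodule A (Fin n → M) :=
  Submodule.span A {v : Fin n → M | ∃ (i j : Fin n) (x : M),
    v = f j • (Pi.single i x : Fin n → M) - f i • (Pi.single j x : Fin n → M)}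

/-- `m ↦ ∑ f i • m i` -/
def sigmaMap {n : ℕ} (f : Fin n → A) (M : Type v) [AddCommGroup M] [Module A M] :
    (Fin n → M) →ₗ[A] M where
  toFun m := ∑ i, f i • m i
  map_add' x y := by simp [smul_add, Finset.sum_add_distrib]
  map_smul' c x := by simp [Finset.smul_sum, smul_comm c]

theorem sigmaMap_apply {n : ℕ} (f : Fin n → A) (m : Fin n → M) :
    sigmaMap f M m = ∑ i, f i • m i := rfl

theorem koszulH1Zero_iff {n : ℕ} (f : Fin n → A) :
    CInt.KoszulH1Zero f M ↔ LinearMap.ker (sigmaMap f M) ≤ trivRel f M := Iff.rfl

variable {n : ℕ} (f : Fin (n + 1) → A)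

/-- Structure of the trivial relations for `n + 1` elements in terms of the first `n`. -/
theorem trivRel_succ_decomp (v : Fin (n + 1) → M) (hv : v ∈ trivRel f M) :
    ∃ b' ∈ trivRel (Fin.init f) M, ∃ y : Fin n → M,
      Fin.init v = b' + f (Fin.last n) • y ∧ v (Fin.last n) = - sigmaMap (Fin.init f) M y := by
  unfold trivRel at hv
  induction hv using Submodule.span_induction with
  | mem v hv =>
    obtain ⟨i, j, x, rfl⟩ := hv
    induction i using Fin.lastCases with
    | last =>
      induction j using Fin.lastCases with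
      | last =>
        refine ⟨0, zero_mem _, 0, ?_, ?_⟩
        · ext k; simp [Fin.init]
        · simp
      | cast j' =>
        refine ⟨0, zero_mem _, - Pi.single j' x, ?_, ?_⟩
        · ext k
          simp only [Fin.init, Pi.sub_apply, Pi.smul_apply, Pi.add_apply, Pi.zero_apply, zero_add,
            Pi.neg_apply, smul_neg]
          rw [Pi.single_eq_of_ne (Fin.castSucc_lt_last k).ne, smul_zero, zero_sub]
          by_cases hk : k = j'
          · subst hk; simp
          · rw [Pi.single_eq_of_ne (fun h => hk (Fin.castSucc_injective _ h)),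
              Pi.single_eq_of_ne hk]
        · simp only [Pi.sub_apply, Pi.smul_apply, Pi.single_eq_same, sigmaMap_apply, Pi.neg_apply,
            smul_neg, Finset.sum_neg_distrib, neg_neg]
          rw [Pi.single_eq_of_ne (Fin.castSucc_lt_last j').ne', smul_zero, sub_zero,
            Finset.sum_eq_single j']
          · simp [Fin.init]
          · intro k _ hk; rw [Pi.single_eq_of_ne hk, smul_zero]
          · intro h; exact absurd (Finset.mem_univ _) h
    | cast i' =>
      induction j using Fin.lastCases with
      | last =>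
        refine ⟨0, zero_mem _, Pi.single i' x, ?_, ?_⟩
        · ext k
          simp only [Fin.init, Pi.sub_apply, Pi.smul_apply, Pi.add_apply, Pi.zero_apply, zero_add]
          rw [Pi.single_eq_of_ne (Fin.castSucc_lt_last k).ne, smul_zero,
            sub_zero]
          by_cases hk : k = i'
          · subst hk; simp
          · rw [Pi.single_eq_of_ne (fun h => hk (Fin.castSucc_injective _ h)),
              Pi.single_eq_of_ne hk]
        · simp only [Pi.sub_apply, Pi.smul_apply, Pi.single_eq_same, sigmaMap_apply]
          rw [Pi.single_eq_of_ne (Fin.castSucc_lt_last i').ne', smul_zero, zero_sub,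
            Finset.sum_eq_single i']
          · simp [Fin.init]
          · intro k _ hk; rw [Pi.single_eq_of_ne hk, smul_zero]
          · intro h; exact absurd (Finset.mem_univ _) h
      | cast j' =>
        refine ⟨f j'.castSucc • (Pi.single i' x : Fin n → M) -
          f i'.castSucc • (Pi.single j' x : Fin n → M), ?_, 0, ?_, ?_⟩
        · exact Submodule.subset_span ⟨i', j', x, rfl⟩
        · ext k
          simp only [Fin.init, Pi.sub_apply, Pi.smul_apply, Pi.add_apply, smul_zero, add_zero,
            Pi.zero_apply]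
          congr 2
          · by_cases hk : k = i'
            · subst hk; simp
            · rw [Pi.single_eq_of_ne (fun h => hk (Fin.castSucc_injective _ h)),
                Pi.single_eq_of_ne hk]
          · by_cases hk : k = j'
            · subst hk; simp
            · rw [Pi.single_eq_of_ne (fun h => hk (Fin.castSucc_injective _ h)),
                Pi.single_eq_of_ne hk]
        · simp only [Pi.sub_apply, Pi.smul_apply, map_zero, neg_zero]
          rw [Pi.single_eq_of_ne (Fin.castSucc_lt_last i').ne',
            Pi.single_eq_of_ne (Fin.castSucc_lt_last j').ne', smul_zero, smul_zero, sub_zero]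
  | zero =>
    exact ⟨0, zero_mem _, 0, by ext k; simp [Fin.init], by simp⟩
  | add v w _ _ hv hw =>
    obtain ⟨b1, hb1, y1, h1, h1'⟩ := hv
    obtain ⟨b2, hb2, y2, h2, h2'⟩ := hw
    refine ⟨b1 + b2, add_mem hb1 hb2, y1 + y2, ?_, ?_⟩
    · have : Fin.init (v + w) = Fin.init v + Fin.init w := rfl
      rw [this, h1, h2, smul_add]; abel
    · rw [Pi.add_apply, h1', h2', map_add]; abel
  | smul c v _ hv =>
    obtain ⟨b1, hb1, y1, h1, h1'⟩ := hv
    refine ⟨c • b1, Submodule.smul_mem _ c hb1, c • y1, ?_, ?_⟩
    · have : Fin.init (c • v) = c • Fin.init v := rfl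
      rw [this, h1, smul_add, smul_comm]
    · rw [Pi.smul_apply, h1', map_smul, smul_neg]


theorem ofList_ofFn_smul_top {n : ℕ} (f : Fin n → A) :
    (Ideal.ofList (List.ofFn f) • (⊤ : Submodule A M)) = LinearMap.range (sigmaMap f M) := by
  apply le_antisymm
  · rw [Submodule.smul_le]
    intro r hr m _
    have hr' : r ∈ Ideal.span (Set.range f) := by
      have : {x | x ∈ List.ofFn f} = Set.range f := by
        ext x; simp [List.mem_ofFn]
      rw [Ideal.ofList, this] at hr
      exact hr
    obtain ⟨c, rfl⟩ := (Ideal.mem_span_range_iff_exists_fun).1 hr'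
    refine ⟨fun i => c i • m, ?_⟩
    rw [sigmaMap_apply, Finset.sum_smul]
    refine Finset.sum_congr rfl fun i _ => ?_
    rw [smul_smul, mul_comm]
  · rintro _ ⟨m, rfl⟩
    rw [sigmaMap_apply]
    refine Submodule.sum_mem _ fun i _ => ?_
    refine Submodule.smul_mem_smul ?_ Submodule.mem_top
    exact Submodule.subset_span (by simp [List.mem_ofFn])

theorem sigmaMap_snoc {n : ℕ} (f : Fin (n + 1) → A) (m : Fin n → M) (x : M) :
    sigmaMap f M (Fin.snoc (α := fun _ => M) m x) =
      sigmaMap (Fin.init f) M m + f (Fin.last n) • x := by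
  rw [sigmaMap_apply, sigmaMap_apply, Fin.sum_univ_castSucc]
  simp [Fin.init]

/-- Koszul `H₁ = 0` passes to the initial segment, when the last element is in the Jacobson
radical and `M` is Noetherian. -/
theorem koszulH1Zero_init [IsNoetherian A M] {n : ℕ} (f : Fin (n + 1) → A)
    (hg : f (Fin.last n) ∈ (⊥ : Ideal A).jacobson) (h : CInt.KoszulH1Zero f M) :
    CInt.KoszulH1Zero (Fin.init f) M := by
  rw [koszulH1Zero_iff] at h ⊢
  have hfg : (LinearMap.ker (sigmaMap (Fin.init f) M)).FG := IsNoetherian.noetherian _
  refine Submodule.le_of_le_smul_of_le_jacobson_bot (I := Ideal.span {f (Fin.last n)}) hfg ?_ ?_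
  · rw [Ideal.span_le]; intro x hx; rw [Set.mem_singleton_iff] at hx; subst hx; exact hg
  · intro m' hm'
    rw [LinearMap.mem_ker] at hm'
    have hv : (Fin.snoc (α := fun _ => M) m' 0 : Fin (n + 1) → M) ∈ trivRel f M := by
      apply h
      rw [LinearMap.mem_ker, sigmaMap_snoc, hm', smul_zero, add_zero]
    obtain ⟨b', hb', y, h1, h2⟩ := trivRel_succ_decomp f _ hv
    rw [Fin.init_snoc] at h1
    rw [Fin.snoc_last] at h2
    have hy : y ∈ LinearMap.ker (sigmaMap (Fin.init f) M) := by
      rw [LinearMap.mem_ker]; exact neg_eq_zero.1 h2.symm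
    rw [h1]
    refine Submodule.add_mem_sup hb' ?_
    exact Submodule.smul_mem_smul (Ideal.subset_span rfl) hy

/-- The last element is regular modulo the initial segment when Koszul `H₁` vanishes. -/
theorem isSMulRegular_last_of_koszulH1Zero {n : ℕ} (f : Fin (n + 1) → A)
    (h : CInt.KoszulH1Zero f M) :
    IsSMulRegular (M ⧸ (Ideal.ofList (List.ofFn (Fin.init f)) • (⊤ : Submodule A M)))
      (f (Fin.last n)) := by
  rw [koszulH1Zero_iff] at h
  rw [isSMulRegular_quotient_iff_mem_of_smul_mem, ofList_ofFn_smul_top]
  intro x hx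
  obtain ⟨m, hm⟩ := hx
  have hv : (Fin.snoc (α := fun _ => M) (-m) x : Fin (n + 1) → M) ∈ trivRel f M := by
    apply h
    rw [LinearMap.mem_ker, sigmaMap_snoc, map_neg, hm, neg_add_cancel]
  obtain ⟨b', hb', y, h1, h2⟩ := trivRel_succ_decomp f _ hv
  rw [Fin.snoc_last] at h2
  rw [h2]
  exact ⟨-y, by rw [map_neg]⟩

theorem isWeaklyRegular_of_koszulH1Zero [IsNoetherianRing A] [Module.Finite A M] :
    ∀ {n : ℕ} (f : Fin n → A), (∀ i, f i ∈ (⊥ : Ideal A).jacobson) → CInt.KoszulH1Zero f M →
      IsWeaklyRegular M (List.ofFn f) := by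
  intro n
  induction n with
  | zero => intro f _ _; rw [List.ofFn_zero]; exact IsWeaklyRegular.nil A M
  | succ n ih =>
    intro f hrad h
    have h' := koszulH1Zero_init f (hrad _) h
    have hreg := isSMulRegular_last_of_koszulH1Zero f h
    rw [List.ofFn_succ', List.concat_eq_append, isWeaklyRegular_append_iff,
      isWeaklyRegular_singleton_iff]
    refine ⟨ih _ (fun i => hrad _) h', ?_⟩
    exact hreg

end

end Groth.Agent.Lib.Helper14
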