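import Groth.Agent.Lib.Helper14.SmoothFlatDescent
import Mathlib

/-!
# Fibre criterion for smoothness at a point

* `isSmoothAt_under_of_isPushout_field`: ring-level: `A` f.p. over `R`, `K` a field (as
  `IsField`), `F = A ⊗[R] K`, `Q` a prime of `F`; if `A` is flat over `R` at `q = Q ∩ A` and `F` is
  smooth over `K` at `Q`, then `A` is smooth over `R` at `q`.
* `mem_smoothLocus_of_isPullback`: smoothness at a point is stable under base change.
* `mem_smoothLocus_of_isPullback_field`: scheme-level fibre criterion, with the fibre taken over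
  an arbitrary field-valued point `Spec K ⟶ S`.
-/

set_option autoImplicit false
universe u
open CategoryTheory CategoryTheory.Limits AlgebraicGeometry TopologicalSpace TensorProduct

namespace Groth.Agent.Lib.Helper14

set_option linter.style.haveILetI false in
open Algebra IsLocalRing in
attribute [local instance] Algebra.TensorProduct.rightAlgebra in
/-- Fibre criterion for smoothness at a point, with the fibre taken over an arbitrary field-valued
point. -/
theorem isSmoothAt_under_of_isPushout_field {R A K F : Type u} [CommRing R] [CommRing A]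
    [CommRing K] [CommRing F] [Algebra R A] [Algebra R K] [Algebra A F] [Algebra K F]
    [Algebra R F] [IsScalarTower R A F] [IsScalarTower R K F] [Algebra.IsPushout R A K F]
    [Algebra.FinitePresentation R A] (hK : IsField K)
    (Q : Ideal F) [Q.IsPrime]
    (hflat : Module.Flat R (Localization.AtPrime (Q.under A)))
    (hsm : Algebra.IsSmoothAt K Q) : Algebra.IsSmoothAt R (Q.under A) := by
  let q : Ideal A := Q.under A
  let p : Ideal R := q.under R
  have hQK : ∀ x : K, algebraMap K F x ∈ Q → x = 0 := by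
    intro x hx
    by_contra hne
    obtain ⟨y, hy⟩ := hK.mul_inv_cancel hne
    have : algebraMap K F x * algebraMap K F y = 1 := by rw [← map_mul, hy, map_one]
    exact (Ideal.IsPrime.ne_top inferInstance) (Q.eq_top_of_isUnit_mem hx
      (IsUnit.of_mul_eq_one _ this))
  have hp : ∀ x : R, x ∈ p ↔ algebraMap R K x = 0 := by
    intro x
    constructor
    · intro hx
      apply hQK
      rw [← IsScalarTower.algebraMap_apply]
      have : algebraMap A F (algebraMap R A x) ∈ Q := hx
      rwa [← IsScalarTower.algebraMap_apply] at this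
    · intro hx
      show algebraMap A F (algebraMap R A x) ∈ Q
      rw [← IsScalarTower.algebraMap_apply, IsScalarTower.algebraMap_apply R K F, hx, map_zero]
      exact Q.zero_mem
  let k := p.ResidueField
  let φ : k →+* K := Ideal.ResidueField.lift p (algebraMap R K)
    (fun x hx => (hp x).mp hx) (fun x hx => by
      have : algebraMap R K x ≠ 0 := fun h => hx ((hp x).mpr h)
      obtain ⟨y, hy⟩ := hK.mul_inv_cancel this
      exact IsUnit.of_mul_eq_one _ hy)
  let _ : Algebra k K := φ.toAlgebra
  have : IsScalarTower R k K := .of_algebraMap_eq fun x => by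
    exact (Ideal.ResidueField.lift_algebraMap p (algebraMap R K) _ _ x).symm
  let _ : Algebra k F := ((algebraMap K F).comp (algebraMap k K)).toAlgebra
  have : IsScalarTower k K F := .of_algebraMap_eq' rfl
  have : IsScalarTower R k F := .to₁₂₄ R k K F
  let F₀ := p.Fiber A
  let ψ : F₀ →ₐ[k] F := Algebra.TensorProduct.lift (Algebra.ofId k F)
    (IsScalarTower.toAlgHom R A F) (fun _ _ => .all _ _)
  let _ : Algebra F₀ F := ψ.toRingHom.toAlgebra
  have : IsScalarTower k F₀ F := .of_algebraMap_eq' ψ.comp_algebraMap.symm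
  have : IsScalarTower A F₀ F := .of_algebraMap_eq fun a => by
    show algebraMap A F a = ψ (1 ⊗ₜ a)
    have h := Algebra.TensorProduct.lift_tmul (Algebra.ofId k F)
      (IsScalarTower.toAlgHom R A F) (fun _ _ => .all _ _) (1 : k) a
    rw [map_one, one_mul] at h
    exact h.symm
  have : IsScalarTower R F₀ F := .to₁₃₄ R k F₀ F
  have hpo : Algebra.IsPushout k K F₀ F :=
    (Algebra.IsPushout.comp_iff R k A F₀).mp (Algebra.IsPushout.symm inferInstance)
  let Q₀ : Ideal F₀ := Q.under F₀
  have hpo' : Algebra.IsPushout k F₀ K F := hpo.symm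
  have hflatK : Module.Flat k (Localization.AtPrime (Q.under K)) := inferInstance
  have hfp : Algebra.FinitePresentation k F₀ := inferInstance
  have hQ₀ : Algebra.IsSmoothAt k Q₀ :=
    isSmoothAt_under_of_isPushout_of_flat (R := k) (A := F₀) (S := K) (B := F) Q hflatK hsm
  let r : Ideal A := Q₀.comap (Algebra.TensorProduct.includeRight (R := R) (A := k) (B := A))
  have hr : r = q := by
    ext a
    show algebraMap F₀ F ((1 : k) ⊗ₜ[R] a) ∈ Q ↔ algebraMap A F a ∈ Q
    rw [IsScalarTower.algebraMap_apply A F₀ F]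
    rfl
  have key1 : ∀ (I J : Ideal A) [I.IsPrime] [J.IsPrime], I = J →
      Module.Flat R (Localization.AtPrime I) → Module.Flat R (Localization.AtPrime J) := by
    intro I J _ _ h; subst h; exact id
  have key2 : ∀ (I J : Ideal A) [I.IsPrime] [J.IsPrime], I = J →
      Algebra.IsSmoothAt R I → Algebra.IsSmoothAt R J := by
    intro I J _ _ h; subst h; exact id
  refine key2 r q hr ?_
  have hflat_r : Module.Flat R (Localization.AtPrime r) := key1 q r hr.symm hflat
  clear key1 key2
  have : r.LiesOver p := ⟨by rw [hr]⟩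
  let Rp := Localization.AtPrime p
  let Ar := Localization.AtPrime r
  let _ := Localization.AtPrime.algebraOfLiesOver p r
  let e5 : Localization.AtPrime Q₀ ≃ₐ[Rp] Ar ⧸ p.map (algebraMap R Ar) :=
    Ideal.Fiber.localizationAlgEquivQuotient p Q₀
  let m := maximalIdeal Rp
  have hm : p.map (algebraMap R Ar) = m.map (algebraMap Rp Ar) := by
    show _ = (maximalIdeal (Localization.AtPrime p)).map _
    rw [← Localization.AtPrime.map_eq_maximalIdeal, Ideal.map_map,
      ← IsScalarTower.algebraMap_eq]
  let e6 : (Ar ⧸ p.map (algebraMap R Ar)) ≃ₐ[Rp] (Ar ⧸ m.map (algebraMap Rp Ar)) :=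
    Ideal.quotientEquivAlgOfEq Rp hm
  let e7 : (Ar ⧸ m.map (algebraMap Rp Ar)) ≃ₐ[Rp] (Rp ⧸ m) ⊗[Rp] Ar :=
    (Algebra.TensorProduct.quotIdealMapEquivQuotTensor Ar m).restrictScalars Rp
  let e8 : Localization.AtPrime Q₀ ≃ₐ[Rp] (ResidueField Rp) ⊗[Rp] Ar := (e5.trans e6).trans e7
  have : IsScalarTower Rp k (Localization.AtPrime Q₀) := inferInstance
  let e9 : Localization.AtPrime Q₀ ≃ₐ[ResidueField Rp] (ResidueField Rp) ⊗[Rp] Ar :=
    AlgEquiv.extendScalarsOfSurjective (IsLocalRing.residue_surjective) e8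
  have hfs : Algebra.FormallySmooth (ResidueField Rp) ((ResidueField Rp) ⊗[Rp] Ar) :=
    Algebra.FormallySmooth.of_equiv (R := ResidueField Rp) (A := Localization.AtPrime Q₀) e9
  let Ap := Localization (algebraMapSubmonoid A p.primeCompl)
  let f : Ap →ₐ[A] Ar := IsLocalization.liftAlgHom (M := algebraMapSubmonoid A p.primeCompl)
        (f := Algebra.ofId _ _) (by
      rintro ⟨_, x, hx, rfl⟩
      simpa using! IsLocalization.map_units (M := r.primeCompl) Ar ⟨algebraMap _ _ x,
        by simp_all [r.over_def p]⟩)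
  algebraize [f.toRingHom]
  have : IsScalarTower R Ap Ar := .to₁₃₄ _ A _ _
  have : IsScalarTower Rp Ap Ar := .of_algebraMap_eq' <| by
    apply IsLocalization.ringHom_ext p.primeCompl
    simp only [RingHom.comp_assoc, ← IsScalarTower.algebraMap_eq]
  have : IsLocalization (algebraMapSubmonoid Ap r.primeCompl) Ar :=
    .isLocalization_of_submonoid_le _ _ (algebraMapSubmonoid A p.primeCompl) _
    (by rintro _ ⟨x, hx, rfl⟩; simp_all [r.over_def p])
  have : FinitePresentation Rp Ap := by
    have : Algebra.IsPushout R Rp A Ap :=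
      .symm <| Algebra.isPushout_of_isLocalization p.primeCompl _ _ _
    exact .equiv (Algebra.IsPushout.equiv R Rp A Ap)
  have : Module.Flat Rp Ar := (Module.flat_iff_of_isLocalization Rp p.primeCompl Ar).mpr hflat_r
  have := FormallySmooth.of_formallySmooth_residueField_tensor
    (R := Rp) (S := Ar) (P := Ap) (algebraMapSubmonoid _ r.primeCompl)
  exact .comp R Rp Ar

theorem subsingleton_primeSpectrum_of_isField {K : Type*} [CommRing K] (hK : IsField K) :
    Subsingleton (PrimeSpectrum K) := by
  refine ⟨fun a b => PrimeSpectrum.ext ?_⟩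
  have : ∀ c : PrimeSpectrum K, c.asIdeal = ⊥ := fun c => by
    rw [eq_bot_iff]
    intro x hx
    by_contra hne
    obtain ⟨y, hy⟩ := hK.mul_inv_cancel hne
    exact c.2.ne_top (c.asIdeal.eq_top_of_isUnit_mem hx (IsUnit.of_mul_eq_one _ hy))
  rw [this a, this b]

/-- Smoothness at a point is stable under base change. -/
theorem mem_smoothLocus_of_isPullback {P X S S' : Scheme.{u}} {g' : P ⟶ X}
    {f' : P ⟶ S'} {f : X ⟶ S} {g : S' ⟶ S} (H : IsPullback g' f' f g)
    [LocallyOfFinitePresentation f] [LocallyOfFinitePresentation f'] (x' : P)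
    (hx : g' x' ∈ f.smoothLocus) : x' ∈ f'.smoothLocus := by
  obtain ⟨U, hxU, hU⟩ := (exists_smooth_nhd_iff_mem_smoothLocus f _).mpr hx
  rw [← exists_smooth_nhd_iff_mem_smoothLocus]
  refine ⟨g' ⁻¹ᵁ U, hxU, ?_⟩
  have h1 := (isPullback_morphismRestrict g' U).paste_vert H
  exact MorphismProperty.of_isPullback (P := @Smooth) h1 hU

set_option backward.isDefEq.respectTransparency.types false in
/-- Fibre criterion for smoothness at a point, with the fibre taken over an arbitrary
field-valued point of the base. -/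
theorem mem_smoothLocus_of_isPullback_field {P X S : Scheme.{u}} {K : CommRingCat.{u}}
    (hK : IsField K) {g' : P ⟶ X} {f' : P ⟶ Spec K} {f : X ⟶ S} {g : Spec K ⟶ S}
    (H : IsPullback g' f' f g)
    [LocallyOfFinitePresentation f] [LocallyOfFinitePresentation f'] (x' : P) (x : X)
    (hx : g' x' = x) (hflat : (f.stalkMap x).hom.Flat) (hx' : x' ∈ f'.smoothLocus) :
    x ∈ f.smoothLocus := by
  subst hx
  obtain ⟨W, hW, hxW, -⟩ := Opens.isBasis_iff_nbhd.mp S.isBasis_affineOpens
    (Opens.mem_top (f (g' x')))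
  obtain ⟨V, hV, hxV, eV⟩ := Opens.isBasis_iff_nbhd.mp X.isBasis_affineOpens
    (show g' x' ∈ f ⁻¹ᵁ W from hxW)
  have hgf : g (f' x') = f (g' x') := by
    rw [← Scheme.Hom.comp_apply, ← Scheme.Hom.comp_apply, H.w]
  have hsub : Subsingleton (Spec K) := subsingleton_primeSpectrum_of_isField hK
  let W' : (Spec K).Opens := ⊤
  have hW' : IsAffineOpen W' := isAffineOpen_top (Spec K)
  have hxW' : f' x' ∈ W' := trivial
  have eW' : W' ≤ g ⁻¹ᵁ W := fun z _ => by
    have : z = f' x' := Subsingleton.elim _ _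
    rw [this]
    show g (f' x') ∈ W
    rw [hgf]; exact hxW
  set UY : P.Opens := g' ⁻¹ᵁ V ⊓ f' ⁻¹ᵁ W' with hUYdef
  have hxUY : x' ∈ UY := ⟨hxV, hxW'⟩
  have e1 : UY ≤ g' ⁻¹ᵁ V := inf_le_left
  have e2 : UY ≤ f' ⁻¹ᵁ W' := inf_le_right
  have hiso := isIso_pushoutSection_of_isAffineOpen H eW' eV hUYdef hW hW' hV
  have hpush := (isIso_pushoutSection_iff H eW' eV hUYdef).mp hiso
  have hUY : IsAffineOpen UY := by
    have : IsAffine (Scheme.Opens.toScheme W) := hW
    have : IsAffine (Scheme.Opens.toScheme W') := hW'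
    have : IsAffine (Scheme.Opens.toScheme V) := hV
    exact .of_isIso (Scheme.Hom.isPullback_resLE H eW' eV hUYdef).isoPullback.hom
  have hKW' : IsField Γ(Spec K, W') :=
    MulEquiv.isField hK (Scheme.ΓSpecIso K).commRingCatIsoToRingEquiv.toMulEquiv
  rw [Scheme.Hom.mem_smoothLocus, formallySmooth_stalkMap_iff W hW V hV eV hxV]
  rw [Scheme.Hom.mem_smoothLocus, formallySmooth_stalkMap_iff W' hW' UY hUY e2 hxUY] at hx'
  rw [flat_stalkMap_iff_flat_localization f W hW V hV eV (g' x') hxV] at hflat
  have hfp : (f.appLE W V eV).hom.FinitePresentation := f.finitePresentation_appLE hW hV eV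
  algebraize [(f.appLE W V eV).hom, (g.appLE W W' eW').hom, (g'.appLE V UY e1).hom,
    (f'.appLE W' UY e2).hom, ((g'.appLE V UY e1).hom.comp (f.appLE W V eV).hom)]
  have : IsScalarTower Γ(S, W) Γ(X, V) Γ(P, UY) := .of_algebraMap_eq' rfl
  have : IsScalarTower Γ(S, W) Γ(Spec K, W') Γ(P, UY) :=
    .of_algebraMap_eq' congr($(hpush.w).hom)
  have hP : Algebra.IsPushout Γ(S, W) Γ(X, V) Γ(Spec K, W') Γ(P, UY) :=
    CommRingCat.isPushout_iff_isPushout.mp hpush
  have hq2 := congr($(IsAffineOpen.comap_primeIdealOf_appLE V hV UY hUY e1 hxUY).1)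
  simp only [PrimeSpectrum.comap_asIdeal] at hq2
  have key : ∀ (I J : Ideal Γ(X, V)) [I.IsPrime] [J.IsPrime], I = J →
      Module.Flat Γ(S, W) (Localization.AtPrime I) →
      Module.Flat Γ(S, W) (Localization.AtPrime J) := by
    intro I J _ _ h; subst h; exact id
  have key2 : ∀ (I J : Ideal Γ(X, V)) [I.IsPrime] [J.IsPrime], I = J →
      Algebra.IsSmoothAt Γ(S, W) I → Algebra.IsSmoothAt Γ(S, W) J := by
    intro I J _ _ h; subst h; exact id
  have main := isSmoothAt_under_of_isPushout_field (R := Γ(S, W)) (A := Γ(X, V))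
    (K := Γ(Spec K, W')) (F := Γ(P, UY)) hKW' (hUY.primeIdealOf ⟨x', hxUY⟩).asIdeal
    (key _ _ hq2.symm hflat) hx'
  exact key2 _ _ hq2 main

end Groth.Agent.Lib.Helper14
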