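import Groth.Agent.Lib.Helper14.UnramBaseChange
import Groth.Agent.Lib.Helper14.FlatDesc
import Mathlib

/-!
# Flatness at a point and base change

* `flat_localization_of_isPushout`: ring-level: flatness at a prime is stable under base change.
* `localRingHom_flat_iff`, `flat_stalkMap_iff_flat_localization`: bridges between stalk maps and
  flatness of localizations on affine charts.
* `flat_stalkMap_fst_of_isPullback`: in a cartesian square, if `g` is flat at `f' x'` then the
  projection `g'` is flat at `x'`.
* `flat_stalkMap_of_commSq`: descent of flatness of stalk maps along a commutative square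
  (same statement as `Groth.Agent.Lib.Helper24.flat_stalkMap_of_commSq`).
-/

set_option autoImplicit false
universe u
open CategoryTheory CategoryTheory.Limits AlgebraicGeometry TopologicalSpace

namespace Groth.Agent.Lib.Helper14

open Algebra in
/-- Flatness at a point is stable under base change: if `B = A ⊗[R] S`, `q'` is a prime of `B`
and `S` localized at the contraction of `q'` is flat over `R`, then `B` localized at `q'` is flat
over `A`. -/
theorem flat_localization_of_isPushout {R A S B : Type u} [CommRing R] [CommRing A] [CommRing S]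
    [CommRing B] [Algebra R A] [Algebra R S] [Algebra A B] [Algebra S B] [Algebra R B]
    [IsScalarTower R A B] [IsScalarTower R S B] [Algebra.IsPushout R A S B]
    (q' : Ideal B) [q'.IsPrime]
    (hflat : Module.Flat R (Localization.AtPrime (q'.under S))) :
    Module.Flat A (Localization.AtPrime q') := by
  let p' : Ideal S := q'.under S
  have : q'.LiesOver p' := ⟨rfl⟩
  let Sp := Localization.AtPrime p'
  let Bp := Localization (algebraMapSubmonoid B p'.primeCompl)
  let Bq := Localization.AtPrime q'
  let f : Bp →ₐ[B] Bq := IsLocalization.liftAlgHom (M := algebraMapSubmonoid B p'.primeCompl)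
        (f := Algebra.ofId _ _) (by
      rintro ⟨_, x, hx, rfl⟩
      simpa using! IsLocalization.map_units (M := q'.primeCompl) Bq ⟨algebraMap _ _ x,
        by simp_all [q'.over_def p']⟩)
  algebraize [f.toRingHom]
  have : IsLocalization (algebraMapSubmonoid Bp q'.primeCompl) Bq :=
    .isLocalization_of_submonoid_le _ _ (algebraMapSubmonoid B p'.primeCompl) _
    (by rintro _ ⟨x, hx, rfl⟩; simp_all [q'.over_def p'])
  have h1 : Algebra.IsPushout S B Sp Bp := Algebra.isPushout_of_isLocalization p'.primeCompl _ _ _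
  have h2 : Algebra.IsPushout S Sp B Bp := h1.symm
  have h0 : Algebra.IsPushout R S A B := Algebra.IsPushout.symm inferInstance
  have : IsScalarTower R S Bp := inferInstance
  have : IsScalarTower S Sp Bp := inferInstance
  have : IsScalarTower R Sp Bp := .to₁₃₄ R S Sp Bp
  have h3 : Algebra.IsPushout R Sp A Bp := (Algebra.IsPushout.comp_iff R S A B).mpr h2
  have h4 : Algebra.IsPushout R A Sp Bp := h3.symm
  have hflatBp : Module.Flat A Bp := Module.Flat.isBaseChange R A Sp Bp h4.out
  have : Module.Flat Bp Bq := IsLocalization.flat Bq (algebraMapSubmonoid Bp q'.primeCompl)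
  have : IsScalarTower A Bp Bq := .to₁₃₄ _ B _ _
  exact Module.Flat.trans A Bp Bq

/-- Ring-level: the local ring hom at a prime is flat iff the localization is flat over the
base. -/
theorem localRingHom_flat_iff {R B : Type u} [CommRing R] [CommRing B]
    (φ : R →+* B) (Q : Ideal B) [Q.IsPrime] (p : Ideal R) [p.IsPrime] (hpQ : p = Q.comap φ) :
    (Localization.localRingHom p Q φ hpQ).Flat ↔
      letI := φ.toAlgebra
      Module.Flat R (Localization.AtPrime Q) := by
  algebraize [φ]
  have hcomp : algebraMap R (Localization.AtPrime Q) =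
      (Localization.localRingHom p Q φ hpQ).comp (algebraMap R (Localization.AtPrime p)) := by
    ext x
    rw [RingHom.comp_apply, Localization.localRingHom_to_map,
      IsScalarTower.algebraMap_apply R B (Localization.AtPrime Q)]
    rfl
  show _ ↔ Module.Flat R (Localization.AtPrime Q)
  algebraize [Localization.localRingHom p Q φ hpQ]
  have : IsScalarTower R (Localization.AtPrime p) (Localization.AtPrime Q) :=
    .of_algebraMap_eq' hcomp
  have h1 : (Localization.localRingHom p Q φ hpQ).Flat ↔
      Module.Flat (Localization.AtPrime p) (Localization.AtPrime Q) :=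
    RingHom.flat_algebraMap_iff (R := Localization.AtPrime p) (S := Localization.AtPrime Q)
  rw [h1]
  exact Module.flat_iff_of_isLocalization (Localization.AtPrime p) p.primeCompl
    (Localization.AtPrime Q)

set_option backward.isDefEq.respectTransparency.types false in
/-- Bridge between flatness of stalk maps and flatness of localizations on affine charts. -/
theorem flat_stalkMap_iff_flat_localization {Y S : Scheme.{u}} (h : Y ⟶ S)
    (U : S.Opens) (hU : IsAffineOpen U) (W : Y.Opens) (hW : IsAffineOpen W) (e : W ≤ h ⁻¹ᵁ U)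
    (y : Y) (hyW : y ∈ W) :
    (h.stalkMap y).hom.Flat ↔
      letI := (h.appLE U W e).hom.toAlgebra
      Module.Flat Γ(S, U) (Localization.AtPrime (hW.primeIdealOf ⟨y, hyW⟩).asIdeal) := by
  have iso := IsAffineOpen.arrowStalkMapIso h U hU W hW e hyW
  rw [RingHom.Flat.respectsIso.arrow_mk_iso_iff iso]
  exact localRingHom_flat_iff (h.appLE U W e).hom
    (hW.primeIdealOf ⟨y, hyW⟩).asIdeal (hU.primeIdealOf ⟨h y, e hyW⟩).asIdeal
    (congr($(IsAffineOpen.comap_primeIdealOf_appLE U hU W hW e hyW).1).symm)

set_option backward.isDefEq.respectTransparency.types false in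
/-- Flatness at a point is stable under base change: in a cartesian square, if `g` is flat at
`f' x'` then the projection `g'` is flat at `x'`. -/
theorem flat_stalkMap_fst_of_isPullback {P X S S' : Scheme.{u}} {g' : P ⟶ X}
    {f' : P ⟶ S'} {f : X ⟶ S} {g : S' ⟶ S} (H : IsPullback g' f' f g) (x' : P)
    (hg : (g.stalkMap (f' x')).hom.Flat) : (g'.stalkMap x').hom.Flat := by
  obtain ⟨W, hW, hxW, -⟩ := Opens.isBasis_iff_nbhd.mp S.isBasis_affineOpens
    (Opens.mem_top (f (g' x')))
  obtain ⟨V, hV, hxV, eV⟩ := Opens.isBasis_iff_nbhd.mp X.isBasis_affineOpens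
    (show g' x' ∈ f ⁻¹ᵁ W from hxW)
  have hgf : g (f' x') = f (g' x') := by
    rw [← Scheme.Hom.comp_apply, ← Scheme.Hom.comp_apply, H.w]
  obtain ⟨W', hW', hxW', eW'⟩ := Opens.isBasis_iff_nbhd.mp S'.isBasis_affineOpens
    (show f' x' ∈ g ⁻¹ᵁ W from by
      show g (f' x') ∈ W
      rw [hgf]; exact hxW)
  set UY : P.Opens := g' ⁻¹ᵁ V ⊓ f' ⁻¹ᵁ W' with hUYdef
  have hxUY : x' ∈ UY := ⟨hxV, hxW'⟩
  have e1 : UY ≤ g' ⁻¹ᵁ V := inf_le_left
  have e2 : UY ≤ f' ⁻¹ᵁ W' := inf_le_right
  have hiso := isIso_pushoutSection_of_isAffineOpen H eW' eV hUYdef hW hW' hV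
  have hpush := (isIso_pushoutSection_iff H eW' eV hUYdef).mp hiso
  have hUY : IsAffineOpen UY := by
    have : IsAffine (Scheme.Opens.toScheme W) := hW
    have : IsAffine (Scheme.Opens.toScheme W') := hW'
    have : IsAffine (Scheme.Opens.toScheme V) := hV
    exact .of_isIso (Scheme.Hom.isPullback_resLE H eW' eV hUYdef).isoPullback.hom
  rw [flat_stalkMap_iff_flat_localization g' V hV UY hUY e1 x' hxUY]
  rw [flat_stalkMap_iff_flat_localization g W hW W' hW' eW' (f' x') hxW'] at hg
  algebraize [(f.appLE W V eV).hom, (g.appLE W W' eW').hom, (g'.appLE V UY e1).hom,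
    (f'.appLE W' UY e2).hom, ((g'.appLE V UY e1).hom.comp (f.appLE W V eV).hom)]
  have : IsScalarTower Γ(S, W) Γ(X, V) Γ(P, UY) := .of_algebraMap_eq' rfl
  have : IsScalarTower Γ(S, W) Γ(S', W') Γ(P, UY) :=
    .of_algebraMap_eq' congr($(hpush.w).hom)
  have hP : Algebra.IsPushout Γ(S, W) Γ(X, V) Γ(S', W') Γ(P, UY) :=
    CommRingCat.isPushout_iff_isPushout.mp hpush
  have hq := congr($(IsAffineOpen.comap_primeIdealOf_appLE W' hW' UY hUY e2 hxUY).1)
  simp only [PrimeSpectrum.comap_asIdeal] at hq
  have key : ∀ (I J : Ideal Γ(S', W')) [I.IsPrime] [J.IsPrime], I = J →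
      Module.Flat Γ(S, W) (Localization.AtPrime I) →
      Module.Flat Γ(S, W) (Localization.AtPrime J) := by
    intro I J _ _ h; subst h; exact id
  exact flat_localization_of_isPushout (R := Γ(S, W)) (A := Γ(X, V)) (S := Γ(S', W'))
    (B := Γ(P, UY)) (hUY.primeIdealOf ⟨x', hxUY⟩).asIdeal (key _ _ hq.symm hg)

/-- Flatness of a stalk map descends along a commutative square whose other three stalk maps
are flat. -/
theorem flat_stalkMap_of_commSq {P X Y Y' : Scheme.{u}} {fst : P ⟶ X} {snd : P ⟶ Y'}
    {f : X ⟶ Y} {g : Y' ⟶ Y} (w : fst ≫ f = snd ≫ g) (p : P)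
    (h1 : (fst.stalkMap p).hom.Flat) (h2 : (snd.stalkMap p).hom.Flat)
    (h3 : (g.stalkMap (snd p)).hom.Flat) :
    (f.stalkMap (fst p)).hom.Flat := by
  have h23 : ((snd ≫ g).stalkMap p).hom.Flat := by
    have := RingHom.Flat.comp h3 h2
    rw [← CommRingCat.hom_comp, ← Scheme.Hom.stalkMap_comp] at this
    exact this
  have h4 : ((fst ≫ f).stalkMap p).hom.Flat := by
    rw [Scheme.Hom.stalkMap_congr_hom _ _ w, CommRingCat.hom_comp,
      RingHom.Flat.respectsIso.cancel_left_isIso]
    exact h23
  have h5 : ((fst.stalkMap p).hom.comp (f.stalkMap (fst p)).hom).Flat := by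
    rw [← CommRingCat.hom_comp, ← Scheme.Hom.stalkMap_comp]
    exact h4
  algebraize [(f.stalkMap (fst p)).hom, (fst.stalkMap p).hom,
    (fst.stalkMap p).hom.comp (f.stalkMap (fst p)).hom]
  have : IsLocalHom (algebraMap (X.presheaf.stalk (fst p)) (P.presheaf.stalk p)) :=
    inferInstanceAs (IsLocalHom (fst.stalkMap p).hom)
  have : Module.FaithfullyFlat (X.presheaf.stalk (fst p)) (P.presheaf.stalk p) :=
    .of_flat_of_isLocalHom
  exact flat_of_faithfullyFlat_of_flat _ (X.presheaf.stalk (fst p)) (P.presheaf.stalk p)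

end Groth.Agent.Lib.Helper14
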