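import Mathlib

/-! Generizations of a point `x` of a scheme as points of `Spec 𝒪_{X,x}`; coheight/height bridge;
height of a prime minimal over a regular sequence; S2881 main statement (helper14). -/

universe u

set_option linter.style.haveILetI false

namespace Groth.Agent.Lib.Helper14

open RingTheory.Sequence

theorem height_eq_length_of_minimal_over_regular {R : Type u} [CommRing R] [IsNoetherianRing R]
    (rs : List R) (reg : IsWeaklyRegular R rs) (P : Ideal R) [P.IsPrime]
    (hP : P ∈ (Ideal.ofList rs).minimalPrimes) : P.height = rs.length := by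
  classical
  apply le_antisymm
  · have h1 : (Ideal.ofList rs) = Ideal.span (rs.toFinset : Set R) := by
      rw [List.coe_toFinset]
    rw [h1] at hP
    refine (Ideal.height_le_card_of_mem_minimalPrimes_span_finset hP).trans ?_
    exact_mod_cast List.toFinset_card_le rs
  · let S := Localization.AtPrime P
    have hmem : ∀ r ∈ rs, r ∈ P := fun r hr => hP.1.2 (Ideal.subset_span hr)
    have hreg : IsRegular S (rs.map (algebraMap R S)) :=
      reg.isRegular_of_isLocalization_of_mem S P hmem
    have h1 := ringKrullDim_add_length_eq_ringKrullDim_of_isRegular _ hreg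
    rw [List.length_map, IsLocalization.AtPrime.ringKrullDim_eq_height P S] at h1
    have hne : Ideal.ofList (rs.map (algebraMap R S)) ≠ ⊤ := by
      intro h
      apply hreg.2
      rw [h]
      simp
    haveI : Nontrivial (S ⧸ Ideal.ofList (rs.map (algebraMap R S))) :=
      Ideal.Quotient.nontrivial_iff.mpr hne
    have h0 : (0 : WithBot ℕ∞) ≤ ringKrullDim (S ⧸ Ideal.ofList (rs.map (algebraMap R S))) :=
      ringKrullDim_nonneg_of_nontrivial
    have h2 : ((rs.length : ℕ∞) : WithBot ℕ∞) ≤ (P.height : WithBot ℕ∞) := by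
      rw [← h1]
      exact le_add_of_nonneg_left h0
    exact_mod_cast h2

open AlgebraicGeometry CategoryTheory IsLocalRing

/-- the point of `Spec 𝒪_{X,x}` corresponding to a generization `x'` of `x` -/
noncomputable def genPt {X : Scheme.{u}} {x x' : X} (h : x' ⤳ x) : Spec (X.presheaf.stalk x) :=
  Spec.map (X.presheaf.stalkSpecializes h) (closedPoint (X.presheaf.stalk x'))

theorem fromSpecStalk_genPt {X : Scheme.{u}} {x x' : X} (h : x' ⤳ x) :
    X.fromSpecStalk x (genPt h) = x' := by
  have := Scheme.fromSpecStalk_closedPoint (X := X) (x := x')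
  rw [← Scheme.SpecMap_stalkSpecializes_fromSpecStalk h] at this
  exact this

theorem genPt_asIdeal {X : Scheme.{u}} {x x' : X} (h : x' ⤳ x) :
    (genPt h).asIdeal = (maximalIdeal (X.presheaf.stalk x')).comap
      (X.presheaf.stalkSpecializes h).hom := rfl

theorem eq_genPt {X : Scheme.{u}} {x : X} (w : Spec (X.presheaf.stalk x))
    (h : X.fromSpecStalk x w ⤳ x) : w = genPt h :=
  (X.fromSpecStalk x).isEmbedding.injective (fromSpecStalk_genPt h).symm

theorem fromSpecStalk_specializes {X : Scheme.{u}} {x : X} (w : Spec (X.presheaf.stalk x)) :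
    X.fromSpecStalk x w ⤳ x := by
  have : X.fromSpecStalk x w ∈ Set.range (X.fromSpecStalk x) := ⟨w, rfl⟩
  rw [Scheme.range_fromSpecStalk] at this
  exact this

theorem coheight_fromSpecStalk {X : Scheme.{u}} {x : X} (w : Spec (X.presheaf.stalk x)) :
    Order.coheight (X.fromSpecStalk x w) = Order.coheight w := by
  have hind := (X.fromSpecStalk x).isEmbedding.isInducing
  symm
  refine Order.coheight_eq_of_strictMono (X.fromSpecStalk x) ?_ ?_ w
  · intro a a' haa'
    refine ⟨haa'.1.map (X.fromSpecStalk x).continuous, fun h => haa'.2 ?_⟩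
    exact hind.specializes_iff.mp h
  · intro a b hab
    have hb : b ∈ Set.range (X.fromSpecStalk x) := by
      rw [Scheme.range_fromSpecStalk]
      exact hab.1.trans (fromSpecStalk_specializes a)
    obtain ⟨a', rfl⟩ := hb
    exact ⟨a', ⟨hind.specializes_iff.mp hab.1, fun h => hab.2 (h.map (X.fromSpecStalk x).continuous)⟩, rfl⟩

theorem main_S2881 {X Y : Scheme.{u}} [IsLocallyNoetherian X] (i : Y ⟶ X) [IsClosedImmersion i] (y : ↥Y)
    (rs : List ↑(X.presheaf.stalk (i y))) (hreg : RingTheory.Sequence.IsRegular ↑(X.presheaf.stalk (i y)) rs)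
    (hker : RingHom.ker (i.stalkMap y).hom = Ideal.ofList rs) (z : ↥Y) (hzy : z ⤳ y)
    (hmax : ∀ z' : ↥Y, z' ⤳ z → z' = z) : ringKrullDim (X.presheaf.stalk (i z)) = rs.length := by
  have hzx : i z ⤳ i y := hzy.map i.continuous
  -- the prime of `i z`
  set w := genPt hzx with hw
  have hjw : X.fromSpecStalk (i y) w = i z := fromSpecStalk_genPt hzx
  -- range of i = support of ker
  have hrange : ∀ x' : X, x' ∈ Set.range i ↔ x' ∈ i.ker.support := by
    intro x'
    have h1 := Scheme.Hom.support_ker i
    rw [i.isClosedEmbedding.isClosed_range.closure_eq] at h1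
    rw [← h1]
    rfl
  -- minimality
  have hmin : w.asIdeal ∈ (Ideal.ofList rs).minimalPrimes := by
    rw [← hker]
    refine ⟨⟨w.isPrime, ?_⟩, ?_⟩
    · -- ker ≤ P
      intro f hf
      rw [hw, genPt_asIdeal, Ideal.mem_comap, mem_maximalIdeal, mem_nonunits_iff]
      intro hunit
      have h1 := i.stalkSpecializes_stalkMap_apply z y hzy f
      rw [RingHom.mem_ker] at hf
      have h2 : (i.stalkMap y).hom f = 0 := hf
      rw [show (ConcreteCategory.hom (i.stalkMap y)) f = 0 from h2, map_zero] at h1
      have h3 : IsUnit ((ConcreteCategory.hom (i.stalkMap z))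
          ((ConcreteCategory.hom (X.presheaf.stalkSpecializes hzx)) f)) := hunit.map _
      rw [h1] at h3
      exact not_isUnit_zero h3
    · rintro q ⟨hq, hIq⟩ hqP
      -- the point of q
      let w' : Spec (X.presheaf.stalk (i y)) := ⟨q, hq⟩
      have hw'x : X.fromSpecStalk (i y) w' ⤳ i y := fromSpecStalk_specializes w'
      have hw'w : w' ⤳ w := (PrimeSpectrum.le_iff_specializes w' w).mp hqP
      have hx'z : X.fromSpecStalk (i y) w' ⤳ i z := by
        rw [← hjw]
        exact hw'w.map (X.fromSpecStalk (i y)).continuous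
      -- x' in range i
      have hx'range : X.fromSpecStalk (i y) w' ∈ Set.range i := by
        by_contra hnot
        rw [hrange] at hnot
        obtain ⟨U, hU, hxU⟩ : ∃ U : X.Opens, IsAffineOpen U ∧ i y ∈ U := by
          obtain ⟨_, ⟨U, hU, rfl⟩, hyU, -⟩ :=
            X.isBasis_affineOpens.exists_subset_of_mem_open (Set.mem_univ (i y)) isOpen_univ
          exact ⟨U, hU, hyU⟩
        have hx'U : X.fromSpecStalk (i y) w' ∈ U := hw'x.mem_open U.2 hxU
        rw [Scheme.IdealSheafData.mem_support_iff_of_mem (U := ⟨U, hU⟩) hx'U,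
          Scheme.mem_zeroLocus_iff] at hnot
        simp only [not_forall, not_not] at hnot
        obtain ⟨b, hb, hx'b⟩ := hnot
        rw [SetLike.mem_coe, Scheme.Hom.ker_apply, RingHom.mem_ker] at hb
        -- the germ of b
        have hfI : (X.presheaf.germ U (i y) hxU).hom b ∈ RingHom.ker (i.stalkMap y).hom := by
          rw [RingHom.mem_ker]
          have := i.germ_stalkMap_apply U y hxU b
          change (ConcreteCategory.hom (i.stalkMap y)) ((ConcreteCategory.hom (X.presheaf.germ U (i y) hxU)) b) = 0
          rw [this]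
          change (ConcreteCategory.hom (Y.presheaf.germ (i ⁻¹ᵁ U) y hxU)) ((i.app U).hom b) = 0
          rw [hb, map_zero]
        have hfq := hIq hfI
        have hq' : q = (genPt hw'x).asIdeal := congrArg PrimeSpectrum.asIdeal (eq_genPt w' hw'x)
        rw [hq', genPt_asIdeal, Ideal.mem_comap, mem_maximalIdeal, mem_nonunits_iff] at hfq
        apply hfq
        have h4 := (Scheme.mem_basicOpen X b _ hx'U).mp hx'b
        have h5 := TopCat.Presheaf.germ_stalkSpecializes X.presheaf hxU hw'x
        have h6 : (X.presheaf.stalkSpecializes hw'x).hom ((X.presheaf.germ U (i y) hxU).hom b) =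
            (X.presheaf.germ U _ hx'U).hom b := by
          rw [← h5]
          rfl
        rw [h6]
        exact h4
      obtain ⟨z', hz'⟩ := hx'range
      have hz'z : z' ⤳ z := by
        rw [← i.isClosedEmbedding.isInducing.specializes_iff, hz']
        exact hx'z
      have hz'eq := hmax z' hz'z
      have hww' : w' = w := by
        apply (X.fromSpecStalk (i y)).isEmbedding.injective
        rw [hjw, ← hz', hz'eq]
      intro f hf
      have : f ∈ w'.asIdeal := by rw [hww']; exact hf
      exact this
  haveI : w.asIdeal.IsPrime := w.isPrime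
  have hheight := height_eq_length_of_minimal_over_regular rs hreg.1 w.asIdeal hmin
  rw [ringKrullDim_stalk_eq_coheight, ← hjw, coheight_fromSpecStalk, ← idealHeight_eq_coheight,
    hheight]
  rfl

end Groth.Agent.Lib.Helper14
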