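import Groth.Agent.Lib.Helper14.EtaleNhd
import Mathlib

/-!
# The unramified locus commutes with base change

* `mem_support_baseChange_iff`: support of the base change of a finite module.
* `isUnramifiedAt_iff_of_isPushout`: ring-level statement.
* `localRingHom_formallyUnramified_iff`, `formallyUnramified_stalkMap_iff_isUnramifiedAt`:
  bridges between stalk maps and `Algebra.IsUnramifiedAt` on affine charts.
* `formallyUnramified_stalkMap_iff_of_isPullback`: in a cartesian square with `f` locally of
  finite type, the stalk map of the base change `f'` at `x'` is formally unramified iff the stalk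
  map of `f` at the image of `x'` is.
* `exists_formallyUnramified_nhd_iff_stalkMap`: neighbourhood form vs stalk form.
-/

set_option autoImplicit false
universe u
open CategoryTheory CategoryTheory.Limits AlgebraicGeometry TopologicalSpace

namespace Groth.Agent.Lib.Helper14

open TensorProduct KaehlerDifferential

/-- Support of a base change of a finite module. -/
theorem mem_support_baseChange_iff {A B M : Type*} [CommRing A] [CommRing B] [Algebra A B]
    [AddCommGroup M] [Module A M] [Module.Finite A M] (q' : PrimeSpectrum B) :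
    q' ∈ Module.support B (B ⊗[A] M) ↔ q'.comap (algebraMap A B) ∈ Module.support A M := by
  set q := q'.comap (algebraMap A B) with hq
  have : q'.asIdeal.LiesOver q.asIdeal := ⟨rfl⟩
  let := Localization.AtPrime.algebraOfLiesOver q.asIdeal q'.asIdeal
  rw [Module.mem_support_iff_nontrivial_residueField_tensorProduct,
    Module.mem_support_iff_nontrivial_residueField_tensorProduct]
  let e1 : q'.asIdeal.ResidueField ⊗[B] (B ⊗[A] M) ≃ₗ[q'.asIdeal.ResidueField]
      q'.asIdeal.ResidueField ⊗[A] M :=
    AlgebraTensorModule.cancelBaseChange A B q'.asIdeal.ResidueField q'.asIdeal.ResidueField M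
  let e2 : q'.asIdeal.ResidueField ⊗[q.asIdeal.ResidueField] (q.asIdeal.ResidueField ⊗[A] M)
      ≃ₗ[q'.asIdeal.ResidueField] q'.asIdeal.ResidueField ⊗[A] M :=
    AlgebraTensorModule.cancelBaseChange A q.asIdeal.ResidueField q'.asIdeal.ResidueField
      q'.asIdeal.ResidueField M
  rw [e1.nontrivial_congr, ← e2.nontrivial_congr,
    ← Module.finrank_pos_iff (R := q'.asIdeal.ResidueField),
    ← Module.finrank_pos_iff (R := q.asIdeal.ResidueField), Module.finrank_baseChange]

/-- The unramified locus commutes with base change (for algebras of finite type). -/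
theorem isUnramifiedAt_iff_of_isPushout {R S A B : Type*} [CommRing R] [CommRing S] [CommRing A]
    [CommRing B] [Algebra R S] [Algebra R A] [Algebra S B] [Algebra A B] [Algebra R B]
    [IsScalarTower R S B] [IsScalarTower R A B] [Algebra.IsPushout R S A B]
    [Algebra.FiniteType R A] (q' : Ideal B) [q'.IsPrime] :
    Algebra.IsUnramifiedAt S q' ↔ Algebra.IsUnramifiedAt R (q'.comap (algebraMap A B)) := by
  have h1 : (⟨q', inferInstance⟩ : PrimeSpectrum B) ∈ Algebra.unramifiedLocus S B ↔
      Algebra.IsUnramifiedAt S q' := Iff.rfl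
  have h2 : ((⟨q', inferInstance⟩ : PrimeSpectrum B).comap (algebraMap A B)) ∈
      Algebra.unramifiedLocus R A ↔ Algebra.IsUnramifiedAt R (q'.comap (algebraMap A B)) := Iff.rfl
  rw [← h1, ← h2, Algebra.unramifiedLocus_eq_compl_support, Algebra.unramifiedLocus_eq_compl_support,
    Set.mem_compl_iff, Set.mem_compl_iff, not_iff_not,
    ← (tensorKaehlerEquiv R S A B).support_eq, mem_support_baseChange_iff]

/-- Ring-level: the local ring hom at a prime is formally unramified iff the algebra is unramified
at that prime. -/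
theorem localRingHom_formallyUnramified_iff {R B : Type u} [CommRing R] [CommRing B]
    (φ : R →+* B) (Q : Ideal B) [Q.IsPrime] (p : Ideal R) [p.IsPrime] (hpQ : p = Q.comap φ) :
    (Localization.localRingHom p Q φ hpQ).FormallyUnramified ↔
      letI := φ.toAlgebra
      Algebra.IsUnramifiedAt R Q := by
  algebraize [φ]
  have hcomp : algebraMap R (Localization.AtPrime Q) =
      (Localization.localRingHom p Q φ hpQ).comp (algebraMap R (Localization.AtPrime p)) := by
    ext x
    rw [RingHom.comp_apply, Localization.localRingHom_to_map,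
      IsScalarTower.algebraMap_apply R B (Localization.AtPrime Q)]
    rfl
  show _ ↔ Algebra.FormallyUnramified R (Localization.AtPrime Q)
  rw [← RingHom.formallyUnramified_algebraMap, hcomp]
  constructor
  · intro hun
    refine RingHom.FormallyUnramified.comp ?_ hun
    rw [RingHom.formallyUnramified_algebraMap]
    exact Algebra.FormallyUnramified.of_isLocalization p.primeCompl
  · intro h
    exact RingHom.FormallyUnramified.of_comp h

set_option backward.isDefEq.respectTransparency.types false in
/-- Bridge between stalk maps and `Algebra.IsUnramifiedAt` on affine charts. -/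
theorem formallyUnramified_stalkMap_iff_isUnramifiedAt {Y S : Scheme.{u}} (h : Y ⟶ S)
    (U : S.Opens) (hU : IsAffineOpen U) (W : Y.Opens) (hW : IsAffineOpen W) (e : W ≤ h ⁻¹ᵁ U)
    (y : Y) (hyW : y ∈ W) :
    (h.stalkMap y).hom.FormallyUnramified ↔
      letI := (h.appLE U W e).hom.toAlgebra
      Algebra.IsUnramifiedAt Γ(S, U) (hW.primeIdealOf ⟨y, hyW⟩).asIdeal := by
  have iso := IsAffineOpen.arrowStalkMapIso h U hU W hW e hyW
  rw [RingHom.FormallyUnramified.respectsIso.arrow_mk_iso_iff iso]
  exact localRingHom_formallyUnramified_iff (h.appLE U W e).hom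
    (hW.primeIdealOf ⟨y, hyW⟩).asIdeal (hU.primeIdealOf ⟨h y, e hyW⟩).asIdeal
    (congr($(IsAffineOpen.comap_primeIdealOf_appLE U hU W hW e hyW).1).symm)

set_option backward.isDefEq.respectTransparency.types false in
/-- The stalk map of a base change is formally unramified iff the stalk map of the original
morphism (locally of finite type) is, at the image point. -/
theorem formallyUnramified_stalkMap_iff_of_isPullback {P X S S' : Scheme.{u}} {g' : P ⟶ X}
    {f' : P ⟶ S'} {f : X ⟶ S} {g : S' ⟶ S} (H : IsPullback g' f' f g) [LocallyOfFiniteType f]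
    (x' : P) :
    (f'.stalkMap x').hom.FormallyUnramified ↔ (f.stalkMap (g' x')).hom.FormallyUnramified := by
  obtain ⟨W, hW, hxW, -⟩ := Opens.isBasis_iff_nbhd.mp S.isBasis_affineOpens
    (Opens.mem_top (f (g' x')))
  obtain ⟨V, hV, hxV, eV⟩ := Opens.isBasis_iff_nbhd.mp X.isBasis_affineOpens
    (show g' x' ∈ f ⁻¹ᵁ W from hxW)
  have hgf : g (f' x') = f (g' x') := by
    rw [← Scheme.Hom.comp_apply, ← Scheme.Hom.comp_apply, H.w]
  obtain ⟨W', hW', hxW', eW'⟩ := Opens.isBasis_iff_nbhd.mp S'.isBasis_affineOpens
    (show f' x' ∈ g ⁻¹ᵁ W from by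
      show g (f' x') ∈ W
      rw [hgf]; exact hxW)
  set UY : P.Opens := g' ⁻¹ᵁ V ⊓ f' ⁻¹ᵁ W' with hUYdef
  have hxUY : x' ∈ UY := ⟨hxV, hxW'⟩
  have e1 : UY ≤ g' ⁻¹ᵁ V := inf_le_left
  have e2 : UY ≤ f' ⁻¹ᵁ W' := inf_le_right
  have hiso := isIso_pushoutSection_of_isAffineOpen H eW' eV hUYdef hW hW' hV
  have hpush := (isIso_pushoutSection_iff H eW' eV hUYdef).mp hiso
  have hUY : IsAffineOpen UY := by
    have : IsAffine (Scheme.Opens.toScheme W) := hW
    have : IsAffine (Scheme.Opens.toScheme W') := hW'
    have : IsAffine (Scheme.Opens.toScheme V) := hV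
    exact .of_isIso (Scheme.Hom.isPullback_resLE H eW' eV hUYdef).isoPullback.hom
  rw [formallyUnramified_stalkMap_iff_isUnramifiedAt f' W' hW' UY hUY e2 x' hxUY,
    formallyUnramified_stalkMap_iff_isUnramifiedAt f W hW V hV eV (g' x') hxV]
  have hft : (f.appLE W V eV).hom.FiniteType := f.finiteType_appLE hW hV eV
  algebraize [(f.appLE W V eV).hom, (g.appLE W W' eW').hom, (g'.appLE V UY e1).hom,
    (f'.appLE W' UY e2).hom, ((g'.appLE V UY e1).hom.comp (f.appLE W V eV).hom)]
  have : IsScalarTower Γ(S, W) Γ(X, V) Γ(P, UY) := .of_algebraMap_eq' rfl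
  have : IsScalarTower Γ(S, W) Γ(S', W') Γ(P, UY) :=
    .of_algebraMap_eq' congr($(hpush.w).hom)
  have hP : Algebra.IsPushout Γ(S, W) Γ(X, V) Γ(S', W') Γ(P, UY) :=
    CommRingCat.isPushout_iff_isPushout.mp hpush
  have hP' : Algebra.IsPushout Γ(S, W) Γ(S', W') Γ(X, V) Γ(P, UY) := hP.symm
  rw [isUnramifiedAt_iff_of_isPushout (R := Γ(S, W)) (S := Γ(S', W')) (A := Γ(X, V))
    (B := Γ(P, UY)) (hUY.primeIdealOf ⟨x', hxUY⟩).asIdeal]
  have hq := congr($(IsAffineOpen.comap_primeIdealOf_appLE V hV UY hUY e1 hxUY).1)
  simp only [PrimeSpectrum.comap_asIdeal] at hq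
  have key : ∀ (I J : Ideal Γ(X, V)) [I.IsPrime] [J.IsPrime], I = J →
      (Algebra.IsUnramifiedAt Γ(S, W) I ↔ Algebra.IsUnramifiedAt Γ(S, W) J) := by
    intro I J _ _ h; subst h; exact Iff.rfl
  exact key _ _ hq

/-- For `h` locally of finite type: `h` is formally unramified on a neighbourhood of `y` iff the
stalk map at `y` is formally unramified. -/
theorem exists_formallyUnramified_nhd_iff_stalkMap {Y S : Scheme.{u}} (h : Y ⟶ S)
    [LocallyOfFiniteType h] (y : Y) :
    (∃ V : Y.Opens, y ∈ V ∧ FormallyUnramified (V.ι ≫ h)) ↔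
      (h.stalkMap y).hom.FormallyUnramified := by
  constructor
  · rintro ⟨V, hyV, hV⟩
    have h1 := FormallyUnramified.stalkMap (V.ι ≫ h) ⟨y, hyV⟩
    exact stalkMap_property_of_nhd h (fun φ => φ.FormallyUnramified)
      RingHom.FormallyUnramified.respectsIso V ⟨y, hyV⟩ h1
  · exact exists_formallyUnramified_nhd_of_stalkMap h y

end Groth.Agent.Lib.Helper14
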