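import Mathlib
import Groth.Prelude.Def_ParaF
import Groth.Agent.Lib.Helper11.GenLocus
import Groth.Agent.Lib.Helper49.QcqsModules

/-!
# Endomorphisms of the structure module and restriction of functions

If restriction along an open immersion `j : Z' ⟶ Z` is bijective on endomorphisms of the structure
module of `Z`, then restriction of functions `Γ(Z, ⊤) → Γ(Z, j(Z'))` is bijective.
-/

set_option autoImplicit false
universe u
open CategoryTheory CategoryTheory.Limits AlgebraicGeometry TopologicalSpace Opposite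

namespace Groth.Agent.Lib.Helper14

open Groth.Agent.Lib.Helper49 Groth.Agent.Lib.Helper11.GenLocus Scheme.Modules

variable {Z' Z : Scheme.{u}} (j : Z' ⟶ Z) [IsOpenImmersion j]

theorem restrictFunctor_map_app {M N : Z.Modules} (t : M ⟶ N) (W : Z'.Opens) :
    ((restrictFunctor j).map t).app W = t.app (j ''ᵁ W) := rfl

/-- endomorphisms of the structure module are determined by their global section -/
theorem end_structureModule_ext (t t' : Coh.structureModule Z ⟶ Coh.structureModule Z)
    (h : sec t ⊤ = sec t' ⊤) : t = t' := by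
  apply Scheme.Modules.hom_ext
  intro U
  ext m
  have h1 := app_eq_smul_sec t U (ofO U m)
  have h2 := app_eq_smul_sec t' U (ofO U m)
  rw [toO_ofO] at h1 h2
  change (t.app U).hom m = (t'.app U).hom m
  rw [h1, h2, ← sec_res t le_top, ← sec_res t' le_top, h]

theorem sec_zero (U : Z.Opens) :
    sec (0 : Coh.structureModule Z ⟶ Coh.structureModule Z) U = 0 := rfl

theorem fres_injective_of_restrict_end_injective
    (hinj : Function.Injective
      (fun φ : Coh.structureModule Z ⟶ Coh.structureModule Z => (restrictFunctor j).map φ)) :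
    Function.Injective (fres (le_top : j ''ᵁ ⊤ ≤ ⊤)) := by
  rw [injective_iff_map_eq_zero]
  intro a ha
  have h0 : (restrictFunctor j).map (mulHom a) =
      (restrictFunctor j).map (0 : Coh.structureModule Z ⟶ Coh.structureModule Z) := by
    apply Scheme.Modules.hom_ext
    intro W
    rw [restrictFunctor_map_app, restrictFunctor_map_app]
    ext m
    have h1 := app_eq_smul_sec (mulHom a) (j ''ᵁ W) (ofO _ m)
    rw [toO_ofO] at h1
    change ((mulHom a).app (j ''ᵁ W)).hom m = ((0 : Coh.structureModule Z ⟶ _).app (j ''ᵁ W)).hom m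
    rw [h1, Scheme.Modules.Hom.zero_app]
    have h2 : sec (mulHom a) (j ''ᵁ W) = 0 := by
      rw [← sec_res (mulHom a) (le_top : j ''ᵁ W ≤ ⊤)]
      have h3 : sec (mulHom a) ⊤ = toO ⊤ a := by
        have := sec_mulHom a
        exact this
      rw [h3, toO_res]
      have h4 : Z.presheaf.map (homOfLE (le_top : j ''ᵁ W ≤ ⊤)).op a =
          fres (j.image_mono (le_top : W ≤ ⊤)) (fres (le_top : j ''ᵁ ⊤ ≤ ⊤) a) := by
        rw [fres_fres]
        rfl
      rw [h4, ha, map_zero]
      rfl
    rw [h2, smul_zero]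
    rfl
  have h5 := hinj h0
  have h6 := sec_mulHom a
  rw [h5] at h6
  rw [← h6]
  rfl

theorem fres_surjective_of_restrict_end_surjective
    (hsurj : Function.Surjective
      (fun φ : Coh.structureModule Z ⟶ Coh.structureModule Z => (restrictFunctor j).map φ)) :
    Function.Surjective (fres (le_top : j ''ᵁ ⊤ ≤ ⊤)) := by
  intro b
  let ρ : (Coh.structureModule Z).restrict j ≅ Coh.structureModule Z' := restrictUnitIso j
  let b' : Γ(Z', ⊤) := (j.appIso ⊤).hom b
  let ψ : (Coh.structureModule Z).restrict j ⟶ (Coh.structureModule Z).restrict j :=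
    ρ.hom ≫ mulHom b' ≫ ρ.inv
  obtain ⟨t, ht⟩ := hsurj ψ
  change (restrictFunctor j).map t = ψ at ht
  refine ⟨ofO ⊤ (sec t ⊤), ?_⟩
  let oneM : Γ((Coh.structureModule Z).restrict j, ⊤) := toO (j ''ᵁ ⊤) 1
  have h1 : (((restrictFunctor j).map t).app ⊤).hom oneM =
      toO (j ''ᵁ ⊤) (fres le_top (ofO ⊤ (sec t ⊤))) := by
    rw [restrictFunctor_map_app]
    change (t.app (j ''ᵁ ⊤)).hom (toO _ 1) = _
    rw [app_eq_smul_sec, one_smul, ← sec_res t le_top]
    rfl
  have hsmul : ∀ (r' : Γ(Z', ⊤)) (m : Γ((Coh.structureModule Z).restrict j, ⊤)),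
      r' • m = (show Γ((Coh.structureModule Z).restrict j, ⊤) from
        ((j.appIso ⊤).inv r') • (show Γ(Coh.structureModule Z, j ''ᵁ ⊤) from m)) :=
    fun r' m => rfl
  have h2 : (ψ.app ⊤).hom oneM = toO (j ''ᵁ ⊤) b := by
    let v : Γ(Coh.structureModule Z', ⊤) := (ρ.hom.app ⊤).hom oneM
    have e1 : ((mulHom b').app ⊤).hom v = b' • v := by
      have := app_eq_smul_sec (mulHom b') ⊤ (ofO ⊤ v)
      rw [toO_ofO] at this
      rw [this]
      have h3 : sec (mulHom b') ⊤ = toO ⊤ b' := sec_mulHom b'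
      rw [h3, toO_smul, mul_comm, ← toO_smul, toO_ofO]
    have e2 : (ρ.inv.app ⊤).hom v = oneM := by
      have key : ρ.hom.app ⊤ ≫ ρ.inv.app ⊤ = 𝟙 _ := by
        rw [← Scheme.Modules.Hom.comp_app, Iso.hom_inv_id]
        rfl
      exact congrArg (fun k => k.hom oneM) key
    change (ρ.inv.app ⊤).hom (((mulHom b').app ⊤).hom v) = _
    rw [e1]
    have e3 : (ρ.inv.app ⊤).hom (b' • v) = b' • (ρ.inv.app ⊤).hom v :=
      Scheme.Modules.Hom.app_smul ρ.inv b' v
    rw [e3, e2, hsmul]
    change toO (j ''ᵁ ⊤) ((j.appIso ⊤).inv ((j.appIso ⊤).hom b) * 1) = _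
    rw [mul_one, Iso.hom_inv_id_apply]
  rw [ht, h2] at h1
  exact h1.symm

theorem fres_bijective_of_restrict_end_bijective
    (hbij : Function.Bijective
      (fun φ : Coh.structureModule Z ⟶ Coh.structureModule Z => (restrictFunctor j).map φ)) :
    Function.Bijective (fres (le_top : j ''ᵁ ⊤ ≤ ⊤)) :=
  ⟨fres_injective_of_restrict_end_injective j hbij.1,
    fres_surjective_of_restrict_end_surjective j hbij.2⟩

end Groth.Agent.Lib.Helper14
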