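import Mathlib
import Groth.Prelude.Def_ParaF
import Groth.Agent.Lib.Helper11.RestrictTensor

/-!
# Parafactorial pairs: formal framework

`RestrEquiv F PA PB`: the functor `F` is fully faithful on objects satisfying `PA` and essentially
surjective from `PA`-objects onto `PB`-objects.  `ParaF.InvRestrictEquiv j` is
`RestrEquiv (restrictFunctor j) IsInvertible IsInvertible`.
-/

set_option autoImplicit false
universe u
open CategoryTheory AlgebraicGeometry TopologicalSpace

namespace Groth.Agent.Lib.Helper14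

section Abstract

universe v₁ v₂ v₃ u₁ u₂ u₃
variable {A : Type u₁} {B : Type u₂} {C : Type u₃} [Category.{v₁} A] [Category.{v₂} B]
  [Category.{v₃} C]

/-- `F` is fully faithful on `PA`-objects and essentially surjective onto `PB`-objects. -/
def RestrEquiv (F : A ⥤ B) (PA : A → Prop) (PB : B → Prop) : Prop :=
  (∀ L L' : A, PA L → PA L' → Function.Bijective (fun φ : L ⟶ L' => F.map φ)) ∧
  (∀ L₀ : B, PB L₀ → ∃ L : A, PA L ∧ Nonempty (F.obj L ≅ L₀))

variable {PA : A → Prop} {PB : B → Prop} {PC : C → Prop}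

theorem RestrEquiv.of_natIso {F F' : A ⥤ B} (α : F ≅ F') (h : RestrEquiv F PA PB) :
    RestrEquiv F' PA PB := by
  refine ⟨fun L L' hL hL' => ?_, fun L₀ hL₀ => ?_⟩
  · have h1 := h.1 L L' hL hL'
    have e : (fun φ : L ⟶ L' => F'.map φ) =
        (fun ψ : F.obj L ⟶ F.obj L' => α.inv.app L ≫ ψ ≫ α.hom.app L') ∘
          (fun φ : L ⟶ L' => F.map φ) := by
      funext φ
      simp
    rw [e]
    refine Function.Bijective.comp ?_ h1
    refine Function.bijective_iff_has_inverse.mpr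
      ⟨fun ψ => α.hom.app L ≫ ψ ≫ α.inv.app L', fun ψ => by simp, fun ψ => by simp⟩
  · obtain ⟨L, hL, ⟨e⟩⟩ := h.2 L₀ hL₀
    exact ⟨L, hL, ⟨(α.app L).symm ≪≫ e⟩⟩

theorem RestrEquiv.comp {F : A ⥤ B} {G : B ⥤ C} (hF : RestrEquiv F PA PB)
    (hG : RestrEquiv G PB PC) (hFP : ∀ L, PA L → PB (F.obj L)) :
    RestrEquiv (F ⋙ G) PA PC := by
  refine ⟨fun L L' hL hL' => ?_, fun L₀ hL₀ => ?_⟩
  · exact (hG.1 _ _ (hFP L hL) (hFP L' hL')).comp (hF.1 L L' hL hL')
  · obtain ⟨M, hM, ⟨e⟩⟩ := hG.2 L₀ hL₀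
    obtain ⟨L, hL, ⟨e'⟩⟩ := hF.2 M hM
    exact ⟨L, hL, ⟨G.mapIso e' ≪≫ e⟩⟩

/-- If `G.map` is bijective on the relevant hom-sets, an isomorphism `G X ≅ G Y` lifts. -/
theorem nonempty_iso_of_map_bijective (G : B ⥤ C) {X Y : B}
    (hXY : Function.Bijective (fun φ : X ⟶ Y => G.map φ))
    (hYX : Function.Bijective (fun φ : Y ⟶ X => G.map φ))
    (hXX : Function.Injective (fun φ : X ⟶ X => G.map φ))
    (hYY : Function.Injective (fun φ : Y ⟶ Y => G.map φ))
    (e : G.obj X ≅ G.obj Y) : Nonempty (X ≅ Y) := by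
  obtain ⟨a, ha⟩ := hXY.2 e.hom
  obtain ⟨b, hb⟩ := hYX.2 e.inv
  refine ⟨⟨a, b, hXX ?_, hYY ?_⟩⟩
  · change G.map (a ≫ b) = G.map (𝟙 X)
    change G.map a = e.hom at ha
    change G.map b = e.inv at hb
    rw [G.map_comp, G.map_id, ha, hb, e.hom_inv_id]
  · change G.map (b ≫ a) = G.map (𝟙 Y)
    change G.map a = e.hom at ha
    change G.map b = e.inv at hb
    rw [G.map_comp, G.map_id, ha, hb, e.inv_hom_id]

theorem RestrEquiv.of_comp_right {F : A ⥤ B} {G : B ⥤ C} (hFG : RestrEquiv (F ⋙ G) PA PC)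
    (hG : RestrEquiv G PB PC) (hFP : ∀ L, PA L → PB (F.obj L))
    (hGP : ∀ M, PB M → PC (G.obj M)) : RestrEquiv F PA PB := by
  refine ⟨fun L L' hL hL' => ?_, fun M hM => ?_⟩
  · have h1 := hFG.1 L L' hL hL'
    have h2 := hG.1 _ _ (hFP L hL) (hFP L' hL')
    exact (Function.Bijective.of_comp_iff' h2 _).mp h1
  · obtain ⟨L, hL, ⟨e⟩⟩ := hFG.2 (G.obj M) (hGP M hM)
    have hFL := hFP L hL
    exact ⟨L, hL, nonempty_iso_of_map_bijective G (hG.1 _ _ hFL hM) (hG.1 _ _ hM hFL)
      (hG.1 _ _ hFL hFL).1 (hG.1 _ _ hM hM).1 e⟩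

/-- A fully faithful functor with a right quasi-inverse compatible with the predicates. -/
theorem RestrEquiv.of_fullyFaithful (F : A ⥤ B) [F.Full] [F.Faithful] (G : B ⥤ A)
    (ε : G ⋙ F ≅ 𝟭 B) (hG : ∀ M, PB M → PA (G.obj M)) : RestrEquiv F PA PB := by
  refine ⟨fun L L' _ _ => ⟨fun a b h => F.map_injective h, fun ψ => F.map_surjective ψ⟩,
    fun M hM => ⟨G.obj M, hG M hM, ⟨ε.app M⟩⟩⟩

end Abstract

section Schemes

open Scheme.Modules

variable {U V : Scheme.{u}}

theorem invRestrictEquiv_iff (j : U ⟶ V) [IsOpenImmersion j] :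
    ParaF.InvRestrictEquiv j ↔
      RestrEquiv (restrictFunctor j) (PicF.IsInvertible (Y := V)) (PicF.IsInvertible (Y := U)) :=
  Iff.rfl

theorem isInvertible_restrict (j : U ⟶ V) [IsOpenImmersion j] (L : V.Modules)
    (hL : PicF.IsInvertible L) : PicF.IsInvertible ((restrictFunctor j).obj L) :=
  Groth.Agent.Lib.Helper11.GenLocus.isInvertible_restrict' j hL

theorem isInvertible_of_iso {L L' : V.Modules} (e : L ≅ L') (hL : PicF.IsInvertible L) :
    PicF.IsInvertible L' := by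
  intro y
  obtain ⟨W, hy, ⟨i⟩⟩ := hL y
  exact ⟨W, hy, ⟨(restrictFunctor W.ι).mapIso e.symm ≪≫ i⟩⟩

/-- Restriction along an isomorphism of schemes: quasi-inverse. -/
noncomputable def restrictIsoCounit (e : U ≅ V) :
    restrictFunctor e.inv ⋙ restrictFunctor e.hom ≅ 𝟭 U.Modules :=
  (restrictFunctorComp e.hom e.inv).symm ≪≫ restrictFunctorCongr e.hom_inv_id ≪≫
    restrictFunctorId

noncomputable def restrictIsoUnit (e : U ≅ V) :
    restrictFunctor e.hom ⋙ restrictFunctor e.inv ≅ 𝟭 V.Modules :=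
  (restrictFunctorComp e.inv e.hom).symm ≪≫ restrictFunctorCongr e.inv_hom_id ≪≫
    restrictFunctorId

noncomputable def restrictEquivalence (e : U ≅ V) : V.Modules ≌ U.Modules :=
  CategoryTheory.Equivalence.mk (restrictFunctor e.hom) (restrictFunctor e.inv)
    (restrictIsoUnit e).symm (restrictIsoCounit e)

instance (e : U ≅ V) : (restrictFunctor e.hom).IsEquivalence :=
  inferInstanceAs (restrictEquivalence e).functor.IsEquivalence

theorem restrEquiv_of_iso (e : U ≅ V) :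
    RestrEquiv (restrictFunctor e.hom) (PicF.IsInvertible (Y := V))
      (PicF.IsInvertible (Y := U)) :=
  RestrEquiv.of_fullyFaithful _ (restrictFunctor e.inv) (restrictIsoCounit e)
    (fun M hM => isInvertible_restrict e.inv M hM)

/-- Transport of `InvRestrictEquiv` along isomorphisms of source and target. -/
theorem invRestrictEquiv_of_iso {U' V' : Scheme.{u}} (j : U ⟶ V) [IsOpenImmersion j]
    (j' : U' ⟶ V') [IsOpenImmersion j'] (eU : U ≅ U') (eV : V ≅ V')
    (w : j ≫ eV.hom = eU.hom ≫ j') (h : ParaF.InvRestrictEquiv j') :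
    ParaF.InvRestrictEquiv j := by
  have hj : eU.hom ≫ (j' ≫ eV.inv) = j := by
    rw [← Category.assoc, ← w, Category.assoc, Iso.hom_inv_id, Category.comp_id]
  have α : restrictFunctor j ≅
      (restrictFunctor eV.inv ⋙ restrictFunctor j') ⋙ restrictFunctor eU.hom :=
    (restrictFunctorCongr hj).symm ≪≫ restrictFunctorComp eU.hom (j' ≫ eV.inv) ≪≫
      Functor.isoWhiskerRight (restrictFunctorComp j' eV.inv) (restrictFunctor eU.hom)
  have h' : RestrEquiv (restrictFunctor j') (PicF.IsInvertible (Y := V'))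
      (PicF.IsInvertible (Y := U')) := h
  have h1 : RestrEquiv (restrictFunctor eV.inv ⋙ restrictFunctor j')
      (PicF.IsInvertible (Y := V)) (PicF.IsInvertible (Y := U')) :=
    RestrEquiv.comp (PB := PicF.IsInvertible (Y := V')) (restrEquiv_of_iso eV.symm) h'
      (fun L hL => isInvertible_restrict eV.inv L hL)
  have h2 : RestrEquiv ((restrictFunctor eV.inv ⋙ restrictFunctor j') ⋙ restrictFunctor eU.hom)
      (PicF.IsInvertible (Y := V)) (PicF.IsInvertible (Y := U)) :=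
    RestrEquiv.comp (PB := PicF.IsInvertible (Y := U')) h1 (restrEquiv_of_iso eU)
      (fun L hL => isInvertible_restrict j' _ (isInvertible_restrict eV.inv L hL))
  exact RestrEquiv.of_natIso α.symm h2

/-- Cancellation: if restriction along `j₃ ≫ j₁` and along `j₃` are equivalences on invertible
modules then so is restriction along `j₁`. -/
theorem invRestrictEquiv_of_comp {W : Scheme.{u}} (j₃ : W ⟶ U) (j₁ : U ⟶ V) [IsOpenImmersion j₃]
    [IsOpenImmersion j₁] (h31 : ParaF.InvRestrictEquiv (j₃ ≫ j₁))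
    (h3 : ParaF.InvRestrictEquiv j₃) : ParaF.InvRestrictEquiv j₁ := by
  rw [invRestrictEquiv_iff] at h31 h3 ⊢
  have h := RestrEquiv.of_natIso (restrictFunctorComp j₃ j₁) h31
  exact RestrEquiv.of_comp_right h h3 (fun L hL => isInvertible_restrict _ L hL)
    (fun L hL => isInvertible_restrict _ L hL)

theorem invRestrictEquiv_congr {j j' : U ⟶ V} [IsOpenImmersion j] [hj' : IsOpenImmersion j']
    (e : j = j') (h : ParaF.InvRestrictEquiv j) : ParaF.InvRestrictEquiv j' := by
  subst e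
  exact h

theorem invRestrictEquiv_homOfLE_congr {X : Scheme.{u}} {U₁ U₂ V₁ : X.Opens} (e : U₁ = U₂)
    (h₁ : U₁ ≤ V₁) (h₂ : U₂ ≤ V₁) (h : ParaF.InvRestrictEquiv (X.homOfLE h₁)) :
    ParaF.InvRestrictEquiv (X.homOfLE h₂) := by
  subst e
  exact h

end Schemes

end Groth.Agent.Lib.Helper14
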