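import Mathlib
import Groth.Prelude.Def_ParaF
import Groth.Agent.Lib.Helper45.InvBasis
import Groth.Agent.Lib.Helper14.ParaFBasic

/-!
# Parafactorial pairs: sections

If restriction of functions `Γ(X, V) → Γ(X, V ⊓ U)` is bijective for all `V`, then the same holds
for sections of any invertible module, the unit `L ⟶ j_* j^* L` is an isomorphism and restriction
of homomorphisms into an invertible module is bijective.
-/

set_option autoImplicit false
universe u x
open CategoryTheory CategoryTheory.Limits AlgebraicGeometry TopologicalSpace Opposite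

namespace Groth.Agent.Lib.Helper14

open Groth.Agent.Lib.Helper45 Groth.Agent.Lib.Helper49

section Sheaf

variable {C : Type*} [Category* C] {FC : C → C → Type*} {CC : C → Type*}
variable [∀ X Y, FunLike (FC X Y) (CC X) (CC Y)] [ConcreteCategory C FC]
variable [HasLimitsOfSize.{x, x} C] [(CategoryTheory.forget C).ReflectsIsomorphisms]
variable [PreservesLimitsOfSize.{x, x} (CategoryTheory.forget C)]
variable {X : TopCat.{x}} (F : TopCat.Sheaf C X)

theorem sheaf_res_res {V W Z : Opens X} (h₁ : V ≤ W) (h₂ : W ≤ Z) (s : ToType (F.1.obj (op Z))) :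
    F.1.map (homOfLE h₁).op (F.1.map (homOfLE h₂).op s) = F.1.map (homOfLE (h₁.trans h₂)).op s := by
  rw [← ConcreteCategory.comp_apply, ← F.1.map_comp]
  rfl

/-- Bijectivity of restriction from `V` to `V ⊓ U` is local on `V`. -/
theorem bijective_res_of_cover (U V : Opens X) {ι : Type*} (N : ι → Opens X)
    (hN : ∀ i, N i ≤ V) (hcov : V ≤ ⨆ i, N i)
    (hinj : ∀ i (N' : Opens X), N' ≤ N i →
      Function.Injective (F.1.map (homOfLE (inf_le_left : N' ⊓ U ≤ N')).op))
    (hsurj : ∀ i, Function.Surjective (F.1.map (homOfLE (inf_le_left : N i ⊓ U ≤ N i)).op)) :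
    Function.Bijective (F.1.map (homOfLE (inf_le_left : V ⊓ U ≤ V)).op) := by
  have hNU : ∀ i, N i ⊓ U ≤ V ⊓ U := fun i => inf_le_inf_right U (hN i)
  have hcovU : V ⊓ U ≤ ⨆ i, N i ⊓ U := by
    intro y hy
    obtain ⟨i, hi⟩ := Opens.mem_iSup.mp (hcov hy.1)
    exact Opens.mem_iSup.mpr ⟨i, ⟨hi, hy.2⟩⟩
  constructor
  · intro s t hst
    apply TopCat.Sheaf.eq_of_locally_eq' F N V (fun i => homOfLE (hN i)) hcov
    intro i
    apply hinj i (N i) le_rfl
    rw [sheaf_res_res, sheaf_res_res]
    have := congrArg (F.1.map (homOfLE (hNU i)).op) hst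
    rw [sheaf_res_res, sheaf_res_res] at this
    exact this
  · intro t
    choose c hc using fun i => hsurj i (F.1.map (homOfLE (hNU i)).op t)
    obtain ⟨r, hr, -⟩ := TopCat.Sheaf.existsUnique_gluing' F N V (fun i => homOfLE (hN i)) hcov c
      (by
        intro i j
        apply hinj i (N i ⊓ N j) inf_le_left
        change F.1.map (homOfLE _).op (F.1.map (homOfLE _).op (c i)) =
          F.1.map (homOfLE _).op (F.1.map (homOfLE _).op (c j))
        rw [sheaf_res_res, sheaf_res_res]
        have h1 := congrArg (F.1.map (homOfLE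
          (inf_le_inf_right U inf_le_left : (N i ⊓ N j) ⊓ U ≤ N i ⊓ U)).op) (hc i)
        have h2 := congrArg (F.1.map (homOfLE
          (inf_le_inf_right U inf_le_right : (N i ⊓ N j) ⊓ U ≤ N j ⊓ U)).op) (hc j)
        rw [sheaf_res_res, sheaf_res_res] at h1 h2
        exact h1.trans h2.symm)
    refine ⟨r, ?_⟩
    apply TopCat.Sheaf.eq_of_locally_eq' F (fun i => N i ⊓ U) (V ⊓ U)
      (fun i => homOfLE (hNU i)) hcovU
    intro i
    rw [sheaf_res_res, ← hc i, ← hr i]
    change _ = F.1.map (homOfLE _).op (F.1.map (homOfLE _).op r)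
    rw [sheaf_res_res]

end Sheaf

section Modules

variable {X : Scheme.{u}}

theorem mres_bijective_congr (L : X.Modules) {V W₁ W₂ : X.Opens} (e : W₁ = W₂) (h₁ : W₁ ≤ V)
    (h₂ : W₂ ≤ V) : Function.Bijective (mres L h₁) ↔ Function.Bijective (mres L h₂) := by
  subst e
  rfl

theorem fres_bijective_congr {V W₁ W₂ : X.Opens} (e : W₁ = W₂) (h₁ : W₁ ≤ V)
    (h₂ : W₂ ≤ V) : Function.Bijective (fres h₁) ↔ Function.Bijective (fres h₂) := by
  subst e
  rfl

variable (U : X.Opens)

theorem mres_bijective_of_isBasisOn (L : X.Modules)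
    (hfun : ∀ V : X.Opens, Function.Bijective (fres (inf_le_left : V ⊓ U ≤ V)))
    {V : X.Opens} {t : Γ(L, V)} (ht : IsBasisOn L V t) :
    Function.Bijective (mres L (inf_le_left : V ⊓ U ≤ V)) := by
  have b₁ := ht V le_rfl
  have b₂ := ht (V ⊓ U) inf_le_left
  have hcomm : (mres L (inf_le_left : V ⊓ U ≤ V)) ∘ (fun r : Γ(X, V) => r • mres L le_rfl t) =
      (fun r : Γ(X, V ⊓ U) => r • mres L inf_le_left t) ∘ (fres (inf_le_left : V ⊓ U ≤ V)) := by
    funext r
    simp only [Function.comp_apply, mres_smul, mres_mres]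
  have h1 : Function.Bijective ((mres L (inf_le_left : V ⊓ U ≤ V)) ∘
      (fun r : Γ(X, V) => r • mres L le_rfl t)) := by
    rw [hcomm]
    exact b₂.comp (hfun V)
  exact (Function.Bijective.of_comp_iff _ b₁).mp h1

theorem mres_bijective_of_isInvertible (L : X.Modules) (hL : PicF.IsInvertible L)
    (hfun : ∀ V : X.Opens, Function.Bijective (fres (inf_le_left : V ⊓ U ≤ V))) (V : X.Opens) :
    Function.Bijective (mres L (inf_le_left : V ⊓ U ≤ V)) := by
  choose W hxW t ht using fun x : X => exists_isBasisOn_of_isInvertible hL x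
  have hb : ∀ (x : X) (N' : X.Opens) (h : N' ≤ V ⊓ W x),
      Function.Bijective (mres L (inf_le_left : N' ⊓ U ≤ N')) := fun x N' h =>
    mres_bijective_of_isBasisOn U L hfun ((ht x).mono (h.trans inf_le_right))
  exact bijective_res_of_cover ⟨L.presheaf, L.isSheaf⟩ U V (fun x : V => V ⊓ W x.1)
    (fun x => inf_le_left)
    (fun y hy => Opens.mem_iSup.mpr ⟨⟨y, hy⟩, ⟨hy, hxW y⟩⟩)
    (fun x N' h => (hb x.1 N' h).1) (fun x => (hb x.1 _ le_rfl).2)

end Modules

section Unit

open Scheme.Modules

variable {Z X : Scheme.{u}} (j : Z ⟶ X) [IsOpenImmersion j]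

/-- If restriction of functions from `V` to `V ⊓ j(Z)` is bijective for all `V`, the unit
`L ⟶ j_* j^* L` is an isomorphism for every invertible `L`. -/
theorem isIso_unit_of_isInvertible
    (hfun : ∀ V : X.Opens, Function.Bijective (fres (inf_le_left : V ⊓ j.opensRange ≤ V)))
    (L : X.Modules) (hL : PicF.IsInvertible L) :
    IsIso ((restrictAdjunction j).unit.app L) := by
  rw [Scheme.Modules.Hom.isIso_iff_isIso_app]
  intro V
  rw [restrictAdjunction_unit_app_app]
  have e : j ''ᵁ (j ⁻¹ᵁ V) = V ⊓ j.opensRange := by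
    rw [Scheme.Hom.image_preimage_eq_opensRange_inf, inf_comm]
  have hb : Function.Bijective (mres L (j.image_preimage_le V)) :=
    (mres_bijective_congr L e (j.image_preimage_le V) inf_le_left).mpr
      (mres_bijective_of_isInvertible j.opensRange L hL hfun V)
  exact (ConcreteCategory.isIso_iff_bijective
    (L.presheaf.map (homOfLE (j.image_preimage_le V)).op)).mpr hb

theorem restrict_map_bijective_of_isIso_unit (L L' : X.Modules)
    [IsIso ((restrictAdjunction j).unit.app L')] :
    Function.Bijective (fun φ : L ⟶ L' => (restrictFunctor j).map φ) := by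
  let adj := restrictAdjunction j
  have h1 : (fun φ : L ⟶ L' => adj.homEquiv L ((restrictFunctor j).obj L')
      ((restrictFunctor j).map φ)) = fun φ => φ ≫ adj.unit.app L' := by
    funext φ
    rw [Adjunction.homEquiv_unit]
    exact (adj.unit.naturality φ).symm
  have h2 : Function.Bijective (fun φ : L ⟶ L' => φ ≫ adj.unit.app L') :=
    Function.bijective_iff_has_inverse.mpr
      ⟨fun ψ => ψ ≫ inv (adj.unit.app L'), fun φ => by simp, fun ψ => by simp⟩
  have h3 : Function.Bijective ((adj.homEquiv L ((restrictFunctor j).obj L')) ∘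
      (fun φ : L ⟶ L' => (restrictFunctor j).map φ)) := by
    have : ((adj.homEquiv L ((restrictFunctor j).obj L')) ∘
      (fun φ : L ⟶ L' => (restrictFunctor j).map φ)) = fun φ => φ ≫ adj.unit.app L' := h1
    rw [this]
    exact h2
  exact (Function.Bijective.of_comp_iff' (adj.homEquiv L _).bijective _).mp h3

end Unit

end Groth.Agent.Lib.Helper14
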