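import Mathlib
import Groth.Prelude.Def_ParaF
import Groth.Agent.Lib.Helper14.ParaFSections
import Groth.Agent.Lib.Helper14.ParaFEnd

/-!
# Parafactorial pairs: characterisation via functions and direct images
-/

set_option autoImplicit false
universe u
open CategoryTheory CategoryTheory.Limits AlgebraicGeometry TopologicalSpace Opposite

namespace Groth.Agent.Lib.Helper14

open Groth.Agent.Lib.Helper45 Groth.Agent.Lib.Helper49 Scheme.Modules

variable {X : Scheme.{u}}

theorem fres_bijective_congr₂ {V₁ V₂ W₁ W₂ : X.Opens} (eV : V₁ = V₂) (eW : W₁ = W₂)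
    (h₁ : W₁ ≤ V₁) (h₂ : W₂ ≤ V₂) :
    Function.Bijective (fres h₁) ↔ Function.Bijective (fres h₂) := by
  subst eV eW
  rfl

/-- restriction of functions on an open subscheme is restriction of functions on `X`. -/
theorem fres_opens_bijective_iff (V : X.Opens) {W' W : (V : Scheme.{u}).Opens} (h : W' ≤ W) :
    Function.Bijective (fres (X := (V : Scheme.{u})) h) ↔
      Function.Bijective (fres (V.ι.image_mono h)) :=
  Iff.rfl

theorem ι_image_homOfLE_image_top {U V : X.Opens} (e : U ≤ V) :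
    V.ι ''ᵁ ((X.homOfLE e) ''ᵁ ⊤) = U := by
  rw [← Scheme.Hom.comp_image]
  have key : ∀ (f : (U : Scheme.{u}) ⟶ X) [IsOpenImmersion f], f = U.ι → f ''ᵁ ⊤ = U := by
    rintro f _ rfl
    exact U.ι_image_top
  exact key _ (X.homOfLE_ι e)

variable (Y : Closeds X)

/-- the hypothesis on functions passes to open subschemes -/
theorem fres_opens_of_fres (hi : ∀ V : X.Opens,
      Function.Bijective (fres (inf_le_left : V ⊓ Y.compl ≤ V))) (V : X.Opens)
    (W : (V : Scheme.{u}).Opens) :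
    Function.Bijective (fres (X := (V : Scheme.{u}))
      (inf_le_left : W ⊓ (X.homOfLE (inf_le_left : V ⊓ Y.compl ≤ V)).opensRange ≤ W)) := by
  rw [fres_opens_bijective_iff]
  have e : V.ι ''ᵁ (W ⊓ (X.homOfLE (inf_le_left : V ⊓ Y.compl ≤ V)).opensRange) =
      (V.ι ''ᵁ W) ⊓ Y.compl := by
    rw [Scheme.opensRange_homOfLE]
    ext x
    constructor
    · rintro ⟨w, ⟨hwW, hwR⟩, rfl⟩
      exact ⟨⟨w, hwW, rfl⟩, hwR.2⟩
    · rintro ⟨⟨w, hwW, rfl⟩, hxY⟩
      exact ⟨w, ⟨hwW, ⟨w.2, hxY⟩⟩, rfl⟩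
  exact (fres_bijective_congr₂ rfl e _ inf_le_left).mpr (hi (V.ι ''ᵁ W))

theorem fres_bijective_of_invRestrictEquiv (V : X.Opens)
    (h : ParaF.InvRestrictEquiv (X.homOfLE (inf_le_left : V ⊓ Y.compl ≤ V))) :
    Function.Bijective (fres (inf_le_left : V ⊓ Y.compl ≤ V)) := by
  have hO := Groth.Agent.Lib.Helper11.GenLocus.isInvertible_structureModule (V : Scheme.{u})
  have h1 := fres_bijective_of_restrict_end_bijective
    (X.homOfLE (inf_le_left : V ⊓ Y.compl ≤ V)) (h.1 _ _ hO hO)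
  rw [fres_opens_bijective_iff] at h1
  exact (fres_bijective_congr₂ V.ι_image_top (ι_image_homOfLE_image_top _) _ _).mp h1

/-- EGA IV 21.13.5-type characterisation of parafactorial pairs. -/
theorem isParafactorialPair_iff :
    ParaF.IsParafactorialPair X Y ↔
      ((∀ V : X.Opens, Function.Bijective (fres (inf_le_left : V ⊓ Y.compl ≤ V))) ∧
        ∀ (V : X.Opens) (L : ((V ⊓ Y.compl : X.Opens) : Scheme.{u}).Modules), PicF.IsInvertible L →
          PicF.IsInvertible
            ((pushforward (X.homOfLE (inf_le_left : V ⊓ Y.compl ≤ V))).obj L)) := by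
  constructor
  · intro h
    have hi : ∀ V : X.Opens, Function.Bijective (fres (inf_le_left : V ⊓ Y.compl ≤ V)) :=
      fun V => fres_bijective_of_invRestrictEquiv Y V (h V)
    refine ⟨hi, fun V L₀ hL₀ => ?_⟩
    obtain ⟨L, hL, ⟨e⟩⟩ := (h V).2 L₀ hL₀
    have hfunV := fres_opens_of_fres Y hi V
    have := isIso_unit_of_isInvertible (X.homOfLE (inf_le_left : V ⊓ Y.compl ≤ V)) hfunV L hL
    exact isInvertible_of_iso
      (asIso ((restrictAdjunction (X.homOfLE (inf_le_left : V ⊓ Y.compl ≤ V))).unit.app L) ≪≫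
        (pushforward (X.homOfLE (inf_le_left : V ⊓ Y.compl ≤ V))).mapIso e) hL
  · rintro ⟨hi, hii⟩ V
    have hfunV := fres_opens_of_fres Y hi V
    refine ⟨fun L L' hL hL' => ?_, fun L₀ hL₀ => ?_⟩
    · have := isIso_unit_of_isInvertible (X.homOfLE (inf_le_left : V ⊓ Y.compl ≤ V)) hfunV L' hL'
      exact restrict_map_bijective_of_isIso_unit _ L L'
    · exact ⟨(pushforward (X.homOfLE (inf_le_left : V ⊓ Y.compl ≤ V))).obj L₀, hii V L₀ hL₀,
        ⟨(restrictFunctorAdjCounitIso (X.homOfLE (inf_le_left : V ⊓ Y.compl ≤ V))).app L₀⟩⟩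

end Groth.Agent.Lib.Helper14
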