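import Mathlib
import Groth.Prelude.Def_FlatMod2
import Groth.Agent.Lib.Helper14.ParaFPair
import Groth.Agent.Lib.Helper49.FreeMod

/-!
# Extension of finite locally free modules across a closed subset over which functions extend
-/

set_option autoImplicit false
universe u
open CategoryTheory CategoryTheory.Limits AlgebraicGeometry TopologicalSpace Opposite

namespace Groth.Agent.Lib.Helper14

open Groth.Agent.Lib.Helper45 Groth.Agent.Lib.Helper49 Scheme.Modules
open Groth.Agent.Lib.Helper11.GenLocus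

variable {X : Scheme.{u}}

theorem mres_bijective_congr₂ (L : X.Modules) {V₁ V₂ W₁ W₂ : X.Opens} (eV : V₁ = V₂)
    (eW : W₁ = W₂) (h₁ : W₁ ≤ V₁) (h₂ : W₂ ≤ V₂) :
    Function.Bijective (mres L h₁) ↔ Function.Bijective (mres L h₂) := by
  subst eV eW
  rfl

theorem mres_bijective_of_iso {P Q : X.Modules} (e : P ≅ Q) {V W : X.Opens} (h : W ≤ V) :
    Function.Bijective (mres P h) ↔ Function.Bijective (mres Q h) := by
  have hbij : ∀ O : X.Opens, Function.Bijective (e.hom.app O).hom := fun O =>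
    (ConcreteCategory.isIso_iff_bijective (e.hom.app O)).mp inferInstance
  have hcomm : (e.hom.app W).hom ∘ (mres P h) = (mres Q h) ∘ (e.hom.app V).hom := by
    funext s
    exact (app_res e.hom h s).symm
  constructor
  · intro hP
    have h1 : Function.Bijective ((mres Q h) ∘ (e.hom.app V).hom) := by
      rw [← hcomm]
      exact (hbij W).comp hP
    exact (Function.Bijective.of_comp_iff _ (hbij V)).mp h1
  · intro hQ
    have h1 : Function.Bijective ((e.hom.app W).hom ∘ (mres P h)) := by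
      rw [hcomm]
      exact hQ.comp (hbij V)
    exact (Function.Bijective.of_comp_iff' (hbij W) _).mp h1

theorem mres_freeMod_bijective (n : ℕ) {V W : X.Opens} (h : W ≤ V)
    (hf : Function.Bijective (fres h)) :
    Function.Bijective (mres (FlatMod.freeMod X n) h) := by
  let αV := sectionsFreeEquiv X n V
  let αW := sectionsFreeEquiv X n W
  have hcomm : αW ∘ (mres (FlatMod.freeMod X n) h) =
      (fun (a : Fin n → Γ(X, V)) (i : Fin n) => fres h (a i)) ∘ αV := by
    funext s
    funext i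
    exact (app_res (freeπ X n i) h s).symm
  have h2 : Function.Bijective (fun (a : Fin n → Γ(X, V)) (i : Fin n) => fres h (a i)) := by
    constructor
    · intro a b hab
      funext i
      exact hf.1 (congrFun hab i)
    · intro b
      choose a ha using fun i => hf.2 (b i)
      exact ⟨a, funext ha⟩
  have h1 : Function.Bijective (αW ∘ (mres (FlatMod.freeMod X n) h)) := by
    rw [hcomm]
    exact h2.comp αV.bijective
  exact (Function.Bijective.of_comp_iff' αW.bijective _).mp h1

theorem mres_restrict_bijective_iff (E : X.Modules) (W : X.Opens)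
    {N₁ N₂ : (W : Scheme.{u}).Opens} (h : N₂ ≤ N₁) :
    Function.Bijective (mres (E.restrict W.ι) h) ↔
      Function.Bijective (mres E (W.ι.image_mono h)) :=
  Iff.rfl

variable (U : X.Opens)

theorem mres_bijective_of_isFinLocFree (E : X.Modules) (hE : FlatMod.IsFinLocFree E)
    (hfun : ∀ V : X.Opens, Function.Bijective (fres (inf_le_left : V ⊓ U ≤ V))) (V : X.Opens) :
    Function.Bijective (mres E (inf_le_left : V ⊓ U ≤ V)) := by
  choose W n hxW φ using hE
  have hb : ∀ (x : X) (N' : X.Opens) (h : N' ≤ V ⊓ W x),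
      Function.Bijective (mres E (inf_le_left : N' ⊓ U ≤ N')) := by
    intro x N' h
    have hN'W : N' ≤ W x := h.trans inf_le_right
    have eN : (W x).ι ''ᵁ ((W x).ι ⁻¹ᵁ N') = N' := by
      rw [Scheme.Hom.image_preimage_eq_opensRange_inf, (W x).opensRange_ι, inf_eq_right.mpr hN'W]
    have eR : (W x).ι ''ᵁ ((W x).ι ⁻¹ᵁ N' ⊓ (W x).ι ⁻¹ᵁ U) = N' ⊓ U := by
      rw [← Scheme.Hom.preimage_inf, Scheme.Hom.image_preimage_eq_opensRange_inf,
        (W x).opensRange_ι, inf_eq_right.mpr (inf_le_left.trans hN'W)]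
    refine (mres_bijective_congr₂ E eN eR
      ((W x).ι.image_mono (inf_le_left : (W x).ι ⁻¹ᵁ N' ⊓ (W x).ι ⁻¹ᵁ U ≤ (W x).ι ⁻¹ᵁ N'))
      inf_le_left).mp ?_
    rw [← mres_restrict_bijective_iff E (W x)
      (inf_le_left : (W x).ι ⁻¹ᵁ N' ⊓ (W x).ι ⁻¹ᵁ U ≤ (W x).ι ⁻¹ᵁ N'),
      mres_bijective_of_iso (φ x).some]
    apply mres_freeMod_bijective
    rw [fres_opens_bijective_iff]
    exact (fres_bijective_congr₂ eN eR _ inf_le_left).mpr (hfun N')
  exact bijective_res_of_cover ⟨E.presheaf, E.isSheaf⟩ U V (fun x : V => V ⊓ W x.1)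
    (fun x => inf_le_left)
    (fun y hy => Opens.mem_iSup.mpr ⟨⟨y, hy⟩, ⟨hy, hxW y⟩⟩)
    (fun x N' h => (hb x.1 N' h).1) (fun x => (hb x.1 _ le_rfl).2)

theorem isIso_unit_of_mres_bijective {Z : Scheme.{u}} (j : Z ⟶ X) [IsOpenImmersion j]
    (L : X.Modules)
    (h : ∀ V : X.Opens, Function.Bijective (mres L (inf_le_left : V ⊓ j.opensRange ≤ V))) :
    IsIso ((restrictAdjunction j).unit.app L) := by
  rw [Scheme.Modules.Hom.isIso_iff_isIso_app]
  intro V
  rw [restrictAdjunction_unit_app_app]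
  have e : j ''ᵁ (j ⁻¹ᵁ V) = V ⊓ j.opensRange := by
    rw [Scheme.Hom.image_preimage_eq_opensRange_inf, inf_comm]
  have hb : Function.Bijective (mres L (j.image_preimage_le V)) :=
    (mres_bijective_congr L e (j.image_preimage_le V) inf_le_left).mpr (h V)
  exact (ConcreteCategory.isIso_iff_bijective
    (L.presheaf.map (homOfLE (j.image_preimage_le V)).op)).mpr hb

theorem isIso_unit_of_isFinLocFree {Z : Scheme.{u}} (j : Z ⟶ X) [IsOpenImmersion j]
    (hfun : ∀ V : X.Opens, Function.Bijective (fres (inf_le_left : V ⊓ j.opensRange ≤ V)))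
    (E : X.Modules) (hE : FlatMod.IsFinLocFree E) :
    IsIso ((restrictAdjunction j).unit.app E) :=
  isIso_unit_of_mres_bijective j E (mres_bijective_of_isFinLocFree j.opensRange E hE hfun)

theorem isFinLocFree_of_iso {E E' : X.Modules} (e : E ≅ E') (hE : FlatMod.IsFinLocFree E) :
    FlatMod.IsFinLocFree E' := by
  intro x
  obtain ⟨W, n, hx, ⟨i⟩⟩ := hE x
  exact ⟨W, n, hx, ⟨(restrictFunctor W.ι).mapIso e.symm ≪≫ i⟩⟩

end Groth.Agent.Lib.Helper14
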