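import Mathlib
import Groth.Agent.Lib.Helper9.HensK.StrictUnique
import Groth.Agent.Lib.Helper24.SmoothNormal
import Groth.Agent.Lib.Helper13.NormalDescent

/-! Strict henselization (helper9's PtColim model) of a normal local domain is a normal domain (helper14). -/

universe u

set_option linter.style.haveILetI false
set_option linter.unusedSectionVars false

namespace Groth.Agent.Lib.Helper14

open Polynomial

/-- fraction-free integrality criterion in an integrally closed domain -/
theorem dvd_of_eval_scaleRoots_eq_zero {D : Type*} [CommRing D] [IsDomain D] [IsIntegrallyClosed D]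
    (p : D[X]) (hp : p.Monic) (a b : D) (hb : b ≠ 0) (h : (p.scaleRoots b).eval a = 0) :
    ∃ d, a = d * b := by
  let K := FractionRing D
  let f := algebraMap D K
  have hfb : f b ≠ 0 := by
    rw [Ne, map_eq_zero_iff f (IsFractionRing.injective D K)]
    exact hb
  have h1 := scaleRoots_eval₂_mul (p := p) f (f a / f b) b
  have h2 : f b * (f a / f b) = f a := mul_div_cancel₀ _ hfb
  rw [h2, Polynomial.eval₂_at_apply, h, map_zero] at h1
  have h3 : eval₂ f (f a / f b) p = 0 := by
    rcases mul_eq_zero.mp h1.symm with h | h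
    · exact absurd (eq_zero_of_pow_eq_zero h) hfb
    · exact h
  have hint : IsIntegral D (f a / f b) := ⟨p, hp, h3⟩
  obtain ⟨d, hd⟩ := (isIntegrallyClosed_iff K).mp inferInstance hint
  refine ⟨d, IsFractionRing.injective D K ?_⟩
  rw [map_mul, hd]
  exact (div_mul_cancel₀ _ hfb).symm

open Groth.Agent.Lib.Helper9.HensK Groth.Agent.Lib.Helper9.HensK.PtColim IsLocalRing CategoryTheory

variable {R : Type u} [CommRing R] [IsLocalRing R] {K : Type u} [Field K] [Algebra R K]

instance ptEt_ker_σ_isPrime (N : PtEt R K) : (RingHom.ker N.σ.toRingHom).IsPrime :=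
  RingHom.ker_isPrime _

theorem ptColim_isUnit_ι_of_notMem (N : PtEt R K) (s : N.S) (hs : s ∉ RingHom.ker N.σ.toRingHom) :
    IsUnit (ι N s) := by
  rw [PtColim.isUnit_iff, residue_ι]
  exact hs

theorem ptColim_ι_eq_zero_of_localization (N : PtEt R K) (u : N.S)
    (h : algebraMap N.S (Localization.AtPrime (RingHom.ker N.σ.toRingHom)) u = 0) : ι N u = 0 := by
  obtain ⟨s, hs⟩ := (IsLocalization.map_eq_zero_iff (RingHom.ker N.σ.toRingHom).primeCompl _ u).mp h
  have h1 : ι N (s : N.S) * ι N u = 0 := by rw [← map_mul, hs, map_zero]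
  exact (ptColim_isUnit_ι_of_notMem N s s.2).mul_right_eq_zero.mp h1

theorem ptColim_isDomain_of_isNormalRing (hN : ∀ N : PtEt R K, EGA4.IsNormalRing N.S) :
    IsDomain (PtColim R K) := by
  haveI : NoZeroDivisors (PtColim R K) := by
    refine ⟨fun {a b} hab => ?_⟩
    obtain ⟨N, e, e', rfl, rfl⟩ := exists_rep₂ a b
    rw [← map_mul, ← map_zero (ι N)] at hab
    obtain ⟨N', f, hf⟩ := (ι_eq_iff _ _).mp hab
    rw [map_mul, map_zero] at hf
    obtain ⟨hdom, -⟩ := hN N' (RingHom.ker N'.σ.toRingHom)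
    have h0 : algebraMap N'.S (Localization.AtPrime (RingHom.ker N'.σ.toRingHom)) (f.1 e) *
        algebraMap N'.S (Localization.AtPrime (RingHom.ker N'.σ.toRingHom)) (f.1 e') = 0 := by
      rw [← map_mul, hf, map_zero]
    rcases mul_eq_zero.mp h0 with h | h
    · left
      rw [← ι_comp f]
      exact ptColim_ι_eq_zero_of_localization N' _ h
    · right
      rw [← ι_comp f]
      exact ptColim_ι_eq_zero_of_localization N' _ h
  exact NoZeroDivisors.to_isDomain _

/-- finitely many elements come from a common stage -/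
theorem ptColim_exists_rep_finset (s : Finset (PtColim R K)) :
    ∃ N : PtEt R K, ∀ x ∈ s, x ∈ Set.range (ι N) := by
  classical
  induction s using Finset.induction_on with
  | empty =>
    obtain ⟨N, -, -⟩ := exists_rep (0 : PtColim R K)
    exact ⟨N, fun x hx => absurd hx (Finset.notMem_empty x)⟩
  | insert a s ha ih =>
    obtain ⟨N₁, hN₁⟩ := ih
    obtain ⟨N₂, e, rfl⟩ := exists_rep a
    refine ⟨IsFiltered.max N₁ N₂, fun x hx => ?_⟩
    rcases Finset.mem_insert.mp hx with rfl | hx
    · exact ⟨(IsFiltered.rightToMax N₁ N₂).1 e, ι_comp _ _⟩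
    · obtain ⟨y, rfl⟩ := hN₁ x hx
      exact ⟨(IsFiltered.leftToMax N₁ N₂).1 y, ι_comp _ _⟩

theorem ptColim_isIntegrallyClosed_of_isNormalRing (hN : ∀ N : PtEt R K, EGA4.IsNormalRing N.S) :
    IsDomain (PtColim R K) ∧ IsIntegrallyClosed (PtColim R K) := by
  classical
  have hdom := ptColim_isDomain_of_isNormalRing hN
  refine ⟨hdom, ?_⟩
  set C := PtColim R K with hC
  rw [isIntegrallyClosed_iff (FractionRing C)]
  intro x hx
  obtain ⟨a, b, hb, rfl⟩ := IsFractionRing.div_surjective (A := C) x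
  obtain ⟨p, hp, hpx⟩ := hx
  have hinj := IsFractionRing.injective C (FractionRing C)
  have hrel : (p.scaleRoots b).eval a = 0 := by
    apply hinj
    rw [map_zero, ← Polynomial.eval₂_at_apply]
    exact scaleRoots_eval₂_eq_zero_of_eval₂_div_eq_zero hinj hpx hb
  have hb0 : b ≠ 0 := nonZeroDivisors.ne_zero hb
  -- suffices: b ∣ a
  suffices h : ∃ d, a = d * b by
    obtain ⟨d, rfl⟩ := h
    refine ⟨d, ?_⟩
    rw [map_mul, mul_div_assoc, div_self, mul_one]
    rw [Ne, map_eq_zero_iff _ hinj]
    exact hb0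
  -- common stage
  obtain ⟨N, hNs⟩ := ptColim_exists_rep_finset (R := R) (K := K)
    (insert a (insert b (p.support.image p.coeff)))
  obtain ⟨a₀, rfl⟩ := hNs a (Finset.mem_insert_self _ _)
  obtain ⟨b₀, rfl⟩ := hNs b (Finset.mem_insert_of_mem (Finset.mem_insert_self _ _))
  have hplift : p ∈ Polynomial.lifts (ι N) := by
    rw [Polynomial.lifts_iff_coeff_lifts]
    intro n
    by_cases hn : n ∈ p.support
    · exact hNs _ (Finset.mem_insert_of_mem (Finset.mem_insert_of_mem
        (Finset.mem_image_of_mem _ hn)))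
    · rw [Polynomial.notMem_support_iff.mp hn]
      exact ⟨0, map_zero _⟩
  obtain ⟨p₀, hp₀, -, hp₀m⟩ := Polynomial.lifts_and_natDegree_eq_and_monic hplift hp
  -- relation at the stage N
  have hrel₀ : ι N ((p₀.scaleRoots b₀).eval a₀) = ι N 0 := by
    rw [map_zero, ← Polynomial.eval₂_at_apply, ← Polynomial.eval_map,
      Polynomial.map_scaleRoots _ _ _ (by rw [hp₀m.leadingCoeff, map_one]; exact one_ne_zero), hp₀]
    exact hrel
  obtain ⟨N', f, hf⟩ := (ι_eq_iff _ _).mp hrel₀
  rw [map_zero] at hf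
  -- pass to the localization
  let q := RingHom.ker N'.σ.toRingHom
  let D := Localization.AtPrime q
  obtain ⟨hDdom, hDic⟩ := hN N' q
  let g : N.S →+* D := (algebraMap N'.S D).comp f.1.toRingHom
  have hgrel : ((p₀.map g).scaleRoots (g b₀)).eval (g a₀) = 0 := by
    rw [← Polynomial.map_scaleRoots _ _ _ (by rw [hp₀m.leadingCoeff, map_one]; exact one_ne_zero),
      Polynomial.eval_map, Polynomial.eval₂_at_apply]
    change algebraMap N'.S D (f.1 ((p₀.scaleRoots b₀).eval a₀)) = 0
    rw [hf, map_zero]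
  have hgb : g b₀ ≠ 0 := by
    intro h
    apply hb0
    rw [← ι_comp f]
    exact ptColim_ι_eq_zero_of_localization N' _ h
  obtain ⟨d, hd⟩ := dvd_of_eval_scaleRoots_eq_zero (p₀.map g) (hp₀m.map g) (g a₀) (g b₀) hgb hgrel
  obtain ⟨d₀, s, rfl⟩ := IsLocalization.exists_mk'_eq q.primeCompl d
  -- s * f a₀ - d₀ * f b₀ maps to zero
  have h1 : algebraMap N'.S D ((s : N'.S) * f.1 a₀ - d₀ * f.1 b₀) = 0 := by
    rw [map_sub, map_mul, map_mul, sub_eq_zero]
    change algebraMap N'.S D s * g a₀ = algebraMap N'.S D d₀ * g b₀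
    rw [hd, ← mul_assoc, IsLocalization.mk'_spec']
  have h2 := ptColim_ι_eq_zero_of_localization N' _ h1
  rw [map_sub, map_mul, map_mul, ι_comp, ι_comp, sub_eq_zero] at h2
  have hsu := ptColim_isUnit_ι_of_notMem N' s s.2
  refine ⟨hsu.unit⁻¹ * ι N' d₀, ?_⟩
  rw [mul_assoc, ← h2, ← mul_assoc, IsUnit.val_inv_mul, one_mul]


/-- S2748, both directions. -/
theorem strictHenselization_isNormalDomain_iff (R S : Type u) [CommRing R] [IsLocalRing R] [CommRing S]
    [IsLocalRing S] [Algebra R S] [IsLocalHom (algebraMap R S)] [Hensel.IsStrictHenselization R S] :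
    (IsDomain S ∧ IsIntegrallyClosed S) ↔ (IsDomain R ∧ IsIntegrallyClosed R) := by
  constructor
  · rintro ⟨hd, hic⟩
    haveI := Groth.Agent.Lib.Helper9.HensK.faithfullyFlat_of_isStrictHenselization R S
    exact Groth.Agent.Lib.Helper13.isIntegrallyClosed_of_faithfullyFlat R S
  · rintro ⟨hd, hic⟩
    have hN : ∀ N : PtEt R (SeparableClosure (ResidueField R)), EGA4.IsNormalRing N.S := fun N =>
      Groth.Agent.Lib.Helper24.isNormalRing_of_smooth_of_isIntegrallyClosed R N.S
    obtain ⟨h1, h2⟩ := ptColim_isIntegrallyClosed_of_isNormalRing hN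
    let e := Groth.Agent.Lib.Helper9.HensK.algEquivStrictHenselization R S
    exact ⟨e.toRingEquiv.toMulEquiv.isDomain _, IsIntegrallyClosed.of_equiv e.symm.toRingEquiv⟩

end Groth.Agent.Lib.Helper14
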