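import Mathlib
import Groth.Agent.Lib.Helper9.Hens.Unique
import Groth.Agent.Lib.Helper9.Hens.LocalFlat
import Groth.Agent.Lib.Helper14.HensNormal

/-! Henselization (helper9's PairHens model) of a normal local domain is a normal domain (helper14). -/

universe u

set_option linter.style.haveILetI false
set_option linter.unusedSectionVars false

namespace Groth.Agent.Lib.Helper14.HensNormal2

open Polynomial Groth.Agent.Lib.Helper14

open Groth.Agent.Lib.Helper9.Hens Groth.Agent.Lib.Helper9.Hens.PairHens IsLocalRing CategoryTheory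

variable {R : Type u} [CommRing R] [IsLocalRing R]

instance etNbhd_ker_σ_isPrime (N : EtNbhd R (maximalIdeal R)) : (RingHom.ker N.σ.toRingHom).IsPrime :=
  RingHom.ker_isPrime _

theorem hens_isUnit_ι_of_notMem (N : EtNbhd R (maximalIdeal R)) (s : N.S) (hs : s ∉ RingHom.ker N.σ.toRingHom) :
    IsUnit (ι N s) := by
  rw [Henselization.isUnit_iff, residue_ι]
  exact hs

theorem hens_ι_eq_zero_of_localization (N : EtNbhd R (maximalIdeal R)) (u : N.S)
    (h : algebraMap N.S (Localization.AtPrime (RingHom.ker N.σ.toRingHom)) u = 0) : ι N u = 0 := by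
  obtain ⟨s, hs⟩ := (IsLocalization.map_eq_zero_iff (RingHom.ker N.σ.toRingHom).primeCompl _ u).mp h
  have h1 : ι N (s : N.S) * ι N u = 0 := by rw [← map_mul, hs, map_zero]
  exact (hens_isUnit_ι_of_notMem N s s.2).mul_right_eq_zero.mp h1

theorem hens_isDomain_of_isNormalRing (hN : ∀ N : EtNbhd R (maximalIdeal R), EGA4.IsNormalRing N.S) :
    IsDomain (Henselization R) := by
  haveI : NoZeroDivisors (Henselization R) := by
    refine ⟨fun {a b} hab => ?_⟩
    obtain ⟨N, e, e', rfl, rfl⟩ := exists_rep₂ a b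
    rw [← map_mul, ← map_zero (ι N)] at hab
    obtain ⟨N', f, hf⟩ := (ι_eq_iff _ _).mp hab
    rw [map_mul, map_zero] at hf
    obtain ⟨hdom, -⟩ := hN N' (RingHom.ker N'.σ.toRingHom)
    have h0 : algebraMap N'.S (Localization.AtPrime (RingHom.ker N'.σ.toRingHom)) (f.1 e) *
        algebraMap N'.S (Localization.AtPrime (RingHom.ker N'.σ.toRingHom)) (f.1 e') = 0 := by
      rw [← map_mul, hf, map_zero]
    rcases mul_eq_zero.mp h0 with h | h
    · left
      rw [← ι_comp f]
      exact hens_ι_eq_zero_of_localization N' _ h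
    · right
      rw [← ι_comp f]
      exact hens_ι_eq_zero_of_localization N' _ h
  exact NoZeroDivisors.to_isDomain _

/-- finitely many elements come from a common stage -/
theorem hens_exists_rep_finset (s : Finset (Henselization R)) :
    ∃ N : EtNbhd R (maximalIdeal R), ∀ x ∈ s, x ∈ Set.range (ι N) := by
  classical
  induction s using Finset.induction_on with
  | empty =>
    obtain ⟨N, -, -⟩ := exists_rep (0 : Henselization R)
    exact ⟨N, fun x hx => absurd hx (Finset.notMem_empty x)⟩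
  | insert a s ha ih =>
    obtain ⟨N₁, hN₁⟩ := ih
    obtain ⟨N₂, e, rfl⟩ := exists_rep a
    refine ⟨IsFiltered.max N₁ N₂, fun x hx => ?_⟩
    rcases Finset.mem_insert.mp hx with rfl | hx
    · exact ⟨(IsFiltered.rightToMax N₁ N₂).1 e, ι_comp _ _⟩
    · obtain ⟨y, rfl⟩ := hN₁ x hx
      exact ⟨(IsFiltered.leftToMax N₁ N₂).1 y, ι_comp _ _⟩

theorem hens_isIntegrallyClosed_of_isNormalRing (hN : ∀ N : EtNbhd R (maximalIdeal R), EGA4.IsNormalRing N.S) :
    IsDomain (Henselization R) ∧ IsIntegrallyClosed (Henselization R) := by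
  classical
  have hdom := hens_isDomain_of_isNormalRing hN
  refine ⟨hdom, ?_⟩
  set C := Henselization R with hC
  rw [isIntegrallyClosed_iff (FractionRing C)]
  intro x hx
  obtain ⟨a, b, hb, rfl⟩ := IsFractionRing.div_surjective (A := C) x
  obtain ⟨p, hp, hpx⟩ := hx
  have hinj := IsFractionRing.injective C (FractionRing C)
  have hrel : (p.scaleRoots b).eval a = 0 := by
    apply hinj
    rw [map_zero, ← Polynomial.eval₂_at_apply]
    exact scaleRoots_eval₂_eq_zero_of_eval₂_div_eq_zero hinj hpx hb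
  have hb0 : b ≠ 0 := nonZeroDivisors.ne_zero hb
  -- suffices: b ∣ a
  suffices h : ∃ d, a = d * b by
    obtain ⟨d, rfl⟩ := h
    refine ⟨d, ?_⟩
    rw [map_mul, mul_div_assoc, div_self, mul_one]
    rw [Ne, map_eq_zero_iff _ hinj]
    exact hb0
  -- common stage
  obtain ⟨N, hNs⟩ := hens_exists_rep_finset (R := R)
    (insert a (insert b (p.support.image p.coeff)))
  obtain ⟨a₀, rfl⟩ := hNs a (Finset.mem_insert_self _ _)
  obtain ⟨b₀, rfl⟩ := hNs b (Finset.mem_insert_of_mem (Finset.mem_insert_self _ _))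
  have hplift : p ∈ Polynomial.lifts (ι N) := by
    rw [Polynomial.lifts_iff_coeff_lifts]
    intro n
    by_cases hn : n ∈ p.support
    · exact hNs _ (Finset.mem_insert_of_mem (Finset.mem_insert_of_mem
        (Finset.mem_image_of_mem _ hn)))
    · rw [Polynomial.notMem_support_iff.mp hn]
      exact ⟨0, map_zero _⟩
  obtain ⟨p₀, hp₀, -, hp₀m⟩ := Polynomial.lifts_and_natDegree_eq_and_monic hplift hp
  -- relation at the stage N
  have hrel₀ : ι N ((p₀.scaleRoots b₀).eval a₀) = ι N 0 := by
    rw [map_zero, ← Polynomial.eval₂_at_apply, ← Polynomial.eval_map,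
      Polynomial.map_scaleRoots _ _ _ (by rw [hp₀m.leadingCoeff, map_one]; exact one_ne_zero), hp₀]
    exact hrel
  obtain ⟨N', f, hf⟩ := (ι_eq_iff _ _).mp hrel₀
  rw [map_zero] at hf
  -- pass to the localization
  let q := RingHom.ker N'.σ.toRingHom
  let D := Localization.AtPrime q
  obtain ⟨hDdom, hDic⟩ := hN N' q
  let g : N.S →+* D := (algebraMap N'.S D).comp f.1.toRingHom
  have hgrel : ((p₀.map g).scaleRoots (g b₀)).eval (g a₀) = 0 := by
    rw [← Polynomial.map_scaleRoots _ _ _ (by rw [hp₀m.leadingCoeff, map_one]; exact one_ne_zero),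
      Polynomial.eval_map, Polynomial.eval₂_at_apply]
    change algebraMap N'.S D (f.1 ((p₀.scaleRoots b₀).eval a₀)) = 0
    rw [hf, map_zero]
  have hgb : g b₀ ≠ 0 := by
    intro h
    apply hb0
    rw [← ι_comp f]
    exact hens_ι_eq_zero_of_localization N' _ h
  obtain ⟨d, hd⟩ := dvd_of_eval_scaleRoots_eq_zero (p₀.map g) (hp₀m.map g) (g a₀) (g b₀) hgb hgrel
  obtain ⟨d₀, s, rfl⟩ := IsLocalization.exists_mk'_eq q.primeCompl d
  -- s * f a₀ - d₀ * f b₀ maps to zero
  have h1 : algebraMap N'.S D ((s : N'.S) * f.1 a₀ - d₀ * f.1 b₀) = 0 := by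
    rw [map_sub, map_mul, map_mul, sub_eq_zero]
    change algebraMap N'.S D s * g a₀ = algebraMap N'.S D d₀ * g b₀
    rw [hd, ← mul_assoc, IsLocalization.mk'_spec']
  have h2 := hens_ι_eq_zero_of_localization N' _ h1
  rw [map_sub, map_mul, map_mul, ι_comp, ι_comp, sub_eq_zero] at h2
  have hsu := hens_isUnit_ι_of_notMem N' s s.2
  refine ⟨hsu.unit⁻¹ * ι N' d₀, ?_⟩
  rw [mul_assoc, ← h2, ← mul_assoc, IsUnit.val_inv_mul, one_mul]



/-- S0515, both directions. -/
theorem henselization_isNormalDomain_iff (R S : Type u) [CommRing R] [IsLocalRing R] [CommRing S]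
    [IsLocalRing S] [Algebra R S] [IsLocalHom (algebraMap R S)] [Hensel.IsHenselization R S] :
    (IsDomain R ∧ IsIntegrallyClosed R) ↔ (IsDomain S ∧ IsIntegrallyClosed S) := by
  constructor
  · rintro ⟨hd, hic⟩
    have hN : ∀ N : EtNbhd R (maximalIdeal R), EGA4.IsNormalRing N.S := fun N =>
      Groth.Agent.Lib.Helper24.isNormalRing_of_smooth_of_isIntegrallyClosed R N.S
    obtain ⟨h1, h2⟩ := hens_isIntegrallyClosed_of_isNormalRing hN
    let e := Groth.Agent.Lib.Helper9.Hens.algEquivHenselization R S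
    exact ⟨e.toRingEquiv.toMulEquiv.isDomain _, IsIntegrallyClosed.of_equiv e.symm.toRingEquiv⟩
  · rintro ⟨hd, hic⟩
    haveI := Groth.Agent.Lib.Helper9.Hens.faithfullyFlat_of_isHenselization R S
    exact Groth.Agent.Lib.Helper13.isIntegrallyClosed_of_faithfullyFlat R S

end Groth.Agent.Lib.Helper14.HensNormal2
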