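import Groth.Agent.Lib.Helper14.FlatBaseChangeStalk
import Mathlib

/-!
# Smoothness at a point descends along base change which is flat at the image point

* `isBaseChange_of_isPushout`: for a pushout square `B = S ⊗[R] A`, an `A`-linear map into a
  `B`-module that is a base change along `R → S` is a base change along `A → B`.
* `h1Cotangent_map_map`: functoriality of `Algebra.H1Cotangent.map`.
* `isBaseChange_h1Cotangent_map_of_flat`: flat base change for `H1Cotangent` for arbitrary
  pushout squares.
* `isSmoothAt_under_of_isPushout_of_flat`: ring-level: if `B = A ⊗[R] S`, `A` f.p. over `R`,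
  `q'` a prime of `B` with `S` flat over `R` at the contraction of `q'`, and `B` smooth over `S`
  at `q'`, then `A` is smooth over `R` at the contraction of `q'`.
* `exists_smooth_nhd_iff_mem_smoothLocus`.
* `mem_smoothLocus_fst_of_isPullback`: scheme-level version for cartesian squares.
-/

set_option autoImplicit false
universe u
open CategoryTheory CategoryTheory.Limits AlgebraicGeometry TopologicalSpace TensorProduct

namespace Groth.Agent.Lib.Helper14

/-- For a pushout square `B = S ⊗[R] A`, an `A`-linear map into a `B`-module which is a base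
change along `R → S` is also a base change along `A → B`. -/
theorem isBaseChange_of_isPushout (R S A B : Type*) {M N : Type*} [CommRing R] [CommRing S]
    [Algebra R S] [CommRing A] [CommRing B] [Algebra R A] [Algebra R B] [Algebra A B]
    [Algebra S B] [IsScalarTower R A B] [IsScalarTower R S B] [Algebra.IsPushout R S A B]
    [AddCommGroup M] [Module R M] [Module A M] [IsScalarTower R A M]
    [AddCommGroup N] [Module R N] [Module A N] [Module S N] [Module B N] [IsScalarTower R A N]
    [IsScalarTower R S N] [IsScalarTower A B N] [IsScalarTower S B N]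
    (f : M →ₗ[A] N) (hf : IsBaseChange S (f.restrictScalars R)) : IsBaseChange B f := by
  change Function.Bijective (f.liftBaseChange B)
  have key : ∀ y : S ⊗[R] M,
      f.liftBaseChange B ((Algebra.IsPushout.cancelBaseChange R S A B M).symm y) = hf.equiv y := by
    intro y
    induction y with
    | zero => simp
    | add x y hx hy => simp only [map_add, hx, hy]
    | tmul s m => simp [IsBaseChange.equiv_tmul]
  have : ⇑(f.liftBaseChange B) =
      ⇑hf.equiv ∘ ⇑(Algebra.IsPushout.cancelBaseChange R S A B M) := by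
    funext x
    obtain ⟨y, rfl⟩ := (Algebra.IsPushout.cancelBaseChange R S A B M).symm.surjective x
    simp [key]
  rw [this]
  exact hf.equiv.bijective.comp (Algebra.IsPushout.cancelBaseChange R S A B M).bijective

open Algebra in
/-- Functoriality of `Algebra.H1Cotangent.map`. -/
theorem h1Cotangent_map_map {R₁ S₁ R₂ S₂ R₃ S₃ : Type u} [CommRing R₁] [CommRing S₁]
    [CommRing R₂] [CommRing S₂] [CommRing R₃] [CommRing S₃]
    [Algebra R₁ S₁] [Algebra R₂ S₂] [Algebra R₃ S₃]
    [Algebra R₁ R₂] [Algebra R₂ R₃] [Algebra R₁ R₃] [IsScalarTower R₁ R₂ R₃]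
    [Algebra S₁ S₂] [Algebra S₂ S₃] [Algebra S₁ S₃] [IsScalarTower S₁ S₂ S₃]
    [Algebra R₁ S₂] [IsScalarTower R₁ R₂ S₂] [IsScalarTower R₁ S₁ S₂]
    [Algebra R₂ S₃] [IsScalarTower R₂ R₃ S₃] [IsScalarTower R₂ S₂ S₃]
    [Algebra R₁ S₃] [IsScalarTower R₁ R₃ S₃] [IsScalarTower R₁ S₁ S₃]
    (x : H1Cotangent R₁ S₁) :
    H1Cotangent.map R₂ R₃ S₂ S₃ (H1Cotangent.map R₁ R₂ S₁ S₂ x) =
      H1Cotangent.map R₁ R₃ S₁ S₃ x := by
  simp only [H1Cotangent.map]
  rw [← Extension.H1Cotangent.map_comp_apply, Extension.H1Cotangent.map_eq]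

open Algebra in
attribute [local instance] Algebra.TensorProduct.rightAlgebra in
/-- Flat base change for `H1Cotangent`, for an arbitrary pushout square. -/
theorem isBaseChange_h1Cotangent_map_of_flat (R T A B : Type u) [CommRing R] [CommRing T]
    [CommRing A] [CommRing B] [Algebra R T] [Algebra R A] [Algebra R B] [Algebra A B]
    [Algebra T B] [IsScalarTower R A B] [IsScalarTower R T B] [Algebra.IsPushout R T A B]
    [Module.Flat R T] :
    IsBaseChange T ((H1Cotangent.map R T A B).restrictScalars R) := by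
  let e : T ⊗[R] A ≃ₐ[T] B := Algebra.IsPushout.equiv R T A B
  let _ : Algebra (T ⊗[R] A) B := e.toRingHom.toAlgebra
  have : IsScalarTower T (T ⊗[R] A) B := .of_algebraMap_eq' e.toAlgHom.comp_algebraMap.symm
  have : IsScalarTower A (T ⊗[R] A) B := .of_algebraMap_eq fun a => by
    show algebraMap A B a = e (1 ⊗ₜ a)
    rw [Algebra.IsPushout.equiv_tmul, map_one, one_mul]
  have : IsScalarTower R (T ⊗[R] A) B := .to₁₃₄ R T _ _
  let E : T ⊗[R] H1Cotangent R A ≃ₗ[T] H1Cotangent T B :=
    tensorH1CotangentOfFlat R A T ≪≫ₗ H1Cotangent.mapEquiv T (T ⊗[R] A) B e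
  refine IsBaseChange.of_equiv E fun x => ?_
  have h1 : E (1 ⊗ₜ x) = H1Cotangent.map T T (T ⊗[R] A) B
      (H1Cotangent.map R T A (T ⊗[R] A) x) := by
    simp only [E, LinearEquiv.trans_apply, tensorH1CotangentOfFlat_tmul, one_smul]
    rfl
  rw [h1, h1Cotangent_map_map]
  rfl

set_option linter.style.haveILetI false in
open Algebra in
/-- Smoothness at a point descends along a base change which is flat at the image point. -/
theorem isSmoothAt_under_of_isPushout_of_flat {R A S B : Type u} [CommRing R] [CommRing A]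
    [CommRing S] [CommRing B] [Algebra R A] [Algebra R S] [Algebra A B] [Algebra S B]
    [Algebra R B] [IsScalarTower R A B] [IsScalarTower R S B] [Algebra.IsPushout R A S B]
    [Algebra.FinitePresentation R A]
    (q' : Ideal B) [q'.IsPrime]
    (hflat : Module.Flat R (Localization.AtPrime (q'.under S)))
    (hsm : Algebra.IsSmoothAt S q') : Algebra.IsSmoothAt R (q'.under A) := by
  let p' : Ideal S := q'.under S
  let q : Ideal A := q'.under A
  have : q'.LiesOver p' := ⟨rfl⟩
  have : q'.LiesOver q := ⟨rfl⟩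
  let Sp := Localization.AtPrime p'
  let Bp := Localization (algebraMapSubmonoid B p'.primeCompl)
  let Bq := Localization.AtPrime q'
  let Aq := Localization.AtPrime q
  let f : Bp →ₐ[B] Bq := IsLocalization.liftAlgHom (M := algebraMapSubmonoid B p'.primeCompl)
        (f := Algebra.ofId _ _) (by
      rintro ⟨_, x, hx, rfl⟩
      simpa using! IsLocalization.map_units (M := q'.primeCompl) Bq ⟨algebraMap _ _ x,
        by simp_all [q'.over_def p']⟩)
  algebraize [f.toRingHom]
  have : IsLocalization (algebraMapSubmonoid Bp q'.primeCompl) Bq :=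
    .isLocalization_of_submonoid_le _ _ (algebraMapSubmonoid B p'.primeCompl) _
    (by rintro _ ⟨x, hx, rfl⟩; simp_all [q'.over_def p'])
  have h1 : Algebra.IsPushout S B Sp Bp := Algebra.isPushout_of_isLocalization p'.primeCompl _ _ _
  have h2 : Algebra.IsPushout S Sp B Bp := h1.symm
  have h0 : Algebra.IsPushout R S A B := Algebra.IsPushout.symm inferInstance
  have : IsScalarTower R S Bp := inferInstance
  have : IsScalarTower S Sp Bp := inferInstance
  have : IsScalarTower R Sp Bp := .to₁₃₄ R S Sp Bp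
  have h3 : Algebra.IsPushout R Sp A Bp := (Algebra.IsPushout.comp_iff R S A B).mpr h2
  -- the local rings
  let _ := Localization.AtPrime.algebraOfLiesOver p' q'
  let _ := Localization.AtPrime.algebraOfLiesOver q q'
  have : IsScalarTower S Bp Bq := .to₁₃₄ _ B _ _
  have : IsScalarTower Sp Bp Bq := .of_algebraMap_eq' <| by
    apply IsLocalization.ringHom_ext p'.primeCompl
    simp only [RingHom.comp_assoc, ← IsScalarTower.algebraMap_eq]
  have : IsScalarTower A Bp Bq := .to₁₃₄ _ B _ _
  have : IsScalarTower R Bp Bq := .to₁₃₄ _ B _ _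
  -- flatness
  have hfl : Module.Flat A Bq := flat_localization_of_isPushout q' hflat
  have hfl' : Module.Flat Aq Bq :=
    (Module.flat_iff_of_isLocalization Aq q.primeCompl Bq).mpr hfl
  have : IsLocalHom (algebraMap Aq Bq) :=
    inferInstanceAs (IsLocalHom (Localization.localRingHom q q' (algebraMap A B) _))
  have : Module.FaithfullyFlat Aq Bq := .of_flat_of_isLocalHom
  have : Algebra.FormallyEtale S Sp := Algebra.FormallyEtale.of_isLocalization p'.primeCompl
  have hsm' : Algebra.FormallySmooth Sp Bq :=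
    (Algebra.FormallySmooth.iff_restrictScalars (R := S) (A := Sp) (B := Bq)).mp hsm
  have : Algebra.FormallyEtale Bp Bq :=
    Algebra.FormallyEtale.of_isLocalization (algebraMapSubmonoid Bp q'.primeCompl)
  have : Algebra.FormallyEtale A Aq := Algebra.FormallyEtale.of_isLocalization q.primeCompl
  -- Kaehler part
  have b1 : IsBaseChange Aq (KaehlerDifferential.map R R A Aq) :=
    KaehlerDifferential.isBaseChange_of_formallyEtale R A Aq
  have b2 : IsBaseChange Bp (KaehlerDifferential.map R Sp A Bp) :=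
    isBaseChange_of_isPushout R Sp A Bp _ (KaehlerDifferential.isBaseChange R Sp A Bp)
  have b3 : IsBaseChange Bq (KaehlerDifferential.map Sp Sp Bp Bq) :=
    KaehlerDifferential.isBaseChange_of_formallyEtale Sp Bp Bq
  have b23 := b2.comp b3
  have hfun : (KaehlerDifferential.map Sp Sp Bp Bq).restrictScalars A ∘ₗ
      KaehlerDifferential.map R Sp A Bp =
      (KaehlerDifferential.map R Sp Aq Bq).restrictScalars A ∘ₗ
        KaehlerDifferential.map R R A Aq := by
    ext a
    simp only [Derivation.coe_comp, LinearMap.coe_comp, LinearMap.coe_restrictScalars,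
      Function.comp_apply, Derivation.coeFn_coe, KaehlerDifferential.map_D]
    rw [← IsScalarTower.algebraMap_apply A Bp Bq, ← IsScalarTower.algebraMap_apply A Aq Bq]
  have b4 : IsBaseChange Bq (KaehlerDifferential.map R Sp Aq Bq) :=
    IsBaseChange.of_comp b1 (hfun ▸ b23)
  have hproj : Module.Projective Aq Ω[Aq⁄R] := by
    have : Module.Flat Bq (Bq ⊗[Aq] Ω[Aq⁄R]) := Module.Flat.of_linearEquiv b4.equiv
    have : Module.Flat Aq Ω[Aq⁄R] := Module.Flat.of_flat_tensorProduct Aq _ Bq
    have : Module.FinitePresentation Aq Ω[Aq⁄R] :=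
      _root_.FinitePresentation.of_isBaseChange _ b1
    exact Module.Flat.projective_of_finitePresentation
  -- H1 part
  have c1 : IsBaseChange Aq (H1Cotangent.map R R A Aq) :=
    (isLocalizedModule_iff_isBaseChange q.primeCompl Aq _).mp inferInstance
  have c2 : IsBaseChange Bp (H1Cotangent.map R Sp A Bp) :=
    isBaseChange_of_isPushout R Sp A Bp _ (isBaseChange_h1Cotangent_map_of_flat R Sp A Bp)
  have c3 : IsBaseChange Bq (H1Cotangent.map Sp Sp Bp Bq) :=
    (isLocalizedModule_iff_isBaseChange (algebraMapSubmonoid Bp q'.primeCompl) Bq _).mp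
      inferInstance
  have c23 := c2.comp c3
  have hfun' : (H1Cotangent.map Sp Sp Bp Bq).restrictScalars A ∘ₗ
      H1Cotangent.map R Sp A Bp =
      (H1Cotangent.map R Sp Aq Bq).restrictScalars A ∘ₗ H1Cotangent.map R R A Aq := by
    ext x : 1
    simp only [LinearMap.coe_comp, LinearMap.coe_restrictScalars, Function.comp_apply]
    rw [h1Cotangent_map_map, h1Cotangent_map_map]
  have c4 : IsBaseChange Bq (H1Cotangent.map R Sp Aq Bq) :=
    IsBaseChange.of_comp c1 (hfun' ▸ c23)
  have hsub : Subsingleton (H1Cotangent R Aq) := by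
    have : Subsingleton (Bq ⊗[Aq] H1Cotangent R Aq) := c4.equiv.subsingleton
    exact Module.FaithfullyFlat.lTensor_reflects_triviality Aq Bq _
  exact ⟨hproj, hsub⟩

/-- For `f` locally of finite presentation, `f` is smooth on an open neighbourhood of `x` iff
`x` lies in the smooth locus of `f`. -/
theorem exists_smooth_nhd_iff_mem_smoothLocus {X Y : Scheme.{u}} (f : X ⟶ Y)
    [LocallyOfFinitePresentation f] (x : X) :
    (∃ U : X.Opens, x ∈ U ∧ Smooth (U.ι ≫ f)) ↔ x ∈ f.smoothLocus := by
  constructor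
  · rintro ⟨U, hxU, hU⟩
    have h1 : (U.ι ≫ f).smoothLocus = ⊤ := Scheme.Hom.smoothLocus_eq_top _
    rw [← Scheme.Hom.preimage_smoothLocus_eq] at h1
    have h2 : (⟨x, hxU⟩ : U.toScheme) ∈ U.ι ⁻¹ᵁ f.smoothLocus := by rw [h1]; trivial
    exact h2
  · intro hx
    refine ⟨f.smoothLocus, hx, ?_⟩
    rw [← Scheme.Hom.smoothLocus_eq_top_iff, ← Scheme.Hom.preimage_smoothLocus_eq]
    rw [eq_top_iff]
    intro y _
    exact y.2

set_option backward.isDefEq.respectTransparency.types false in
/-- Smoothness at a point descends along a base change which is flat at the image point. -/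
theorem mem_smoothLocus_fst_of_isPullback {P X S S' : Scheme.{u}} {g' : P ⟶ X}
    {f' : P ⟶ S'} {f : X ⟶ S} {g : S' ⟶ S} (H : IsPullback g' f' f g)
    [LocallyOfFinitePresentation f] [LocallyOfFinitePresentation f'] (x' : P)
    (hg : (g.stalkMap (f' x')).hom.Flat) (hx' : x' ∈ f'.smoothLocus) :
    g' x' ∈ f.smoothLocus := by
  obtain ⟨W, hW, hxW, -⟩ := Opens.isBasis_iff_nbhd.mp S.isBasis_affineOpens
    (Opens.mem_top (f (g' x')))
  obtain ⟨V, hV, hxV, eV⟩ := Opens.isBasis_iff_nbhd.mp X.isBasis_affineOpens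
    (show g' x' ∈ f ⁻¹ᵁ W from hxW)
  have hgf : g (f' x') = f (g' x') := by
    rw [← Scheme.Hom.comp_apply, ← Scheme.Hom.comp_apply, H.w]
  obtain ⟨W', hW', hxW', eW'⟩ := Opens.isBasis_iff_nbhd.mp S'.isBasis_affineOpens
    (show f' x' ∈ g ⁻¹ᵁ W from by
      show g (f' x') ∈ W
      rw [hgf]; exact hxW)
  set UY : P.Opens := g' ⁻¹ᵁ V ⊓ f' ⁻¹ᵁ W' with hUYdef
  have hxUY : x' ∈ UY := ⟨hxV, hxW'⟩
  have e1 : UY ≤ g' ⁻¹ᵁ V := inf_le_left
  have e2 : UY ≤ f' ⁻¹ᵁ W' := inf_le_right
  have hiso := isIso_pushoutSection_of_isAffineOpen H eW' eV hUYdef hW hW' hV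
  have hpush := (isIso_pushoutSection_iff H eW' eV hUYdef).mp hiso
  have hUY : IsAffineOpen UY := by
    have : IsAffine (Scheme.Opens.toScheme W) := hW
    have : IsAffine (Scheme.Opens.toScheme W') := hW'
    have : IsAffine (Scheme.Opens.toScheme V) := hV
    exact .of_isIso (Scheme.Hom.isPullback_resLE H eW' eV hUYdef).isoPullback.hom
  rw [Scheme.Hom.mem_smoothLocus, formallySmooth_stalkMap_iff W hW V hV eV hxV]
  rw [Scheme.Hom.mem_smoothLocus, formallySmooth_stalkMap_iff W' hW' UY hUY e2 hxUY] at hx'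
  rw [flat_stalkMap_iff_flat_localization g W hW W' hW' eW' (f' x') hxW'] at hg
  have hfp : (f.appLE W V eV).hom.FinitePresentation := f.finitePresentation_appLE hW hV eV
  algebraize [(f.appLE W V eV).hom, (g.appLE W W' eW').hom, (g'.appLE V UY e1).hom,
    (f'.appLE W' UY e2).hom, ((g'.appLE V UY e1).hom.comp (f.appLE W V eV).hom)]
  have : IsScalarTower Γ(S, W) Γ(X, V) Γ(P, UY) := .of_algebraMap_eq' rfl
  have : IsScalarTower Γ(S, W) Γ(S', W') Γ(P, UY) :=
    .of_algebraMap_eq' congr($(hpush.w).hom)
  have hP : Algebra.IsPushout Γ(S, W) Γ(X, V) Γ(S', W') Γ(P, UY) :=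
    CommRingCat.isPushout_iff_isPushout.mp hpush
  have hq := congr($(IsAffineOpen.comap_primeIdealOf_appLE W' hW' UY hUY e2 hxUY).1)
  simp only [PrimeSpectrum.comap_asIdeal] at hq
  have hq2 := congr($(IsAffineOpen.comap_primeIdealOf_appLE V hV UY hUY e1 hxUY).1)
  simp only [PrimeSpectrum.comap_asIdeal] at hq2
  have key : ∀ (I J : Ideal Γ(S', W')) [I.IsPrime] [J.IsPrime], I = J →
      Module.Flat Γ(S, W) (Localization.AtPrime I) →
      Module.Flat Γ(S, W) (Localization.AtPrime J) := by
    intro I J _ _ h; subst h; exact id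
  have key2 : ∀ (I J : Ideal Γ(X, V)) [I.IsPrime] [J.IsPrime], I = J →
      Algebra.IsSmoothAt Γ(S, W) I → Algebra.IsSmoothAt Γ(S, W) J := by
    intro I J _ _ h; subst h; exact id
  have main := isSmoothAt_under_of_isPushout_of_flat (R := Γ(S, W)) (A := Γ(X, V))
    (S := Γ(S', W')) (B := Γ(P, UY)) (hUY.primeIdealOf ⟨x', hxUY⟩).asIdeal
    (key _ _ hq.symm hg) hx'
  exact key2 _ _ hq2 main

end Groth.Agent.Lib.Helper14
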