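import Mathlib
import Groth.Agent.Lib.Helper14.SmoothFlatDescent

/-!
# The smooth locus of a geometrically reduced scheme locally of finite presentation over a field
is dense
-/

set_option autoImplicit false
universe u
open CategoryTheory CategoryTheory.Limits AlgebraicGeometry

namespace Groth.Agent.Lib.Helper14

theorem dense_smoothLocus_of_geometricallyReduced {K : Type u} [Field K] {Z : Scheme.{u}}
    (h : Z ⟶ Spec (CommRingCat.of K)) [LocallyOfFinitePresentation h] [GeometricallyReduced h] :
    Dense (h.smoothLocus : Set Z) := by
  let P := AlgebraicClosure K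
  let g : Spec (CommRingCat.of P) ⟶ Spec (CommRingCat.of K) :=
    Spec.map (CommRingCat.ofHom (algebraMap K P))
  let π := pullback.fst h g
  let q := pullback.snd h g
  have hred : IsReduced (pullback h g) :=
    GeometricallyReduced.geometrically_isReduced g π q (.of_hasPullback h g)
  have hd : Dense (q.smoothLocus : Set ↥(pullback h g)) := q.dense_smoothLocus_of_perfectField
  have hsubK : Subsingleton (Spec (CommRingCat.of K)) :=
    inferInstanceAs (Subsingleton (PrimeSpectrum K))
  have hgsurj : Surjective g :=
    ⟨fun y => ⟨IsLocalRing.closedPoint P, Subsingleton.elim _ _⟩⟩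
  have hπsurj : Function.Surjective π := (inferInstance : Surjective π).surj
  have hflatg : Flat g := inferInstance
  have himg : π '' (q.smoothLocus : Set ↥(pullback h g)) ⊆ (h.smoothLocus : Set Z) := by
    rintro _ ⟨z, hz, rfl⟩
    exact mem_smoothLocus_fst_of_isPullback (IsPullback.of_hasPullback h g) z
      (Flat.stalkMap g _) hz
  exact (hπsurj.denseRange.dense_image π.continuous hd).mono himg

end Groth.Agent.Lib.Helper14
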