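import Groth.Agent.Lib.Helper14.EtaleAtPrime
import Mathlib.AlgebraicGeometry.Morphisms.Etale
import Mathlib.AlgebraicGeometry.Morphisms.Flat
import Mathlib.AlgebraicGeometry.Morphisms.FormallyUnramified
import Mathlib.AlgebraicGeometry.Morphisms.FinitePresentation

set_option autoImplicit false
universe u
open CategoryTheory CategoryTheory.Limits AlgebraicGeometry TopologicalSpace

namespace Groth.Agent.Lib.Helper14

set_option backward.isDefEq.respectTransparency.types false in
/-- If `h` is locally of finite presentation and its stalk map at `y` is flat and formally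
unramified, then `h` is étale on an open neighbourhood of `y`. -/
theorem exists_etale_nhd_of_stalkMap {Y S : Scheme.{u}} (h : Y ⟶ S)
    [LocallyOfFinitePresentation h] (y : Y)
    (hfl : (h.stalkMap y).hom.Flat) (hun : (h.stalkMap y).hom.FormallyUnramified) :
    ∃ V : Y.Opens, y ∈ V ∧ Etale (V.ι ≫ h) := by
  obtain ⟨U, hU, hyU, -⟩ := Opens.isBasis_iff_nbhd.mp S.isBasis_affineOpens
    (Opens.mem_top (h y))
  obtain ⟨W, hW, hyW, e⟩ := Opens.isBasis_iff_nbhd.mp Y.isBasis_affineOpens
    (show y ∈ h ⁻¹ᵁ U from hyU)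
  have iso := IsAffineOpen.arrowStalkMapIso h U hU W hW e hyW
  have hfl' := (RingHom.Flat.respectsIso.arrow_mk_iso_iff iso).1 hfl
  have hun' := (RingHom.FormallyUnramified.respectsIso.arrow_mk_iso_iff iso).1 hun
  have hfp : (h.appLE U W e).hom.FinitePresentation := h.finitePresentation_appLE hU hW e
  obtain ⟨b, hbQ, hb⟩ := exists_etale_away_of_localRingHom (h.appLE U W e).hom hfp
    (hW.primeIdealOf ⟨y, hyW⟩).asIdeal (hU.primeIdealOf ⟨h y, e hyW⟩).asIdeal
    (congr($(IsAffineOpen.comap_primeIdealOf_appLE U hU W hW e hyW).1).symm) hfl' hun'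
  refine ⟨Y.basicOpen b, ?_, ?_⟩
  · have h1 : hW.primeIdealOf ⟨y, hyW⟩ ∈ hW.fromSpec ⁻¹ᵁ Y.basicOpen b := by
      rw [hW.fromSpec_preimage_basicOpen]; exact hbQ
    have h2 : hW.fromSpec (hW.primeIdealOf ⟨y, hyW⟩) ∈ Y.basicOpen b := h1
    rwa [hW.fromSpec_primeIdealOf ⟨y, hyW⟩] at h2
  · have hV : IsAffineOpen (Y.basicOpen b) := hW.basicOpen b
    have e' : Y.basicOpen b ≤ h ⁻¹ᵁ U := (Y.basicOpen_le b).trans e
    rw [← Scheme.Hom.resLE_comp_ι h e']
    suffices Etale (h.resLE U (Y.basicOpen b) e') from inferInstance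
    have : IsAffine U := hU
    have : IsAffine (Y.basicOpen b) := hV
    rw [HasRingHomProperty.iff_of_isAffine (P := @Etale),
      RingHom.Etale.respectsIso.arrow_mk_iso_iff (arrowResLEAppIso h U (Y.basicOpen b) e')]
    have hloc := hW.isLocalization_basicOpen b
    have := RingHom.Etale.respectsIso.1 _ (IsLocalization.algEquiv (Submonoid.powers b)
      (Localization.Away b) Γ(Y, Y.basicOpen b)).toRingEquiv hb
    convert this using 1
    ext x
    rw [← Scheme.Hom.appLE_map h e (homOfLE (Y.basicOpen_le b)).op]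
    exact ((IsLocalization.algEquiv (Submonoid.powers b) (Localization.Away b)
      Γ(Y, Y.basicOpen b)).commutes _).symm

end Groth.Agent.Lib.Helper14

namespace Groth.Agent.Lib.Helper14

/-- Ring-hom form of openness of the unramified locus. -/
theorem exists_formallyUnramified_away_of_localRingHom {R B : Type u} [CommRing R] [CommRing B]
    (φ : R →+* B) (hφ : φ.FiniteType) (Q : Ideal B) [Q.IsPrime] (p : Ideal R) [p.IsPrime]
    (hpQ : p = Q.comap φ)
    (hun : (Localization.localRingHom p Q φ hpQ).FormallyUnramified) :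
    ∃ b ∉ Q, ((algebraMap B (Localization.Away b)).comp φ).FormallyUnramified := by
  algebraize [φ]
  have hcomp : algebraMap R (Localization.AtPrime Q) =
      (Localization.localRingHom p Q φ hpQ).comp (algebraMap R (Localization.AtPrime p)) := by
    ext x
    rw [RingHom.comp_apply, Localization.localRingHom_to_map,
      IsScalarTower.algebraMap_apply R B (Localization.AtPrime Q)]
    rfl
  have h2 : Algebra.IsUnramifiedAt R Q := by
    show Algebra.FormallyUnramified R (Localization.AtPrime Q)
    rw [← RingHom.formallyUnramified_algebraMap, hcomp]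
    refine RingHom.FormallyUnramified.comp ?_ hun
    rw [RingHom.formallyUnramified_algebraMap]
    exact Algebra.FormallyUnramified.of_isLocalization p.primeCompl
  obtain ⟨b, hbQ, hb⟩ := Algebra.exists_formallyUnramified_of_isUnramifiedAt (R := R) Q
  refine ⟨b, hbQ, ?_⟩
  have : (algebraMap B (Localization.Away b)).comp φ = algebraMap R (Localization.Away b) := by
    rw [IsScalarTower.algebraMap_eq R B (Localization.Away b)]
    rfl
  rw [this, RingHom.formallyUnramified_algebraMap]
  exact hb

set_option backward.isDefEq.respectTransparency.types false in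
/-- If `h` is locally of finite type and its stalk map at `y` is formally unramified, then `h` is
formally unramified on an open neighbourhood of `y`. -/
theorem exists_formallyUnramified_nhd_of_stalkMap {Y S : Scheme.{u}} (h : Y ⟶ S)
    [LocallyOfFiniteType h] (y : Y) (hun : (h.stalkMap y).hom.FormallyUnramified) :
    ∃ V : Y.Opens, y ∈ V ∧ FormallyUnramified (V.ι ≫ h) := by
  obtain ⟨U, hU, hyU, -⟩ := Opens.isBasis_iff_nbhd.mp S.isBasis_affineOpens
    (Opens.mem_top (h y))
  obtain ⟨W, hW, hyW, e⟩ := Opens.isBasis_iff_nbhd.mp Y.isBasis_affineOpens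
    (show y ∈ h ⁻¹ᵁ U from hyU)
  have iso := IsAffineOpen.arrowStalkMapIso h U hU W hW e hyW
  have hun' := (RingHom.FormallyUnramified.respectsIso.arrow_mk_iso_iff iso).1 hun
  have hft : (h.appLE U W e).hom.FiniteType := h.finiteType_appLE hU hW e
  obtain ⟨b, hbQ, hb⟩ := exists_formallyUnramified_away_of_localRingHom (h.appLE U W e).hom hft
    (hW.primeIdealOf ⟨y, hyW⟩).asIdeal (hU.primeIdealOf ⟨h y, e hyW⟩).asIdeal
    (congr($(IsAffineOpen.comap_primeIdealOf_appLE U hU W hW e hyW).1).symm) hun'
  refine ⟨Y.basicOpen b, ?_, ?_⟩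
  · have h1 : hW.primeIdealOf ⟨y, hyW⟩ ∈ hW.fromSpec ⁻¹ᵁ Y.basicOpen b := by
      rw [hW.fromSpec_preimage_basicOpen]; exact hbQ
    have h2 : hW.fromSpec (hW.primeIdealOf ⟨y, hyW⟩) ∈ Y.basicOpen b := h1
    rwa [hW.fromSpec_primeIdealOf ⟨y, hyW⟩] at h2
  · have hV : IsAffineOpen (Y.basicOpen b) := hW.basicOpen b
    have e' : Y.basicOpen b ≤ h ⁻¹ᵁ U := (Y.basicOpen_le b).trans e
    rw [← Scheme.Hom.resLE_comp_ι h e']
    suffices FormallyUnramified (h.resLE U (Y.basicOpen b) e') from
      MorphismProperty.comp_mem _ _ _ this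
        (HasRingHomProperty.of_isOpenImmersion (P := @FormallyUnramified)
          (fun R _ => RingHom.FormallyUnramified.of_surjective
            (f := RingHom.id R) Function.surjective_id))
    have : IsAffine U := hU
    have : IsAffine (Y.basicOpen b) := hV
    rw [HasRingHomProperty.iff_of_isAffine (P := @FormallyUnramified),
      RingHom.FormallyUnramified.respectsIso.arrow_mk_iso_iff
        (arrowResLEAppIso h U (Y.basicOpen b) e')]
    have hloc := hW.isLocalization_basicOpen b
    have := RingHom.FormallyUnramified.respectsIso.1 _ (IsLocalization.algEquiv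
      (Submonoid.powers b) (Localization.Away b) Γ(Y, Y.basicOpen b)).toRingEquiv hb
    convert this using 1
    ext x
    rw [← Scheme.Hom.appLE_map h e (homOfLE (Y.basicOpen_le b)).op]
    exact ((IsLocalization.algEquiv (Submonoid.powers b) (Localization.Away b)
      Γ(Y, Y.basicOpen b)).commutes _).symm

/-- stalk map of a restriction to an open neighbourhood -/
theorem stalkMap_property_of_nhd {Y S : Scheme.{u}} (h : Y ⟶ S)
    (Q : ∀ {R S : Type u} [CommRing R] [CommRing S], (R →+* S) → Prop)
    (hQ : RingHom.RespectsIso Q) (V : Y.Opens) (y' : V.toScheme)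
    (hV : Q ((V.ι ≫ h).stalkMap y').hom) : Q (h.stalkMap (V.ι y')).hom := by
  rw [Scheme.Hom.stalkMap_comp] at hV
  exact (hQ.cancel_right_isIso _ (V.ι.stalkMap y')).1 hV

end Groth.Agent.Lib.Helper14
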