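import Groth.Agent.Lib.Helper14.BlowUpCart
import Groth.Prelude.Def_HTop3

/-!
# h sheaves on almost blow-up squares (helper14)
-/

set_option autoImplicit false
universe v u

namespace Groth.Agent.Lib.Helper14.BlowUpCart

open CategoryTheory CategoryTheory.Limits AlgebraicGeometry Opposite HTop

/-- The scheme theoretic image of an open immersion, restricted to that open, is everything. -/
theorem isIso_imageι_restrict {X : Scheme.{u}} (O : X.Opens) :
    IsIso (O.ι.imageι ∣_ O) := by
  have hsq : IsPullback (O.ι.imageι ∣_ O) (O.ι.imageι ⁻¹ᵁ O).ι O.ι O.ι.imageι :=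
    isPullback_morphismRestrict O.ι.imageι O
  let σ : (O : Scheme.{u}) ⟶ (O.ι.imageι ⁻¹ᵁ O : Scheme.{u}) :=
    hsq.lift (𝟙 _) O.ι.toImage (by rw [Category.id_comp, Scheme.Hom.toImage_imageι])
  have hσ : σ ≫ (O.ι.imageι ∣_ O) = 𝟙 _ := hsq.lift_fst _ _ _
  have hsplit : IsSplitEpi (O.ι.imageι ∣_ O) := ⟨⟨⟨σ, hσ⟩⟩⟩
  have hcl : IsClosedImmersion (O.ι.imageι ∣_ O) := inferInstance
  have hmono : Mono (O.ι.imageι ∣_ O) := inferInstance
  exact isIso_of_mono_of_isSplitEpi _

/-- In an almost blow-up square, `b` is an isomorphism away from `Z`. -/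
theorem isIso_restrict_of_isAlmostBlowUpSquare {E Z X' X : Scheme.{u}} {e : E ⟶ X'}
    {π : E ⟶ Z} {b : X' ⟶ X} {i : Z ⟶ X} (h : HTop.IsAlmostBlowUpSquare e π b i) :
    IsIso (b ∣_ i.ker.support.compl) := by
  have hc : IsIso (((HTop.supportedOn (i.ker.comap b)).subschemeι ≫ b) ∣_ i.ker.support.compl) :=
    Groth.Agent.H8.blowUp_isIso_off_center i.ker _ h.isBlowUp
  rw [morphismRestrict_comp] at hc
  have hO : b ⁻¹ᵁ i.ker.support.compl = HTop.awayFrom (i.ker.comap b) := by
    ext x
    show b x ∉ i.ker.support ↔ x ∉ (i.ker.comap b).support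
    rw [Scheme.IdealSheafData.support_comap]
    rfl
  have hβ : IsIso ((HTop.supportedOn (i.ker.comap b)).subschemeι ∣_
      (b ⁻¹ᵁ i.ker.support.compl)) := by
    rw [hO]
    exact isIso_imageι_restrict (HTop.awayFrom (i.ker.comap b))
  exact @IsIso.of_isIso_comp_left _ _ _ _ _
    ((HTop.supportedOn (i.ker.comap b)).subschemeι ∣_ (b ⁻¹ᵁ i.ker.support.compl)) _ hβ hc

/-- An h sheaf turns an almost blow-up square into a cartesian square of sections. -/
theorem cartesian_of_isAlmostBlowUpSquare (S : Scheme.{u}) (F : HTop.ShH S) {E Z X' X : Over S}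
    (e : E ⟶ X') (π : E ⟶ Z) (b : X' ⟶ X) (i : Z ⟶ X)
    (h : HTop.IsAlmostBlowUpSquare e.left π.left b.left i.left) (t : F.obj.obj (op Z))
    (s' : F.obj.obj (op X')) (hts : F.obj.map π.op t = F.obj.map e.op s') :
    ∃! s : F.obj.obj (op X), F.obj.map i.op s = t ∧ F.obj.map b.op s = s' := by
  have hcl := h.isClosedImmersion
  have hfpi := h.finitePresentation_base
  have hprop := h.isProper
  have hfpb := h.finitePresentation
  have hiso := isIso_restrict_of_isAlmostBlowUpSquare h
  have hΔ : LocallyOfFinitePresentation (pullback.diagonal b.left) := by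
    refine Groth.Agent.Lib.Helper16.locallyOfFinitePresentation_of_comp
      (pullback.diagonal b.left) (pullback.fst b.left b.left) ?_ inferInstance
    rw [pullback.diagonal_fst]
    infer_instance
  exact PhCart.cartesian_of_pairSheaf F.obj @LocallyOfFinitePresentation
    (fun Y g hp hfp hsurj => hSheaf_pair S F Y g hp hfp hsurj) e π b i hfpb hfpi hΔ
    inferInstance h.isPullback i.left.ker.support.compl (coe_support_ker_compl i.left) hiso
    t s' hts

end Groth.Agent.Lib.Helper14.BlowUpCart
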