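import Mathlib
import Groth.Agent.Lib.Helper11.PullbackTensor
import Groth.Agent.Lib.Helper11.GenLocus
import Groth.Agent.Lib.Helper45.InvBasis
import Groth.Agent.Lib.Helper45.Dev.SerreVanish
import Groth.Agent.Lib.Helper49.FinLocFree
import Groth.Agent.S4811

/-!
# Ampleness descends along cofiltered limits (helper14)

Stacks 0B8W-type statement: if `S = lim S_i` (qcqs, affine transition maps), `L₀` is invertible on
`S_{i₀}` and its pullback to `S` is ample, then its pullback to some `S_i` is ample.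

* `genLocus_iso_comp`: `X_s` is not changed by precomposing `s` with an automorphism of `O_X`.
* `exists_section_pullback`: sections of tensor powers can be pulled back (up to a given iso),
  with `X_{f^* s} = f⁻¹ X_s`.
* `exists_section_stage`: a section of `(π^* L₀)^n` on the limit comes from a stage, as far as the
  locus `X_s` is concerned.
* `exists_isAffineOpen_map_preimage`: a quasi-compact open of a stage with affine preimage in the
  limit has affine preimage in a later stage.
* `exists_isAmple_stage`: the theorem.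
-/

set_option autoImplicit false
universe u

open CategoryTheory Limits AlgebraicGeometry TopologicalSpace

namespace Groth.Agent.Lib.Helper14.AmpleLim

open Groth.Agent.Lib.Helper11 Groth.Agent.Lib.Helper11.GenLocus
  Groth.Agent.Lib.Helper11.PullbackBasis Groth.Agent.Lib.Helper11.PullbackTensor
  Groth.Agent.Lib.Helper11.CounitEpi

variable {X Y : Scheme.{u}}

theorem genLocus_iso_comp {L : X.Modules}
    (a : Coh.structureModule X ≅ Coh.structureModule X) (s : Coh.structureModule X ⟶ L) :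
    CohB1.genLocus L (a.hom ≫ s) = CohB1.genLocus L s := by
  apply le_antisymm
  · rw [le_genLocus_iff]
    have h := (le_genLocus_iff L (a.hom ≫ s) _).mp le_rfl
    rw [Functor.map_comp, isIso_comp_left_iff] at h
    exact h
  · rw [le_genLocus_iff, Functor.map_comp, isIso_comp_left_iff]
    exact (le_genLocus_iff L s _).mp le_rfl

/-- Pull back a section of a tensor power of an invertible module along `f`, transporting along an
isomorphism `f^* L ≅ L'`. -/
theorem exists_section_pullback (f : X ⟶ Y) {L : Y.Modules} (hL : PicF.IsInvertible L)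
    {L' : X.Modules} (e : (Scheme.Modules.pullback f).obj L ≅ L') (n : ℕ)
    (t : Coh.structureModule Y ⟶ CohB1.tensorPow L n) :
    ∃ t' : Coh.structureModule X ⟶ CohB1.tensorPow L' n,
      CohB1.genLocus _ t' = f ⁻¹ᵁ CohB1.genLocus _ t := by
  refine ⟨(pullSec f t ≫ (pullbackTensorPowIso f hL n).hom) ≫ (tensorPowCongr e n).hom, ?_⟩
  rw [genLocus_comp_iso, genLocus_comp_iso, genLocus_pullSec f (isInvertible_tensorPow hL n)]

section Limit

variable {I : Type u} [SmallCategory I] [IsCofiltered I]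
  (D : I ⥤ Scheme.{u}) (c : Cone D) (hc : IsLimit c)
  [∀ (i j : I) (f : i ⟶ j), IsAffineHom (D.map f)] [∀ i, CompactSpace (D.obj i)]
  [∀ i, QuasiSeparatedSpace (D.obj i)] (i₀ : I) (L₀ : (D.obj i₀).Modules)
  (hL₀ : PicF.IsInvertible L₀)

include hc hL₀ in
/-- A section of `(π^* L₀)^n` on the limit comes from a stage, as far as `X_s` is concerned. -/
theorem exists_section_stage (n : ℕ)
    (s : Coh.structureModule c.pt ⟶
      CohB1.tensorPow ((Scheme.Modules.pullback (c.π.app i₀)).obj L₀) n) :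
    ∃ (j : I) (φ : j ⟶ i₀) (t : Coh.structureModule (D.obj j) ⟶
        CohB1.tensorPow ((Scheme.Modules.pullback (D.map φ)).obj L₀) n),
      c.π.app j ⁻¹ᵁ CohB1.genLocus _ t = CohB1.genLocus _ s := by
  have hM : PicF.IsInvertible (CohB1.tensorPow L₀ n) := isInvertible_tensorPow hL₀ n
  have hO : PicF.IsInvertible (Coh.structureModule (D.obj i₀)) := isInvertible_structureModule _
  have : Coh.IsQCoh (Coh.structureModule (D.obj i₀)) :=
    Groth.Agent.Lib.Helper45.isQuasicoherent_of_isInvertible hO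
  have : Coh.IsQCoh (CohB1.tensorPow L₀ n) :=
    Groth.Agent.Lib.Helper45.isQuasicoherent_of_isInvertible hM
  have hFP : CohB1.IsFP (Coh.structureModule (D.obj i₀)) :=
    Groth.Agent.Lib.Helper49.isFinitePresentation_of_isFinLocFree _
      (Groth.Agent.Lib.Helper45.SerreVanish.isFinLocFree_of_isInvertible hO)
  let α := pullbackTensorPowIso (c.π.app i₀) hL₀ n
  let u := pullbackUnitIso (c.π.app i₀)
  obtain ⟨j, φ, hj, hS⟩ := Groth.Agent.S4811.result D c hc i₀ (Coh.structureModule (D.obj i₀))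
    (CohB1.tensorPow L₀ n) hFP (u.hom ≫ s ≫ α.inv)
  let t₀ : Coh.structureModule (D.obj j) ⟶
      (Scheme.Modules.pullback (D.map φ)).obj (CohB1.tensorPow L₀ n) :=
    (pullbackUnitIso (D.map φ)).inv ≫ hj
  refine ⟨j, φ, t₀ ≫ (pullbackTensorPowIso (D.map φ) hL₀ n).hom, ?_⟩
  rw [genLocus_comp_iso, ← genLocus_pullSec (c.π.app j) (isInvertible_pullback (D.map φ) hM)]
  let A := (Scheme.Modules.pullbackComp (c.π.app j) (D.map φ) ≪≫
    Scheme.Modules.pullbackCongr (c.w φ)).app (Coh.structureModule (D.obj i₀))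
  let B := (Scheme.Modules.pullbackComp (c.π.app j) (D.map φ) ≪≫
    Scheme.Modules.pullbackCongr (c.w φ)).app (CohB1.tensorPow L₀ n)
  let a : Coh.structureModule c.pt ≅ Coh.structureModule c.pt :=
    u.symm ≪≫ A.symm ≪≫
      (Scheme.Modules.pullback (c.π.app j)).mapIso (pullbackUnitIso (D.map φ)) ≪≫
        pullbackUnitIso (c.π.app j)
  have hs : s = a.hom ≫ pullSec (c.π.app j) t₀ ≫ (B ≪≫ α).hom := by
    have h1 : s = u.inv ≫ (A.inv ≫ (Scheme.Modules.pullback (c.π.app j)).map hj ≫ B.hom) ≫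
        α.hom := by
      rw [hS]; simp
    rw [h1]
    simp [a, t₀, pullSec]
  rw [hs, ← Category.assoc, genLocus_comp_iso, genLocus_iso_comp]

include hc in
/-- A quasi-compact open of a stage whose preimage in the limit is affine has affine preimage in
some later stage. -/
theorem exists_isAffineOpen_map_preimage {i : I} (U : (D.obj i).Opens)
    (hUc : IsCompact (U : Set (D.obj i))) (hU : IsAffineOpen (c.π.app i ⁻¹ᵁ U)) :
    ∃ j : Over i, IsAffineOpen (D.map j.hom ⁻¹ᵁ U) := by
  have (j : Over i) : CompactSpace ((opensDiagram D i U).obj j) :=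
    isCompact_iff_compactSpace.mp (QuasiCompact.isCompact_preimage _ U.2 hUc)
  have (j : Over i) : QuasiSeparatedSpace ((opensDiagram D i U).obj j) :=
    (isQuasiSeparated_iff_quasiSeparatedSpace _ (D.map _ ⁻¹ᵁ _).2).mp
      (.of_quasiSeparatedSpace _)
  have : IsAffine (opensCone D c i U).pt := hU
  obtain ⟨j, hj⟩ := Scheme.exists_isAffine_of_isLimit _ _ (isLimitOpensCone D c hc i U)
  exact ⟨j, hj⟩

/-- The pullback of `L₀` to the stage `k` over `i₀`. -/
noncomputable abbrev Lk (k : Over i₀) : (D.obj k.left).Modules :=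
  (Scheme.Modules.pullback (D.map k.hom)).obj L₀

include hL₀ in
/-- Sections of tensor powers of `L_k` can be pulled back along the transition maps. -/
theorem exists_section_hom {k' k : Over i₀} (a : k' ⟶ k) (n : ℕ)
    (t : Coh.structureModule (D.obj k.left) ⟶ CohB1.tensorPow (Lk D i₀ L₀ k) n) :
    ∃ t' : Coh.structureModule (D.obj k'.left) ⟶ CohB1.tensorPow (Lk D i₀ L₀ k') n,
      CohB1.genLocus _ t' = D.map a.left ⁻¹ᵁ CohB1.genLocus _ t := by
  have hw : D.map a.left ≫ D.map k.hom = D.map k'.hom := by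
    rw [← D.map_comp, Over.w]
  exact exists_section_pullback (D.map a.left) (isInvertible_pullback (D.map k.hom) hL₀)
    ((Scheme.Modules.pullbackComp (D.map a.left) (D.map k.hom) ≪≫
      Scheme.Modules.pullbackCongr hw).app L₀) n t

include hc hL₀ in
/-- A section of `(π^* L₀)^n` on the limit with affine `X_s` comes, as far as `X_s` is concerned,
from a section at some stage whose locus is affine. -/
theorem exists_section_affine_stage (n : ℕ)
    (s : Coh.structureModule c.pt ⟶
      CohB1.tensorPow ((Scheme.Modules.pullback (c.π.app i₀)).obj L₀) n)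
    (hs : IsAffineOpen (CohB1.genLocus _ s)) :
    ∃ (k : Over i₀) (t : Coh.structureModule (D.obj k.left) ⟶ CohB1.tensorPow (Lk D i₀ L₀ k) n),
      IsAffineOpen (CohB1.genLocus _ t) ∧
        c.π.app k.left ⁻¹ᵁ CohB1.genLocus _ t = CohB1.genLocus _ s := by
  obtain ⟨j, φ, t, ht⟩ := exists_section_stage D c hc i₀ L₀ hL₀ n s
  let k : Over i₀ := Over.mk φ
  let t₁ : Coh.structureModule (D.obj k.left) ⟶ CohB1.tensorPow (Lk D i₀ L₀ k) n := t
  have hinv : PicF.IsInvertible (CohB1.tensorPow (Lk D i₀ L₀ k) n) :=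
    isInvertible_tensorPow (isInvertible_pullback (D.map φ) hL₀) n
  have haff : IsAffineHom (CohB1.genLocus _ t₁).ι := isAffineHom_genLocus_ι hinv t₁
  have hUc : IsCompact ((CohB1.genLocus _ t₁ : (D.obj k.left).Opens) : Set (D.obj k.left)) := by
    have : CompactSpace ((CohB1.genLocus _ t₁ : (D.obj k.left).Opens) : Scheme.{u}) :=
      QuasiCompact.compactSpace_of_compactSpace (CohB1.genLocus _ t₁).ι
    exact isCompact_iff_compactSpace.mpr this
  let D' : Over i₀ ⥤ Scheme.{u} := Over.forget i₀ ⋙ D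
  let c' : Cone D' := c.whisker (Over.forget i₀)
  have hc' : IsLimit c' := (Functor.Initial.isLimitWhiskerEquiv (Over.forget i₀) c).symm hc
  have i1 : ∀ (a b : Over i₀) (f : a ⟶ b), IsAffineHom (D'.map f) :=
    fun a b f => inferInstanceAs (IsAffineHom (D.map f.left))
  have i2 : ∀ a : Over i₀, CompactSpace (D'.obj a) :=
    fun a => inferInstanceAs (CompactSpace (D.obj a.left))
  have i3 : ∀ a : Over i₀, QuasiSeparatedSpace (D'.obj a) :=
    fun a => inferInstanceAs (QuasiSeparatedSpace (D.obj a.left))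
  have hpre : IsAffineOpen (c'.π.app k ⁻¹ᵁ CohB1.genLocus _ t₁) := by
    show IsAffineOpen (c.π.app j ⁻¹ᵁ CohB1.genLocus _ t)
    rw [ht]; exact hs
  obtain ⟨j', hj'⟩ := exists_isAffineOpen_map_preimage D' c' hc' (i := k)
    (CohB1.genLocus _ t₁) hUc hpre
  obtain ⟨t', ht'⟩ := exists_section_hom D i₀ L₀ hL₀ j'.hom n t₁
  refine ⟨j'.left, t', ?_, ?_⟩
  · rw [ht']; exact hj'
  · rw [ht', ← Scheme.Hom.comp_preimage, c.w]
    exact ht

include hc hL₀ in
/-- Stacks 0B8W-type: ampleness of the pullback to the limit implies ampleness at a stage. -/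
theorem exists_isAmple_stage
    (h : CohB1.IsAmple ((Scheme.Modules.pullback (c.π.app i₀)).obj L₀)) :
    ∃ (i : I) (φ : i ⟶ i₀), CohB1.IsAmple ((Scheme.Modules.pullback (D.map φ)).obj L₀) := by
  classical
  obtain ⟨hinv, hcomp, hpt⟩ := h
  have hcomp' : CompactSpace c.pt := hcomp
  have hpt' : ∀ x : c.pt, ∃ (n : ℕ) (s : Coh.structureModule c.pt ⟶
      CohB1.tensorPow ((Scheme.Modules.pullback (c.π.app i₀)).obj L₀) (n + 1)),
      x ∈ (CohB1.genLocus _ s : c.pt.Opens) ∧
        IsAffineOpen (CohB1.genLocus _ s : c.pt.Opens) := hpt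
  choose n s hxs haff using hpt'
  obtain ⟨T, hT⟩ := isCompact_univ.elim_finite_subcover
    (fun x : c.pt => ((CohB1.genLocus _ (s x) : c.pt.Opens) : Set c.pt))
    (fun x => (CohB1.genLocus _ (s x) : c.pt.Opens).2)
    (fun x _ => Set.mem_iUnion.mpr ⟨x, hxs x⟩)
  have hD := fun x : c.pt =>
    exists_section_affine_stage D c hc i₀ L₀ hL₀ (n x + 1) (s x) (haff x)
  choose k t htaff htpre using hD
  obtain ⟨k₁, hk₁⟩ := IsCofiltered.inf_objs_exists (T.image k)
  have b : ∀ x : T, k₁ ⟶ k x := fun x => (hk₁ (Finset.mem_image_of_mem k x.2)).some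
  have h1 := fun x : T => exists_section_hom D i₀ L₀ hL₀ (b x) (n x + 1) (t x)
  choose t1 ht1 using h1
  have ht1aff : ∀ x : T, IsAffineOpen (CohB1.genLocus _ (t1 x)) := by
    intro x
    rw [ht1]
    exact (htaff x).preimage (D.map (b x).left)
  let D' : Over i₀ ⥤ Scheme.{u} := Over.forget i₀ ⋙ D
  let c' : Cone D' := c.whisker (Over.forget i₀)
  have hc' : IsLimit c' := (Functor.Initial.isLimitWhiskerEquiv (Over.forget i₀) c).symm hc
  have i1 : ∀ (a b : Over i₀) (f : a ⟶ b), IsAffineHom (D'.map f) :=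
    fun a b f => inferInstanceAs (IsAffineHom (D.map f.left))
  have i2 : ∀ a : Over i₀, CompactSpace (D'.obj a) :=
    fun a => inferInstanceAs (CompactSpace (D.obj a.left))
  have hcov : c'.π.app k₁ ⁻¹ᵁ (⨆ x : T, CohB1.genLocus _ (t1 x)) = ⊤ := by
    show c.π.app k₁.left ⁻¹ᵁ (⨆ x : T, CohB1.genLocus _ (t1 x)) = ⊤
    rw [eq_top_iff]
    intro y _
    obtain ⟨x, hxT, hyx⟩ : ∃ x ∈ T, y ∈ ((CohB1.genLocus _ (s x) : c.pt.Opens) : Set c.pt) := by
      have := hT (Set.mem_univ y)
      simpa only [Set.mem_iUnion, exists_prop] using this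
    rw [Scheme.Hom.preimage_iSup]
    refine Opens.mem_iSup.mpr ⟨⟨x, hxT⟩, ?_⟩
    rw [ht1, ← Scheme.Hom.comp_preimage, c.w, htpre]
    exact hyx
  obtain ⟨k₂, d, hd⟩ := exists_map_eq_top D' c' hc' (i := k₁)
    (⨆ x : T, CohB1.genLocus _ (t1 x)) hcov
  have h2 := fun x : T => exists_section_hom D i₀ L₀ hL₀ d (n x + 1) (t1 x)
  choose t2 ht2 using h2
  refine ⟨k₂.left, k₂.hom, isInvertible_pullback (D.map k₂.hom) hL₀, inferInstance, fun y => ?_⟩
  have hy : y ∈ D.map d.left ⁻¹ᵁ (⨆ x : T, CohB1.genLocus _ (t1 x)) := by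
    have : D.map d.left ⁻¹ᵁ (⨆ x : T, CohB1.genLocus _ (t1 x)) = ⊤ := hd
    rw [this]; trivial
  rw [Scheme.Hom.preimage_iSup] at hy
  obtain ⟨x, hx⟩ := Opens.mem_iSup.mp hy
  refine ⟨n x, t2 x, ?_, ?_⟩
  · rw [ht2]; exact hx
  · rw [ht2]; exact (ht1aff x).preimage (D.map d.left)

end Limit

end Groth.Agent.Lib.Helper14.AmpleLim
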