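import Groth.Agent.Lib.Helper14.PhCart
import Groth.Agent.Lib.Helper93.BlowUpProper
import Groth.Agent.H8.BlowUpOffCenter

/-!
# ph sheaves on blow-up squares (helper14)
-/

set_option autoImplicit false
universe v u

open CategoryTheory CategoryTheory.Limits AlgebraicGeometry Opposite HTop

namespace Groth.Agent.Lib.Helper14.BlowUpCart

/-- The ideal of a closed immersion of finite presentation is of finite type. -/
theorem isFiniteTypeIdeal_ker {Z X : Scheme.{u}} (i : Z ⟶ X) [IsClosedImmersion i]
    [LocallyOfFinitePresentation i] : BlowUp.IsFiniteTypeIdeal i.ker := by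
  intro U
  rw [Scheme.Hom.ker_apply]
  have hfp : (i.app U.1).hom.FinitePresentation := by
    rw [Scheme.Hom.app_eq_appLE]
    exact i.finitePresentation_appLE U.2 (U.2.preimage i) le_rfl
  have hs : Function.Surjective (i.app U.1).hom := i.app_surjective U.1 U.2
  have := hfp
  algebraize [(i.app U.1).hom]
  exact Algebra.FinitePresentation.ker_fG_of_surjective (Algebra.ofId _ _) hs

/-- The complement of the support of the ideal of a closed immersion is the complement of its
range. -/
theorem coe_support_ker_compl {Z X : Scheme.{u}} (i : Z ⟶ X) [IsClosedImmersion i] :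
    ((i.ker.support.compl : X.Opens) : Set X) = (Set.range i)ᶜ := by
  show ((i.ker.support : Set X))ᶜ = (Set.range i)ᶜ
  rw [Scheme.Hom.support_ker, i.isClosedEmbedding.isClosed_range.closure_eq]

/-- A ph sheaf has the sheaf property for jointly surjective pairs of proper morphisms. -/
theorem phSheaf_pair (S : Scheme.{u}) (F : HTop.ShPh S) {W : Over S} (Y : Bool → Over S)
    (g : ∀ k, Y k ⟶ W) (hp : ∀ k, IsProper (g k).left)
    (hsurj : ∀ w : W.left, ∃ k, w ∈ Set.range (g k).left) :
    Presieve.IsSheafFor F.obj (Presieve.ofArrows Y g) :=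
  PhCart.isSheafFor_ofArrows_of_isPhCover S F Y g
    (PhCart.isPhCover_bool (fun k => (Y k).left) (fun k => (g k).left) hp hsurj)

/-- An h sheaf has the sheaf property for jointly surjective pairs of proper morphisms of
finite presentation. -/
theorem hSheaf_pair (S : Scheme.{u}) (F : HTop.ShH S) {W : Over S} (Y : Bool → Over S)
    (g : ∀ k, Y k ⟶ W) (hp : ∀ k, IsProper (g k).left)
    (hfp : ∀ k, LocallyOfFinitePresentation (g k).left)
    (hsurj : ∀ w : W.left, ∃ k, w ∈ Set.range (g k).left) :
    Presieve.IsSheafFor F.obj (Presieve.ofArrows Y g) :=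
  HCart.isSheafFor_ofArrows_of_isHCover S F Y g
    (PhCart.isHCover_bool (fun k => (Y k).left) (fun k => (g k).left) hp hfp hsurj)

/-- A ph sheaf turns a blow-up square into a cartesian square of sections. -/
theorem cartesian_of_isBlowUp (S : Scheme.{u}) (F : HTop.ShPh S) {E Z X' X : Over S}
    (e : E ⟶ X') (π : E ⟶ Z) (b : X' ⟶ X) (i : Z ⟶ X) [IsClosedImmersion i.left]
    [LocallyOfFinitePresentation i.left] (hb : BlowUp.IsBlowUp b.left i.left.ker)
    (hE : IsPullback e.left π.left b.left i.left) (t : F.obj.obj (op Z))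
    (s' : F.obj.obj (op X')) (hts : F.obj.map π.op t = F.obj.map e.op s') :
    ∃! s : F.obj.obj (op X), F.obj.map i.op s = t ∧ F.obj.map b.op s = s' := by
  have hprop : IsProper b.left :=
    Groth.Agent.Lib.Helper93.BlowUpProper.isProper_of_isBlowUp i.left.ker
      (isFiniteTypeIdeal_ker i.left) b.left hb
  have hiso : IsIso (b.left ∣_ i.left.ker.support.compl) :=
    Groth.Agent.H8.blowUp_isIso_off_center i.left.ker b.left hb
  exact PhCart.cartesian_of_pairSheaf F.obj ⊤
    (fun Y g hp _ hsurj => phSheaf_pair S F Y g hp hsurj) e π b i trivial trivial trivial trivial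
    hE i.left.ker.support.compl (coe_support_ker_compl i.left) hiso t s' hts

end Groth.Agent.Lib.Helper14.BlowUpCart
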