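import Mathlib
import Groth.Agent.Lib.Helper13.LimSections

/-!
# Finite type morphisms out of a cofiltered limit: sections from a stage (helper14)

Let `X = lim D i` be a cofiltered limit of schemes with affine transition maps, `f : X ⟶ S` locally of
finite type, `V` an affine open of a stage `D i` and `W` an affine open of `S` with
`π_i⁻¹ V ≤ f⁻¹ W`.  Then for all sufficiently small `k`, the ring `Γ(X, π_i⁻¹ V)` is generated by
the images of `Γ(D k, V_k)` and `Γ(S, W)` (`exists_stage_forall_mem_closure`).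
-/

set_option autoImplicit false
universe u

open CategoryTheory Limits AlgebraicGeometry TopologicalSpace

namespace Groth.Agent.Lib.Helper14.FTImm

variable {I : Type u} [Category.{u} I] (D : I ⥤ Scheme.{u}) (c : Cone D) (hc : IsLimit c)

/-- The preimage in the limit of the preimage of `V` at a later stage. -/
lemma preimage_map_preimage {i k : I} (u : k ⟶ i) (V : (D.obj i).Opens) :
    c.π.app k ⁻¹ᵁ D.map u ⁻¹ᵁ V = c.π.app i ⁻¹ᵁ V := by
  rw [← Scheme.Hom.comp_preimage, c.w]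

/-- `b` comes from the stage `k` (over `i` through `u`). -/
def FromStage {i : I} (V : (D.obj i).Opens) (b : Γ(c.pt, c.π.app i ⁻¹ᵁ V)) (k : I) (u : k ⟶ i) :
    Prop :=
  ∃ s : Γ(D.obj k, D.map u ⁻¹ᵁ V),
    b = (c.π.app k).appLE (D.map u ⁻¹ᵁ V) (c.π.app i ⁻¹ᵁ V) (preimage_map_preimage D c u V).ge s

lemma FromStage.mono {i : I} {V : (D.obj i).Opens} {b : Γ(c.pt, c.π.app i ⁻¹ᵁ V)} {k : I}
    {u : k ⟶ i} (h : FromStage D c V b k u) {k' : I} (u' : k' ⟶ k) :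
    FromStage D c V b k' (u' ≫ u) := by
  obtain ⟨s, hs⟩ := h
  have hle : D.map (u' ≫ u) ⁻¹ᵁ V ≤ D.map u' ⁻¹ᵁ D.map u ⁻¹ᵁ V := by
    rw [← Scheme.Hom.comp_preimage, ← D.map_comp]
  refine ⟨(D.map u').appLE (D.map u ⁻¹ᵁ V) (D.map (u' ≫ u) ⁻¹ᵁ V) hle s, ?_⟩
  rw [hs, ← CommRingCat.comp_apply, Scheme.Hom.appLE_comp_appLE]
  have key : ∀ (g g' : c.pt ⟶ D.obj k) (_ : g = g') (e : c.π.app i ⁻¹ᵁ V ≤ g ⁻¹ᵁ D.map u ⁻¹ᵁ V)
      (e' : c.π.app i ⁻¹ᵁ V ≤ g' ⁻¹ᵁ D.map u ⁻¹ᵁ V),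
      g.appLE (D.map u ⁻¹ᵁ V) (c.π.app i ⁻¹ᵁ V) e = g'.appLE (D.map u ⁻¹ᵁ V) (c.π.app i ⁻¹ᵁ V) e' := by
    rintro g _ rfl _ _
    rfl
  rw [key _ _ (c.w u').symm]

include hc in
lemma exists_fromStage [IsCofiltered I] [∀ {i j} (f : i ⟶ j), IsAffineHom (D.map f)]
    {i : I} (V : (D.obj i).Opens) (hV : IsAffineOpen V) (b : Γ(c.pt, c.π.app i ⁻¹ᵁ V)) :
    ∃ (k : I) (u : k ⟶ i), FromStage D c V b k u := by
  obtain ⟨j, s, hs⟩ := Groth.Agent.Lib.Helper13.LimSections.exists_appLE_eq D c hc i V hV b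
  exact ⟨j.left, j.hom, s, hs⟩

include hc in
lemma exists_fromStage_finset [IsCofiltered I] [∀ {i j} (f : i ⟶ j), IsAffineHom (D.map f)]
    {i : I} (V : (D.obj i).Opens) (hV : IsAffineOpen V)
    (T : Finset Γ(c.pt, c.π.app i ⁻¹ᵁ V)) :
    ∃ (k : I) (u : k ⟶ i), ∀ b ∈ T, FromStage D c V b k u := by
  classical
  induction T using Finset.induction_on with
  | empty => exact ⟨i, 𝟙 i, by simp⟩
  | insert b T _ ih =>
    obtain ⟨k₁, u₁, h₁⟩ := ih
    obtain ⟨k₂, u₂, h₂⟩ := exists_fromStage D c hc V hV b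
    obtain ⟨k, v₁, v₂, hv⟩ := IsCofiltered.cospan u₁ u₂
    refine ⟨k, v₁ ≫ u₁, ?_⟩
    intro b' hb'
    rcases Finset.mem_insert.mp hb' with rfl | hb'
    · rw [hv]
      exact h₂.mono D c v₂
    · exact (h₁ b' hb').mono D c v₁

end Groth.Agent.Lib.Helper14.FTImm
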