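import Mathlib
import Groth.Agent.Lib.Helper14.FTImmA

/-!
# Finite type morphisms out of a cofiltered limit: closed immersion charts at a stage (helper14)
-/

set_option autoImplicit false
universe u

open CategoryTheory Limits AlgebraicGeometry TopologicalSpace

namespace Groth.Agent.Lib.Helper14.FTImm

variable {I : Type u} [Category.{u} I] (D : I ⥤ Scheme.{u}) (c : Cone D) (hc : IsLimit c)
variable {S B : Scheme.{u}} (f : c.pt ⟶ S) (t : ∀ i, D.obj i ⟶ B) (s : S ⟶ B)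
  (hw : ∀ i, c.π.app i ≫ t i = f ≫ s)

/-- The graph-type morphism `X ⟶ D k ×_B S`. -/
noncomputable abbrev gr (k : I) : c.pt ⟶ pullback (t k) s := pullback.lift (c.π.app k) f (hw k)

/-- The chart `V_k ×_B W` of `D k ×_B S`. -/
noncomputable abbrev chart {i : I} (V : (D.obj i).Opens) (W : S.Opens) (k : I) (u : k ⟶ i) :
    (pullback (t k) s).Opens :=
  pullback.fst (t k) s ⁻¹ᵁ (D.map u ⁻¹ᵁ V) ⊓ pullback.snd (t k) s ⁻¹ᵁ W

lemma gr_preimage_chart {i : I} (V : (D.obj i).Opens) (W : S.Opens)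
    (hle : c.π.app i ⁻¹ᵁ V ≤ f ⁻¹ᵁ W) (k : I) (u : k ⟶ i) :
    gr D c f t s hw k ⁻¹ᵁ chart D t s V W k u = c.π.app i ⁻¹ᵁ V := by
  have h1 : gr D c f t s hw k ⁻¹ᵁ (pullback.fst (t k) s ⁻¹ᵁ (D.map u ⁻¹ᵁ V)) = c.π.app i ⁻¹ᵁ V := by
    rw [← Scheme.Hom.comp_preimage, pullback.lift_fst, preimage_map_preimage]
  have h2 : gr D c f t s hw k ⁻¹ᵁ (pullback.snd (t k) s ⁻¹ᵁ W) = f ⁻¹ᵁ W := by
    rw [← Scheme.Hom.comp_preimage, pullback.lift_snd]
  change gr D c f t s hw k ⁻¹ᵁ (pullback.fst (t k) s ⁻¹ᵁ (D.map u ⁻¹ᵁ V)) ⊓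
    gr D c f t s hw k ⁻¹ᵁ (pullback.snd (t k) s ⁻¹ᵁ W) = _
  rw [h1, h2]
  exact inf_eq_left.mpr hle

lemma appLE_congr_hom {X Y : Scheme.{u}} {g g' : X ⟶ Y} (h : g = g') (U : Y.Opens) (V : X.Opens)
    (e : V ≤ g ⁻¹ᵁ U) (e' : V ≤ g' ⁻¹ᵁ U) : g.appLE U V e = g'.appLE U V e' := by
  subst h
  rfl

include hc in
/-- For all sufficiently small stages `k'`, the map on sections from the chart `V_{k'} ×_B W` to
`π_i⁻¹ V` induced by the graph morphism is surjective. -/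
theorem exists_stage_surjective [IsCofiltered I] [∀ {i j} (f : i ⟶ j), IsAffineHom (D.map f)]
    [LocallyOfFiniteType f] {i : I} (V : (D.obj i).Opens) (hV : IsAffineOpen V) (W : S.Opens)
    (hW : IsAffineOpen W) (hle : c.π.app i ⁻¹ᵁ V ≤ f ⁻¹ᵁ W) :
    ∃ (k : I) (u : k ⟶ i), ∀ (k' : I) (u' : k' ⟶ k),
      Function.Surjective ((gr D c f t s hw k').appLE (chart D t s V W k' (u' ≫ u))
        (c.π.app i ⁻¹ᵁ V) (gr_preimage_chart D c f t s hw V W hle k' (u' ≫ u)).ge).hom := by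
  have : IsAffineHom (c.π.app i) := isAffineHom_π_app D c hc i
  have hN : IsAffineOpen (c.π.app i ⁻¹ᵁ V) := hV.preimage (c.π.app i)
  have hft : RingHom.FiniteType (f.appLE W (c.π.app i ⁻¹ᵁ V) hle).hom :=
    HasRingHomProperty.appLE (P := @LocallyOfFiniteType) f inferInstance ⟨W, hW⟩ ⟨_, hN⟩ hle
  algebraize [(f.appLE W (c.π.app i ⁻¹ᵁ V) hle).hom]
  obtain ⟨T, hT⟩ := (‹Algebra.FiniteType Γ(S, W) Γ(c.pt, c.π.app i ⁻¹ᵁ V)›).out
  obtain ⟨k, u, hk⟩ := exists_fromStage_finset D c hc V hV T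
  refine ⟨k, u, fun k' u' b => ?_⟩
  set G := (gr D c f t s hw k').appLE (chart D t s V W k' (u' ≫ u))
    (c.π.app i ⁻¹ᵁ V) (gr_preimage_chart D c f t s hw V W hle k' (u' ≫ u)).ge with hG
  have h1 : ∀ a : Γ(D.obj k', D.map (u' ≫ u) ⁻¹ᵁ V),
      (c.π.app k').appLE (D.map (u' ≫ u) ⁻¹ᵁ V) (c.π.app i ⁻¹ᵁ V)
        (preimage_map_preimage D c (u' ≫ u) V).ge a ∈ G.hom.range := by
    intro a
    refine ⟨(pullback.fst (t k') s).appLE (D.map (u' ≫ u) ⁻¹ᵁ V)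
      (chart D t s V W k' (u' ≫ u)) inf_le_left a, ?_⟩
    rw [← CommRingCat.comp_apply, hG, Scheme.Hom.appLE_comp_appLE]
    rw [appLE_congr_hom (pullback.lift_fst _ _ _)]
  have h2 : ∀ r : Γ(S, W), f.appLE W (c.π.app i ⁻¹ᵁ V) hle r ∈ G.hom.range := by
    intro r
    refine ⟨(pullback.snd (t k') s).appLE W (chart D t s V W k' (u' ≫ u)) inf_le_right r, ?_⟩
    rw [← CommRingCat.comp_apply, hG, Scheme.Hom.appLE_comp_appLE]
    rw [appLE_congr_hom (pullback.lift_snd _ _ _)]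
  have hb : b ∈ Algebra.adjoin Γ(S, W) (T : Set Γ(c.pt, c.π.app i ⁻¹ᵁ V)) := by
    rw [hT]; trivial
  have key : b ∈ G.hom.range := by
    induction hb using Algebra.adjoin_induction with
    | mem x hx =>
      obtain ⟨a, ha⟩ := (hk x hx).mono D c u'
      rw [ha]
      exact h1 a
    | algebraMap r => exact h2 r
    | add x y _ _ hx hy => exact add_mem hx hy
    | mul x y _ _ hx hy => exact mul_mem hx hy
  exact key

end Groth.Agent.Lib.Helper14.FTImm
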