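import Mathlib
import Groth.Agent.Lib.Helper14.FTImmB
import Groth.Agent.Lib.Helper63.ImmLocal

/-!
# Finite type morphisms out of a cofiltered limit: immersion at a stage (helper14)

`exists_isImmersion_gr`: if `X = lim D i` (cofiltered, affine transitions) is quasi-compact and
`f : X ⟶ S` is locally of finite type, then for some stage `k` the morphism
`X ⟶ D k ×_B S` (over an affine `B`) is an immersion.  (Stacks 09ZR, 0CNG-style.)
-/

set_option autoImplicit false
universe u

open CategoryTheory Limits AlgebraicGeometry TopologicalSpace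

namespace Groth.Agent.Lib.Helper14.FTImm

/-- a morphism restricted over an affine open with affine preimage, surjective on sections,
is a closed immersion (copied from helper17 `VeryAmpleCrit`). -/
theorem isClosedImmersion_morphismRestrict {X Y : Scheme.{u}} (g : X ⟶ Y) (W : Y.Opens)
    (hW : IsAffineOpen W) (U : X.Opens) (hU : IsAffineOpen U) (hUW : U = g ⁻¹ᵁ W)
    (h : Function.Surjective (g.appLE W U hUW.le).hom) : IsClosedImmersion (g ∣_ W) := by
  subst hUW
  have : IsAffine W.toScheme := hW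
  have : IsAffine (g ⁻¹ᵁ W).toScheme := hU
  apply IsClosedImmersion.of_surjective_of_isAffine
  rw [morphismRestrict_appTop]
  have h0 : Function.Surjective (g.app W).hom := by
    rwa [Scheme.Hom.app_eq_appLE]
  have key : ∀ (W' : Y.Opens) (_ : W' = W) (U' : X.Opens) (e : U' = g ⁻¹ᵁ W'),
      Function.Surjective (g.app W' ≫ X.presheaf.map (eqToHom e).op) := by
    intro W' hW' U' e
    subst hW' e
    simpa using h0
  exact key _ (by simp) _ _

/-- the intersection of preimages of affine opens in a fibre product over an affine base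
(copied from helper17 `VeryAmpleCrit`). -/
theorem isAffineOpen_inf_preimage {P S B : Scheme.{u}} [IsAffine B] (a : P ⟶ B) (b : S ⟶ B)
    (D : P.Opens) (V : S.Opens) (hD : IsAffineOpen D) (hV : IsAffineOpen V) :
    IsAffineOpen ((pullback.fst a b) ⁻¹ᵁ D ⊓ (pullback.snd a b) ⁻¹ᵁ V) := by
  have : IsAffine D.toScheme := hD
  have : IsAffine V.toScheme := hV
  let m := pullback.map (D.ι ≫ a) (V.ι ≫ b) a b D.ι V.ι (𝟙 B) (by simp) (by simp)
  have hm : IsAffineOpen m.opensRange := isAffineOpen_opensRange m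
  convert hm using 1
  apply Opens.ext
  have := Scheme.Pullback.range_map (D.ι ≫ a) (V.ι ≫ b) a b D.ι V.ι (𝟙 B) (by simp) (by simp)
  simp only [Scheme.Opens.range_ι] at this
  exact this.symm

variable {I : Type u} [Category.{u} I] (D : I ⥤ Scheme.{u}) (c : Cone D) (hc : IsLimit c)
variable {S B : Scheme.{u}} (f : c.pt ⟶ S) (t : ∀ i, D.obj i ⟶ B) (s : S ⟶ B)
  (hw : ∀ i, c.π.app i ≫ t i = f ≫ s)

include hc in
theorem exists_isImmersion_gr [IsCofiltered I] [∀ {i j} (f : i ⟶ j), IsAffineHom (D.map f)]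
    [LocallyOfFiniteType f] [CompactSpace c.pt] [IsAffine B] :
    ∃ k : I, IsImmersion (gr D c f t s hw k) := by
  classical
  have hloc : ∀ x : c.pt, ∃ (i : I) (V : (D.obj i).Opens) (W : S.Opens), IsAffineOpen V ∧
      IsAffineOpen W ∧ x ∈ c.π.app i ⁻¹ᵁ V ∧ c.π.app i ⁻¹ᵁ V ≤ f ⁻¹ᵁ W := by
    intro x
    obtain ⟨_, ⟨W, hW : IsAffineOpen W, rfl⟩, hxW, -⟩ :=
      S.isBasis_affineOpens.exists_subset_of_mem_open (Set.mem_univ (f x)) isOpen_univ
    obtain ⟨_, ⟨i, V, hV, rfl⟩, hxV, hVW⟩ :=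
      (TopologicalSpace.Opens.isBasis_iff_nbhd.mp (isBasis_preimage_isAffineOpen D c hc))
        (show x ∈ f ⁻¹ᵁ W from hxW)
    exact ⟨i, V, W, hV, hW, hxV, hVW⟩
  choose i V W hV hW hx hle using hloc
  have hst := fun x => exists_stage_surjective D c hc f t s hw (V x) (hV x) (W x) (hW x) (hle x)
  choose k u hku using hst
  obtain ⟨F, hF⟩ := isCompact_univ.elim_finite_subcover
    (fun x => ((c.π.app (i x) ⁻¹ᵁ V x : c.pt.Opens) : Set c.pt))
    (fun x => (c.π.app (i x) ⁻¹ᵁ V x).isOpen) (fun x _ => Set.mem_iUnion.mpr ⟨x, hx x⟩)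
  obtain ⟨k₀, hk₀⟩ := IsCofiltered.inf_objs_exists (F.image k)
  have v : ∀ x : F, k₀ ⟶ k x.1 := fun x =>
    (hk₀ (Finset.mem_image_of_mem k x.2)).some
  refine ⟨k₀, ?_⟩
  have : IsAffineHom (c.π.app k₀) := isAffineHom_π_app D c hc k₀
  refine Groth.Agent.Lib.Helper63.ImmLocal.isImmersion_of_cover (gr D c f t s hw k₀)
    (fun x : F => chart D t s (V x.1) (W x.1) k₀ (v x ≫ u x.1)) ?_ ?_
  · apply top_unique
    intro y _
    have hy := hF (Set.mem_univ y)
    simp only [Set.mem_iUnion] at hy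
    obtain ⟨x, hxF, hyx⟩ := hy
    refine TopologicalSpace.Opens.mem_iSup.mpr ⟨⟨x, hxF⟩, ?_⟩
    rw [gr_preimage_chart D c f t s hw (V x) (W x) (hle x) k₀ _]
    exact hyx
  · intro x
    have hAff : IsAffineOpen (chart D t s (V x.1) (W x.1) k₀ (v x ≫ u x.1)) :=
      isAffineOpen_inf_preimage (t k₀) s _ _ ((hV x.1).preimage (D.map (v x ≫ u x.1))) (hW x.1)
    have : IsAffineHom (c.π.app (i x.1)) := isAffineHom_π_app D c hc (i x.1)
    have hN : IsAffineOpen (c.π.app (i x.1) ⁻¹ᵁ V x.1) := (hV x.1).preimage (c.π.app (i x.1))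
    exact isClosedImmersion_morphismRestrict (gr D c f t s hw k₀) _ hAff _ hN
      (gr_preimage_chart D c f t s hw (V x.1) (W x.1) (hle x.1) k₀ _).symm
      (hku x.1 k₀ (v x))

end Groth.Agent.Lib.Helper14.FTImm
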