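import Mathlib
import Groth.Agent.Lib.Helper14.FTImmC

/-!
# A closed subscheme of a limit, locally of finite type over the base, is closed in a stage
(helper14)

Stacks 0A0N-type lemma: `X = lim X_i` cofiltered with affine transitions over `S`, `h : Y ⟶ X` a
closed immersion with `Y ⟶ S` locally of finite type, `X_{i₀}` quasi-compact.  Then `Y ⟶ X_k` is a
closed immersion for some `k ⟶ i₀`.
-/

set_option autoImplicit false
universe u

open CategoryTheory Limits AlgebraicGeometry TopologicalSpace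

namespace Groth.Agent.Lib.Helper14.FTImm

variable {I : Type u} [Category.{u} I] (D : I ⥤ Scheme.{u}) (c : Cone D) (hc : IsLimit c)
variable {S Y : Scheme.{u}} (t : ∀ i, D.obj i ⟶ S)
  (ht : ∀ {i j : I} (u : i ⟶ j), D.map u ≫ t j = t i) (h : Y ⟶ c.pt)

lemma comp_preimage_map_preimage {i k : I} (u : k ⟶ i) (V : (D.obj i).Opens) :
    (h ≫ c.π.app k) ⁻¹ᵁ D.map u ⁻¹ᵁ V = h ⁻¹ᵁ c.π.app i ⁻¹ᵁ V := by
  rw [Scheme.Hom.comp_preimage, preimage_map_preimage]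

include hc ht in
/-- For all sufficiently small stages `k'`, the map on sections from `V_{k'}` to
`h⁻¹ π_i⁻¹ V` is surjective. -/
theorem exists_stage_surjective_closed [IsCofiltered I]
    [∀ {i j} (f : i ⟶ j), IsAffineHom (D.map f)] [IsClosedImmersion h] {i : I}
    [LocallyOfFiniteType (h ≫ c.π.app i ≫ t i)] (V : (D.obj i).Opens) (hV : IsAffineOpen V)
    (W : S.Opens) (hW : IsAffineOpen W) (hle : V ≤ t i ⁻¹ᵁ W) :
    ∃ (k : I) (u : k ⟶ i), ∀ (k' : I) (u' : k' ⟶ k),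
      Function.Surjective ((h ≫ c.π.app k').appLE (D.map (u' ≫ u) ⁻¹ᵁ V)
        (h ⁻¹ᵁ c.π.app i ⁻¹ᵁ V) (comp_preimage_map_preimage D c h (u' ≫ u) V).ge).hom := by
  classical
  have : IsAffineHom (c.π.app i) := isAffineHom_π_app D c hc i
  have hN : IsAffineOpen (c.π.app i ⁻¹ᵁ V) := hV.preimage (c.π.app i)
  have hM : IsAffineOpen (h ⁻¹ᵁ c.π.app i ⁻¹ᵁ V) := hN.preimage h
  have hle' : h ⁻¹ᵁ c.π.app i ⁻¹ᵁ V ≤ (h ≫ c.π.app i ≫ t i) ⁻¹ᵁ W := by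
    rw [Scheme.Hom.comp_preimage, Scheme.Hom.comp_preimage]
    exact (Scheme.Hom.preimage_mono h (Scheme.Hom.preimage_mono (c.π.app i) hle))
  have hft : RingHom.FiniteType ((h ≫ c.π.app i ≫ t i).appLE W (h ⁻¹ᵁ c.π.app i ⁻¹ᵁ V) hle').hom :=
    HasRingHomProperty.appLE (P := @LocallyOfFiniteType) _ inferInstance ⟨W, hW⟩ ⟨_, hM⟩ hle'
  algebraize [((h ≫ c.π.app i ≫ t i).appLE W (h ⁻¹ᵁ c.π.app i ⁻¹ᵁ V) hle').hom]
  obtain ⟨T, hT⟩ := (‹Algebra.FiniteType Γ(S, W) Γ(Y, h ⁻¹ᵁ c.π.app i ⁻¹ᵁ V)›).out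
  have hψ : Function.Surjective (h.app (c.π.app i ⁻¹ᵁ V)) := h.app_surjective _ hN
  obtain ⟨k, u, hk⟩ := exists_fromStage_finset D c hc V hV (T.image (Function.surjInv hψ))
  refine ⟨k, u, fun k' u' b => ?_⟩
  set G := (h ≫ c.π.app k').appLE (D.map (u' ≫ u) ⁻¹ᵁ V)
    (h ⁻¹ᵁ c.π.app i ⁻¹ᵁ V) (comp_preimage_map_preimage D c h (u' ≫ u) V).ge with hG
  have h1 : ∀ a : Γ(D.obj k', D.map (u' ≫ u) ⁻¹ᵁ V),
      h.app (c.π.app i ⁻¹ᵁ V) ((c.π.app k').appLE (D.map (u' ≫ u) ⁻¹ᵁ V) (c.π.app i ⁻¹ᵁ V)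
        (preimage_map_preimage D c (u' ≫ u) V).ge a) ∈ G.hom.range := by
    intro a
    refine ⟨a, ?_⟩
    rw [hG, ← Scheme.Hom.appLE_comp_appLE _ _ (D.map (u' ≫ u) ⁻¹ᵁ V) (c.π.app i ⁻¹ᵁ V)
      (h ⁻¹ᵁ c.π.app i ⁻¹ᵁ V) (preimage_map_preimage D c (u' ≫ u) V).ge le_rfl]
    rw [Scheme.Hom.appLE_eq_app]
    rfl
  have hVW : D.map (u' ≫ u) ⁻¹ᵁ V ≤ t k' ⁻¹ᵁ W := by
    rw [← ht (u' ≫ u), Scheme.Hom.comp_preimage]
    exact Scheme.Hom.preimage_mono _ hle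
  have h2 : ∀ r : Γ(S, W),
      (h ≫ c.π.app i ≫ t i).appLE W (h ⁻¹ᵁ c.π.app i ⁻¹ᵁ V) hle' r ∈ G.hom.range := by
    intro r
    refine ⟨(t k').appLE W (D.map (u' ≫ u) ⁻¹ᵁ V) hVW r, ?_⟩
    rw [← CommRingCat.comp_apply, hG, Scheme.Hom.appLE_comp_appLE]
    have e : (h ≫ c.π.app k') ≫ t k' = h ≫ c.π.app i ≫ t i := by
      rw [Category.assoc, ← ht (u' ≫ u), ← Category.assoc (c.π.app k'), c.w]
    rw [appLE_congr_hom e]
  have hb : b ∈ Algebra.adjoin Γ(S, W) (T : Set Γ(Y, h ⁻¹ᵁ c.π.app i ⁻¹ᵁ V)) := by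
    rw [hT]; trivial
  have key : b ∈ G.hom.range := by
    induction hb using Algebra.adjoin_induction with
    | mem x hx =>
      have hx' : Function.surjInv hψ x ∈ T.image (Function.surjInv hψ) :=
        Finset.mem_image_of_mem _ hx
      obtain ⟨a, ha⟩ := (hk _ hx').mono D c u'
      have hxx : x = h.app (c.π.app i ⁻¹ᵁ V) (Function.surjInv hψ x) :=
        (Function.surjInv_eq hψ x).symm
      rw [hxx, ha]
      exact h1 a
    | algebraMap r => exact h2 r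
    | add x y _ _ hx hy => exact add_mem hx hy
    | mul x y _ _ hx hy => exact mul_mem hx hy
  exact key

include hc ht in
/-- Stacks 0A0N: a closed subscheme of the limit which is locally of finite type over the base is
a closed subscheme of a stage. -/
theorem exists_isClosedImmersion_comp_π [IsCofiltered I]
    [∀ {i j} (f : i ⟶ j), IsAffineHom (D.map f)] [IsClosedImmersion h] (i₀ : I)
    [CompactSpace (D.obj i₀)] [LocallyOfFiniteType (h ≫ c.π.app i₀ ≫ t i₀)] :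
    ∃ (k : I) (_ : k ⟶ i₀), IsClosedImmersion (h ≫ c.π.app k) := by
  classical
  have hloc : ∀ y : D.obj i₀, ∃ (V : (D.obj i₀).Opens) (W : S.Opens), IsAffineOpen V ∧
      IsAffineOpen W ∧ y ∈ V ∧ V ≤ t i₀ ⁻¹ᵁ W := by
    intro y
    obtain ⟨_, ⟨W, hW : IsAffineOpen W, rfl⟩, hyW, -⟩ :=
      S.isBasis_affineOpens.exists_subset_of_mem_open (Set.mem_univ (t i₀ y)) isOpen_univ
    obtain ⟨_, ⟨V, hV : IsAffineOpen V, rfl⟩, hyV, hVW⟩ :=
      (D.obj i₀).isBasis_affineOpens.exists_subset_of_mem_open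
        (show y ∈ ((t i₀ ⁻¹ᵁ W : (D.obj i₀).Opens) : Set (D.obj i₀)) from hyW)
        (t i₀ ⁻¹ᵁ W).isOpen
    exact ⟨V, W, hV, hW, hyV, hVW⟩
  choose V W hV hW hy hle using hloc
  have hst := fun y => exists_stage_surjective_closed D c hc t ht h (V y) (hV y) (W y) (hW y)
    (hle y)
  choose k u hku using hst
  obtain ⟨F, hF⟩ := isCompact_univ.elim_finite_subcover
    (fun y => ((V y : (D.obj i₀).Opens) : Set (D.obj i₀)))
    (fun y => (V y).isOpen) (fun y _ => Set.mem_iUnion.mpr ⟨y, hy y⟩)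
  let O : Finset I := insert i₀ (F.image k)
  have hkO : ∀ y : F, k y.1 ∈ O := fun y =>
    Finset.mem_insert_of_mem (Finset.mem_image_of_mem k y.2)
  have hiO : i₀ ∈ O := Finset.mem_insert_self _ _
  let H : Finset (Σ' (X Y : I) (_ : X ∈ O) (_ : Y ∈ O), X ⟶ Y) :=
    Finset.univ.image (fun y : F => ⟨k y.1, i₀, hkO y, hiO, u y.1⟩)
  obtain ⟨k₀, T, hT⟩ := IsCofiltered.inf_exists O H
  have hv : ∀ y : F, T (hkO y) ≫ u y.1 = T hiO := fun y =>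
    hT (hkO y) hiO (Finset.mem_image_of_mem _ (Finset.mem_univ y))
  obtain ⟨v, hvdef⟩ : ∃ v : ∀ y : F, k₀ ⟶ k y.1, v = fun y => T (hkO y) := ⟨_, rfl⟩
  obtain ⟨v₀, hv₀def⟩ : ∃ v₀ : k₀ ⟶ i₀, v₀ = T hiO := ⟨_, rfl⟩
  have hv' : ∀ y : F, v y ≫ u y.1 = v₀ := by
    intro y
    rw [hvdef, hv₀def]
    exact hv y
  refine ⟨k₀, v₀, ?_⟩
  have : IsAffineHom (c.π.app i₀) := isAffineHom_π_app D c hc i₀
  refine Groth.Agent.Lib.Helper63.ImmLocal.isClosedImmersion_of_cover (h ≫ c.π.app k₀)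
    (fun y : F => D.map (v y ≫ u y.1) ⁻¹ᵁ V y.1) ?_ ?_
  · apply top_unique
    intro z _
    have hz := hF (Set.mem_univ (D.map v₀ z))
    simp only [Set.mem_iUnion] at hz
    obtain ⟨y, hyF, hzy⟩ := hz
    refine TopologicalSpace.Opens.mem_iSup.mpr ⟨⟨y, hyF⟩, ?_⟩
    change D.map (v ⟨y, hyF⟩ ≫ u y) z ∈ V y
    rw [hv' ⟨y, hyF⟩]
    exact hzy
  · intro y
    have hAff : IsAffineOpen (D.map (v y ≫ u y.1) ⁻¹ᵁ V y.1) :=
      (hV y.1).preimage (D.map (v y ≫ u y.1))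
    have hN : IsAffineOpen (c.π.app i₀ ⁻¹ᵁ V y.1) := (hV y.1).preimage (c.π.app i₀)
    have hM : IsAffineOpen (h ⁻¹ᵁ c.π.app i₀ ⁻¹ᵁ V y.1) := hN.preimage h
    exact isClosedImmersion_morphismRestrict (h ≫ c.π.app k₀) _ hAff _ hM
      (comp_preimage_map_preimage D c h (v y ≫ u y.1) (V y.1)).symm
      (hku y.1 k₀ (v y))

end Groth.Agent.Lib.Helper14.FTImm
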