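import Mathlib
import Groth.Agent.Lib.Helper70.NeronClosA
import Groth.Agent.Lib.Helper78.Birational
import Groth.Agent.Lib.Helper54.GenericPt

/-!
# A proper morphism from an `R`-flat scheme which is an isomorphism over `D(ϖ)` is an isomorphism near
  every point whose local ring is a valuation ring (helper14)

`R` a domain, `C ⟶ Spec R` flat, `g : Z ⟶ C` proper with `Z` flat over `R`, `g` an isomorphism over the
preimage of `D(ϖ)`, `ϖ ≠ 0`.  If `𝒪_{C,c}` is a valuation ring (and `C` is germ injective at `c`) then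
`g` is an isomorphism over a neighbourhood of `c`.  Proof: valuative criterion gives a section over
`Spec 𝒪_{C,c}`; spread it out to a section `τ` over an open `V`; `τ` is a closed immersion and contains
the (schematically dense) generic fibre of `g⁻¹ V`, hence is an isomorphism.
-/

set_option autoImplicit false
universe u
open CategoryTheory CategoryTheory.Limits AlgebraicGeometry TopologicalSpace

namespace Groth.Agent.Lib.Helper14.CodimOneIso

open Groth.Agent.Lib.Helper70.NeronClosA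

/-- cancellation over the locus where `g` is an isomorphism. -/
theorem eq_of_comp_eq_of_range_subset {P Z C : Scheme.{u}} (g : Z ⟶ C) (V₀ : C.Opens)
    [IsIso (g ∣_ V₀)] (a b : P ⟶ Z) (hab : a ≫ g = b ≫ g)
    (hr : Set.range (a ≫ g) ⊆ (V₀ : Set C)) : a = b := by
  have hra : Set.range a ⊆ Set.range (g ⁻¹ᵁ V₀).ι := by
    rw [Scheme.Opens.range_ι]
    rintro _ ⟨p, rfl⟩
    change g (a p) ∈ V₀
    rw [← Scheme.Hom.comp_apply]
    exact hr ⟨p, rfl⟩
  have hrb : Set.range b ⊆ Set.range (g ⁻¹ᵁ V₀).ι := by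
    rw [Scheme.Opens.range_ι]
    rintro _ ⟨p, rfl⟩
    change g (b p) ∈ V₀
    rw [← Scheme.Hom.comp_apply, ← hab]
    exact hr ⟨p, rfl⟩
  let a₀ := IsOpenImmersion.lift (g ⁻¹ᵁ V₀).ι a hra
  let b₀ := IsOpenImmersion.lift (g ⁻¹ᵁ V₀).ι b hrb
  have ha : a₀ ≫ (g ⁻¹ᵁ V₀).ι = a := IsOpenImmersion.lift_fac _ _ _
  have hb : b₀ ≫ (g ⁻¹ᵁ V₀).ι = b := IsOpenImmersion.lift_fac _ _ _
  have h1 : a₀ ≫ (g ∣_ V₀) = b₀ ≫ (g ∣_ V₀) := by
    rw [← cancel_mono V₀.ι, Category.assoc, Category.assoc, morphismRestrict_ι,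
      reassoc_of% ha, reassoc_of% hb, hab]
  have h2 : a₀ = b₀ := (cancel_mono (g ∣_ V₀)).mp h1
  rw [← ha, ← hb, h2]

theorem genericPoint_mem_basicOpen (R : Type u) [CommRing R] [IsDomain R] (ϖ : R) (hϖ : ϖ ≠ 0) :
    genericPoint (Spec (CommRingCat.of R)) ∈
      (PrimeSpectrum.basicOpen ϖ : (Spec (CommRingCat.of R)).Opens) := by
  rw [genericPoint_eq_bot_of_affine]
  change ϖ ∉ (⊥ : Ideal R)
  simpa using hϖ

theorem exists_isIso_restrict_of_valuationRing
    (R : Type u) [CommRing R] [IsDomain R] {C Z : Scheme.{u}}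
    (πC : C ⟶ Spec (CommRingCat.of R)) [Flat πC] (g : Z ⟶ C) [IsProper g] [Flat (g ≫ πC)]
    (ϖ : R) (hϖ : ϖ ≠ 0)
    (hgen : IsIso (g ∣_ (πC ⁻¹ᵁ (PrimeSpectrum.basicOpen ϖ))))
    (c : C) [C.IsGermInjectiveAt c] [IsDomain (C.presheaf.stalk c)]
    [ValuationRing (C.presheaf.stalk c)] :
    ∃ V : C.Opens, c ∈ V ∧ IsIso (g ∣_ V) := by
  classical
  obtain ⟨V₀, hV₀⟩ : ∃ V₀ : C.Opens, V₀ = πC ⁻¹ᵁ (PrimeSpectrum.basicOpen ϖ) := ⟨_, rfl⟩
  rw [← hV₀] at hgen
  by_cases hc : c ∈ V₀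
  · exact ⟨V₀, hc, hgen⟩
  -- the ring map `R ⟶ 𝒪_{C,c}` is flat, hence `ϖ` is not sent to `0`
  have hflatj : Flat (C.fromSpecStalk c) := Groth.Agent.Lib.Helper54.flat_fromSpecStalk C c
  have hflat : Flat (C.fromSpecStalk c ≫ πC) := inferInstance
  obtain ⟨ρ, hρ⟩ : ∃ ρ : CommRingCat.of R ⟶ C.presheaf.stalk c,
      Spec.map ρ = C.fromSpecStalk c ≫ πC := ⟨Spec.preimage _, Spec.map_preimage _⟩
  have hρflat : ρ.hom.Flat := by
    rw [← hρ] at hflat
    exact (HasRingHomProperty.Spec_iff (P := @Flat)).mp hflat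
  have hρϖ : ρ.hom ϖ ≠ 0 := by
    algebraize [ρ.hom]
    have hfl : Module.Flat R (C.presheaf.stalk c) := (RingHom.flat_algebraMap_iff).mp hρflat
    intro h0
    have hreg : IsSMulRegular (C.presheaf.stalk c) ϖ :=
      Module.Flat.isSMulRegular_of_nonZeroDivisors (mem_nonZeroDivisors_of_ne_zero hϖ)
    have h1 : ϖ • (1 : C.presheaf.stalk c) = ϖ • (0 : C.presheaf.stalk c) := by
      rw [Algebra.smul_def, mul_one, smul_zero]
      exact h0
    exact one_ne_zero (hreg h1)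
  -- the `K`-point, `K = Frac 𝒪_{C,c}`, lies in the iso locus
  obtain ⟨ψK, hψK⟩ : ∃ ψK : Spec (CommRingCat.of (FractionRing (C.presheaf.stalk c))) ⟶ C,
      ψK = Spec.map (CommRingCat.ofHom (algebraMap (C.presheaf.stalk c)
        (FractionRing (C.presheaf.stalk c)))) ≫ C.fromSpecStalk c := ⟨_, rfl⟩
  have hrK : Set.range ψK ⊆ (V₀ : Set C) := by
    rintro _ ⟨x, rfl⟩
    have h1 : ψK ≫ πC = Spec.map (ρ ≫ CommRingCat.ofHom (algebraMap (C.presheaf.stalk c)
        (FractionRing (C.presheaf.stalk c)))) := by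
      rw [hψK, Category.assoc, ← hρ]
      exact (Spec.map_comp _ _).symm
    have h2 : πC (ψK x) = (ψK ≫ πC) x := (Scheme.Hom.comp_apply _ _ _).symm
    rw [hV₀]
    change πC (ψK x) ∈ (PrimeSpectrum.basicOpen ϖ : (Spec (CommRingCat.of R)).Opens)
    rw [h2, h1]
    change ϖ ∉ Ideal.comap (ρ ≫ CommRingCat.ofHom (algebraMap (C.presheaf.stalk c)
        (FractionRing (C.presheaf.stalk c)))).hom x.asIdeal
    have hx : x.asIdeal = ⊥ := by
      rcases Ideal.eq_bot_or_top x.asIdeal with h | h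
      · exact h
      · exact absurd h x.2.ne_top
    rw [hx, Ideal.mem_comap, Ideal.mem_bot]
    change algebraMap (C.presheaf.stalk c) (FractionRing (C.presheaf.stalk c)) (ρ.hom ϖ) ≠ 0
    intro h0
    exact hρϖ ((IsFractionRing.injective (C.presheaf.stalk c)
      (FractionRing (C.presheaf.stalk c))) (h0.trans (map_zero _).symm))
  obtain ⟨a₀, ha₀⟩ : ∃ a₀ : Spec (CommRingCat.of (FractionRing (C.presheaf.stalk c))) ⟶ V₀.toScheme,
      a₀ ≫ V₀.ι = ψK :=
    ⟨IsOpenImmersion.lift V₀.ι ψK (by rw [Scheme.Opens.range_ι]; exact hrK),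
      IsOpenImmersion.lift_fac _ _ _⟩
  obtain ⟨i₁, hi₁⟩ : ∃ i₁ : Spec (CommRingCat.of (FractionRing (C.presheaf.stalk c))) ⟶ Z,
      i₁ ≫ g = ψK := by
    refine ⟨a₀ ≫ inv (g ∣_ V₀) ≫ (g ⁻¹ᵁ V₀).ι, ?_⟩
    rw [Category.assoc, Category.assoc, ← morphismRestrict_ι, IsIso.inv_hom_id_assoc, ha₀]
  -- valuative criterion
  have hex : ValuativeCriterion.Existence g := by
    have huc : UniversallyClosed g := inferInstance
    rw [UniversallyClosed.eq_valuativeCriterion] at huc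
    exact huc.1
  have hdomA : IsDomain (C.presheaf.stalk c) := inferInstance
  have hvalA : ValuationRing (C.presheaf.stalk c) := inferInstance
  let Sq : ValuativeCommSq g :=
    { R := C.presheaf.stalk c
      domain := hdomA
      valuationRing := hvalA
      K := FractionRing (C.presheaf.stalk c)
      i₁ := i₁
      i₂ := C.fromSpecStalk c
      commSq := ⟨by rw [hi₁, hψK]⟩ }
  obtain ⟨l⟩ := (hex Sq).exists_lift
  have hl : l.l ≫ g = C.fromSpecStalk c := l.fac_right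
  -- spread the section out
  obtain ⟨V, hcV, τ, -, hτ2⟩ := spread_out_of_isGermInjective' (𝟙 C) g l.l
    (by rw [hl, Category.comp_id])
  rw [Category.comp_id] at hτ2
  have hrτ : Set.range τ ⊆ Set.range (g ⁻¹ᵁ V).ι := by
    rw [Scheme.Opens.range_ι]
    rintro _ ⟨v, rfl⟩
    change g (τ v) ∈ V
    rw [← Scheme.Hom.comp_apply, hτ2]
    exact v.2
  obtain ⟨τ', hτ'⟩ : ∃ τ' : V.toScheme ⟶ (g ⁻¹ᵁ V).toScheme, τ' ≫ (g ⁻¹ᵁ V).ι = τ :=
    ⟨IsOpenImmersion.lift (g ⁻¹ᵁ V).ι τ hrτ, IsOpenImmersion.lift_fac _ _ _⟩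
  have hsec : τ' ≫ (g ∣_ V) = 𝟙 _ := by
    rw [← cancel_mono V.ι, Category.assoc, morphismRestrict_ι, reassoc_of% hτ', hτ2,
      Category.id_comp]
  have hci : IsClosedImmersion τ' := by
    have : IsClosedImmersion (τ' ≫ (g ∣_ V)) := by rw [hsec]; infer_instance
    exact IsClosedImmersion.of_comp τ' (g ∣_ V)
  -- the generic fibre of `g ⁻¹ᵁ V` is schematically dense
  obtain ⟨fV, hfV⟩ : ∃ fV : (g ⁻¹ᵁ V).toScheme ⟶ Spec (CommRingCat.of R),
      fV = (g ⁻¹ᵁ V).ι ≫ g ≫ πC := ⟨_, rfl⟩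
  have hfVflat : Flat fV := by rw [hfV]; infer_instance
  have hd : (pullback.fst fV (genPt R)).ker = ⊥ :=
    ker_eq_bot_of_isPullback_genPt R fV (pullback.fst fV (genPt R)) (pullback.snd fV (genPt R))
      (IsPullback.of_hasPullback _ _)
  have hkey : pullback.fst fV (genPt R) ≫ 𝟙 _ =
      (pullback.fst fV (genPt R) ≫ (g ∣_ V)) ≫ τ' := by
    rw [Category.comp_id, ← cancel_mono (g ⁻¹ᵁ V).ι]
    refine eq_of_comp_eq_of_range_subset g V₀ _ _ ?_ ?_
    · simp only [Category.assoc]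
      rw [reassoc_of% hτ', hτ2, morphismRestrict_ι]
    · rintro _ ⟨p, rfl⟩
      rw [hV₀]
      change πC (((pullback.fst fV (genPt R) ≫ (g ⁻¹ᵁ V).ι) ≫ g) p) ∈
        (PrimeSpectrum.basicOpen ϖ : (Spec (CommRingCat.of R)).Opens)
      have h3 : πC (((pullback.fst fV (genPt R) ≫ (g ⁻¹ᵁ V).ι) ≫ g) p) =
          (pullback.snd fV (genPt R) ≫ genPt R) p := by
        rw [← pullback.condition]
        subst hfV
        simp only [Scheme.Hom.comp_apply]
      rw [h3, Scheme.Hom.comp_apply, genPt_apply]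
      exact genericPoint_mem_basicOpen R ϖ hϖ
  obtain ⟨m, hm⟩ := exists_lift_of_ker_eq_bot τ' (𝟙 _) (pullback.fst fV (genPt R)) hd
    (pullback.fst fV (genPt R) ≫ (g ∣_ V)) hkey
  have hiso : IsIso τ' := by
    have h1 : IsSplitEpi τ' := ⟨⟨m, hm⟩⟩
    have h2 : Mono τ' := inferInstance
    exact isIso_of_mono_of_isSplitEpi τ'
  have hinv : g ∣_ V = inv τ' := by
    rw [← cancel_epi τ', hsec, IsIso.hom_inv_id]
  exact ⟨V, hcV, by rw [hinv]; infer_instance⟩

end Groth.Agent.Lib.Helper14.CodimOneIso
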