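import Mathlib
import Groth.Agent.S0355
import Groth.Agent.Lib.Helper70.GrpIrrC
import Groth.Agent.Lib.Helper27.KPoints
import Groth.Agent.Lib.Helper2.HartshorneConnGlobal

/-!
# Connected components of group schemes locally of finite type over a field are quasi-compact
(helper14; SGA3 VI_A 2.4)
-/

set_option autoImplicit false

namespace Groth.Agent.Lib.Helper14.ConnCompQC

universe u

open AlgebraicGeometry CategoryTheory Limits TopologicalSpace MonoidalCategory
  CartesianMonoidalCategory MonObj GrpObj
open Groth.Agent.Lib.Helper70.GrpIrrC

/-- Every connected component of a group scheme locally of finite type over a field is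
quasi-compact. -/
theorem isCompact_connectedComponent_field {k : Type u} [Field k]
    (G : Over (Spec (CommRingCat.of k))) [GrpObj G] [LocallyOfFiniteType G.hom] (g : G.left) :
    IsCompact (connectedComponent g) := by
  obtain ⟨x, hxC, hx⟩ := Groth.Agent.Lib.Helper27.KPoints.exists_closed_point_mem G.hom
    (connectedComponent g) isClosed_connectedComponent ⟨g, mem_connectedComponent⟩
  let K : Type u := G.left.residueField x
  let s : Spec (G.left.residueField x) ⟶ G.left := G.left.fromSpecResidueField x
  let φ : CommRingCat.of k ⟶ G.left.residueField x := Spec.preimage (s ≫ G.hom)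
  let _ : Algebra k K := φ.hom.toAlgebra
  have hs : s ≫ G.hom = bc k K := by
    rw [← Spec.map_preimage (s ≫ G.hom)]
    rfl
  have hfin : IsFinite (bc k K) := by
    rw [← hs]
    rw [isClosed_singleton_iff_isClosedImmersion] at hx
    rw [isFinite_iff_locallyOfFiniteType_of_jacobsonSpace]
    infer_instance
  let π : (GK K G).left ⟶ G.left := pullback.fst G.hom (bc k K)
  have hπfin : IsFinite π := inferInstanceAs (IsFinite (pullback.fst G.hom (bc k K)))
  have hπopen : IsOpenMap π := π.isOpenMap
  have hπclosed : IsClosedMap π := π.isClosedMap
  let pt : 𝟙_ (Over (Spec (CommRingCat.of K))) ⟶ GK K G :=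
    Over.homMk (pullback.lift s (𝟙 _) (by rw [hs]; simp)) (pullback.lift_snd _ _ _)
  let p0 : (𝟙_ (Over (Spec (CommRingCat.of K)))).left := IsLocalRing.closedPoint K
  have e : π (pt.left p0) = x := by
    rw [← Scheme.Hom.comp_apply]
    have : pt.left ≫ π = s := pullback.lift_fst _ _ _
    rw [this]
    exact Scheme.fromSpecResidueField_apply _ _
  have hlft : LocallyOfFiniteType (GK K G).hom :=
    inferInstanceAs (LocallyOfFiniteType (pullback.snd G.hom (bc k K)))
  have : IsLocallyNoetherian (Spec (CommRingCat.of K)) := inferInstance
  have : IsLocallyNoetherian (GK K G).left :=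
    LocallyOfFiniteType.isLocallyNoetherian (GK K G).hom
  have hC'open : IsOpen (connectedComponent (pt.left p0)) :=
    Groth.Agent.Lib.Helper2.isOpen_connectedComponent_of_isLocallyNoetherian _ _
  have hC'cpt : IsCompact (connectedComponent (pt.left p0)) := by
    have hiso : IsIso (transl (GK K G) pt).left :=
      (inferInstance : IsIso ((Over.forget _).map (transl (GK K G) pt)))
    let h := (transl (GK K G) pt).left.homeomorph
    have e2 : h (η[GK K G].left p0) = pt.left p0 := by
      show (transl (GK K G) pt).left (η[GK K G].left p0) = pt.left p0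
      rw [← Scheme.Hom.comp_apply, ← Over.comp_left, unit_transl]
    have h0 := (Groth.Agent.S0355.result K (GK K G)).2
    refine (h0.image h.continuous).of_isClosed_subset isClosed_connectedComponent ?_
    intro y hy
    refine ⟨h.symm y, ?_, h.apply_symm_apply y⟩
    have h1 := h.symm.continuous.image_connectedComponent_subset (h (η[GK K G].left p0))
    rw [h.symm_apply_apply] at h1
    apply h1
    rw [e2]
    exact ⟨y, hy, rfl⟩
  have hclopen : IsClopen (π '' connectedComponent (pt.left p0)) :=
    ⟨hπclosed _ isClosed_connectedComponent, hπopen _ hC'open⟩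
  have hsub : connectedComponent g ⊆ π '' connectedComponent (pt.left p0) := by
    rw [connectedComponent_eq hxC]
    exact hclopen.connectedComponent_subset ⟨pt.left p0, mem_connectedComponent, e⟩
  exact (hC'cpt.image π.continuous).of_isClosed_subset isClosed_connectedComponent hsub

end Groth.Agent.Lib.Helper14.ConnCompQC

namespace Groth.Agent.Lib.Helper14.ConnCompQC

universe u

open AlgebraicGeometry CategoryTheory Limits TopologicalSpace MonoidalCategory
  CartesianMonoidalCategory MonObj GrpObj

/-- Compactness of connected components transfers along a homeomorphism. -/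
theorem isCompact_connectedComponent_homeomorph {X Y : Type*} [TopologicalSpace X]
    [TopologicalSpace Y] (h : X ≃ₜ Y) (a : X) (ha : IsCompact (connectedComponent a)) :
    IsCompact (connectedComponent (h a)) := by
  refine (ha.image h.continuous).of_isClosed_subset isClosed_connectedComponent ?_
  intro y hy
  refine ⟨h.symm y, ?_, h.apply_symm_apply y⟩
  have h1 := h.symm.continuous.image_connectedComponent_subset (h a)
  rw [h.symm_apply_apply] at h1
  exact h1 ⟨y, hy, rfl⟩

/-- Every connected component of a group scheme locally of finite type over an artinian local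
ring is quasi-compact. -/
theorem isCompact_connectedComponent_artinian (A : Type u) [CommRing A] [IsArtinianRing A]
    [IsLocalRing A] (G : Over (Spec (CommRingCat.of A))) [GrpObj G] [LocallyOfFiniteType G.hom]
    (g : G.left) : IsCompact (connectedComponent g) := by
  let k : Type u := IsLocalRing.ResidueField A
  let j : Spec (CommRingCat.of k) ⟶ Spec (CommRingCat.of A) :=
    Spec.map (CommRingCat.ofHom (IsLocalRing.residue A))
  have hj : IsClosedImmersion j :=
    IsClosedImmersion.spec_of_surjective _ IsLocalRing.residue_surjective
  have hsub : Subsingleton ↥(Spec (CommRingCat.of A)) :=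
    inferInstanceAs (Subsingleton (PrimeSpectrum A))
  have hjs : Surjective j :=
    ⟨fun y => ⟨IsLocalRing.closedPoint k, Subsingleton.elim _ _⟩⟩
  let Gk : Over (Spec (CommRingCat.of k)) := (Over.pullback j).obj G
  let π : Gk.left ⟶ G.left := pullback.fst G.hom j
  have hπ1 : IsClosedImmersion π := inferInstanceAs (IsClosedImmersion (pullback.fst G.hom j))
  have hπ2 : Surjective π := inferInstanceAs (Surjective (pullback.fst G.hom j))
  have hlft : LocallyOfFiniteType Gk.hom :=
    inferInstanceAs (LocallyOfFiniteType (pullback.snd G.hom j))
  obtain ⟨g', rfl⟩ := π.surjective g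
  have hhomeo : IsHomeomorph π :=
    isHomeomorph_iff_isEmbedding_surjective.mpr ⟨π.isClosedEmbedding.isEmbedding, π.surjective⟩
  exact isCompact_connectedComponent_homeomorph hhomeo.homeomorph g'
    (isCompact_connectedComponent_field Gk g')

end Groth.Agent.Lib.Helper14.ConnCompQC
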