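/-
Helper library (helper14): ind-constructibility of relations of the form
"there is a field extension `k'/k` and a `k'`-morphism `X_{k'} ⟶ Y_{k'}` with property `Q`"
for a property `Q` stable under base change that is an ind-constructible property of morphisms
of algebraic schemes (variant of helper23's `isIndConsPair_existsBC`, which assumes instead that
`Q` descends through arbitrary limits).
-/
import Mathlib
import Groth.Prelude.Def_W4ega4s0809p4Pair
import Groth.Prelude.Def_EGA4Misc
import Groth.Agent.Lib.Helper23.ConsPairInd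
import Groth.Agent.Lib.Helper23.ConsLocusMor
import Groth.Agent.Lib.Helper23.ConsLocusLim

set_option autoImplicit false
universe u
open CategoryTheory Limits AlgebraicGeometry

namespace Groth.Agent.Lib.Helper14.ConsPairMor

open Groth.Agent.Lib.Helper23

section Spread

/-- Spreading out a morphism between the base changes of `X`, `Y` to a ring `K` over an affine
open `U` of `S` to a finitely generated `Γ(S, U)`-subalgebra of `K` (helper23's
`exists_stage_of_ring` for the trivial property, keeping track of the comparison squares and of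
the injectivity of `B ⟶ K`). -/
theorem exists_stage_of_ring_hom {X Y S : Scheme.{u}}
    (u : X ⟶ S) (v : Y ⟶ S)
    [LocallyOfFinitePresentation u] [QuasiCompact u] [QuasiSeparated u]
    [LocallyOfFinitePresentation v] [QuasiCompact v] [QuasiSeparated v]
    {U : S.Opens} (hU : IsAffineOpen U) {K : CommRingCat.{u}} (ψ : Γ(S, U) ⟶ K)
    {XK YK : Scheme.{u}} {gXK : XK ⟶ Spec K} {gYK : YK ⟶ Spec K} {eX : XK ⟶ X} {eY : YK ⟶ Y}
    (hXK : IsPullback eX gXK u (Spec.map ψ ≫ hU.fromSpec))
    (hYK : IsPullback eY gYK v (Spec.map ψ ≫ hU.fromSpec))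
    (g : XK ⟶ YK) (hg : g ≫ gYK = gXK) :
    ∃ (B : CommRingCat.{u}) (ψB : Γ(S, U) ⟶ B) (ι : B ⟶ K), ψB ≫ ι = ψ ∧ ψB.hom.FiniteType ∧
      Function.Injective ι.hom ∧
      ∃ (XW YW : Scheme.{u}) (gXW : XW ⟶ Spec B) (gYW : YW ⟶ Spec B) (eXW : XW ⟶ X)
        (eYW : YW ⟶ Y), IsPullback eXW gXW u (Spec.map ψB ≫ hU.fromSpec) ∧
          IsPullback eYW gYW v (Spec.map ψB ≫ hU.fromSpec) ∧
          ∃ (gW : XW ⟶ YW) (pX : XK ⟶ XW) (pY : YK ⟶ YW), gW ≫ gYW = gXW ∧
            IsPullback pY gYK gYW (Spec.map ι) ∧ IsPullback pX g gW pY := by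
  classical
  let _ : Algebra Γ(S, U) K := ψ.hom.toAlgebra
  let F : Finset K ⥤ Under (CommRingCat.of Γ(S, U)) := fgDiagram Γ(S, U) K
  let cc : Cocone F := fgCocone Γ(S, U) K
  have hcc : IsColimit cc := isColimitFgCocone
  have hc : IsLimit (specCone F cc) := isLimitSpecCone F hcc
  let β : ∀ j : (Finset K)ᵒᵖ, (specDiagram F).obj j ⟶ S :=
    fun j => Spec.map (F.obj j.unop).hom ≫ hU.fromSpec
  have hβ : ∀ {i j : (Finset K)ᵒᵖ} (a : i ⟶ j), (specDiagram F).map a ≫ β j = β i := by
    intro i j a
    have hw : (F.obj j.unop).hom ≫ (F.map a.unop).right = (F.obj i.unop).hom :=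
      Under.w (F.map a.unop)
    change Spec.map (F.map a.unop).right ≫ Spec.map (F.obj j.unop).hom ≫ hU.fromSpec =
      Spec.map (F.obj i.unop).hom ≫ hU.fromSpec
    rw [← Category.assoc, ← Spec.map_comp, hw]
  have hβc : ∀ j : (Finset K)ᵒᵖ, (specCone F cc).π.app j ≫ β j = Spec.map ψ ≫ hU.fromSpec := by
    intro j
    have hw : (F.obj j.unop).hom ≫ (cc.ι.app j.unop).right = cc.pt.hom :=
      Under.w (cc.ι.app j.unop)
    change Spec.map (cc.ι.app j.unop).right ≫ Spec.map (F.obj j.unop).hom ≫ hU.fromSpec = _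
    rw [← Category.assoc, ← Spec.map_comp, hw]
    rfl
  let i₀ : (Finset K)ᵒᵖ := Opposite.op ∅
  obtain ⟨qX, hqX, hX⟩ := exists_isPullback_of_fac (IsPullback.of_hasPullback u (β i₀)) hXK
    ((specCone F cc).π.app i₀) (hβc i₀)
  obtain ⟨qY, hqY, hY⟩ := exists_isPullback_of_fac (IsPullback.of_hasPullback v (β i₀)) hYK
    ((specCone F cc).π.app i₀) (hβc i₀)
  have hinst : ∀ (i j : (Finset K)ᵒᵖ) (a : i ⟶ j), IsAffineHom ((specDiagram F).map a) :=
    fun i j a => inferInstance
  have c1 : CompactSpace ↥(pullback u (β i₀)) :=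
    QuasiCompact.compactSpace_of_compactSpace (pullback.snd u (β i₀))
  have c2 : QuasiSeparatedSpace ↥(pullback u (β i₀)) :=
    quasiSeparatedSpace_of_quasiSeparated (pullback.snd u (β i₀))
  have c3 : CompactSpace ↥(pullback v (β i₀)) :=
    QuasiCompact.compactSpace_of_compactSpace (pullback.snd v (β i₀))
  have c4 : QuasiSeparatedSpace ↥(pullback v (β i₀)) :=
    quasiSeparatedSpace_of_quasiSeparated (pullback.snd v (β i₀))
  obtain ⟨j, φ, fj, sX, sY, hfj, hsX1, hsX2, hsY1, hsY2, hsf⟩ :=
    Groth.Agent.S9218.result (specDiagram F) (specCone F cc) hc i₀ (pullback.snd u (β i₀))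
      (pullback.snd v (β i₀)) qX gXK hX qY gYK hY g hg
  have hw : (specCone F cc).π.app j ≫ (specDiagram F).map φ = (specCone F cc).π.app i₀ :=
    (specCone F cc).w φ
  have hYj : IsPullback sY gYK (pullback.snd (pullback.snd v (β i₀)) ((specDiagram F).map φ))
      ((specCone F cc).π.app j) := by
    refine IsPullback.of_right ?_ hsY2 (IsPullback.of_hasPullback _ _)
    exact isPullback_congr hY hsY1.symm rfl rfl hw.symm
  have hXj' : IsPullback sX gXK (pullback.snd (pullback.snd u (β i₀)) ((specDiagram F).map φ))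
      ((specCone F cc).π.app j) := by
    refine IsPullback.of_right ?_ hsX2 (IsPullback.of_hasPullback _ _)
    exact isPullback_congr hX hsX1.symm rfl rfl hw.symm
  have hXj : IsPullback sX g fj sY := by
    refine IsPullback.of_bot ?_ hsf hYj
    exact isPullback_congr hXj' rfl hg.symm hfj.symm rfl
  refine ⟨(F.obj j.unop).right, (F.obj j.unop).hom, (cc.ι.app j.unop).right,
    Under.w (cc.ι.app j.unop), ?_, Subtype.val_injective, _, _,
    pullback.snd (pullback.snd u (β i₀)) ((specDiagram F).map φ),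
    pullback.snd (pullback.snd v (β i₀)) ((specDiagram F).map φ),
    pullback.fst _ _ ≫ pullback.fst u (β i₀),
    pullback.fst _ _ ≫ pullback.fst v (β i₀), ?_, ?_, fj, sX, sY, hfj, hYj, hXj⟩
  · change (algebraMap Γ(S, U) (Algebra.adjoin Γ(S, U) ((j.unop : Finset K) : Set K))).FiniteType
    rw [RingHom.finiteType_algebraMap]
    exact (Subalgebra.fg_iff_finiteType _).mp (Subalgebra.fg_adjoin_finset _)
  · have h2 := (IsPullback.of_hasPullback (pullback.snd u (β i₀))
      ((specDiagram F).map φ)).paste_horiz (IsPullback.of_hasPullback u (β i₀))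
    exact isPullback_congr h2 rfl rfl rfl (hβ φ)
  · have h2 := (IsPullback.of_hasPullback (pullback.snd v (β i₀))
      ((specDiagram F).map φ)).paste_horiz (IsPullback.of_hasPullback v (β i₀))
    exact isPullback_congr h2 rfl rfl rfl (hβ φ)

end Spread

section Family

variable (Q : MorphismProperty Scheme.{u}) [Q.IsStableUnderBaseChange]

/-- For `Q` stable under base change and an ind-constructible property of morphisms of algebraic
schemes, the relation "geometrically there is a morphism `X ⟶ Y` with `Q`" is an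
ind-constructible property of pairs of algebraic schemes. -/
theorem isIndConsPair_existsBC_of_isIndConsMor
    (hQ : ConsProp.IsIndConsMor.{u} (fun _ _ _ f _ => Q f)) :
    ConsPropPair.IsIndConsPair (ExistsBC Q) := by
  refine ⟨isFieldStablePair_existsBC Q, ?_⟩
  intro X Y S u v _ _ _ _ _ _ hgen
  obtain ⟨T', X', Y', h, gX', gY', eX, eY, hT'i, hT's, hX', hY', g, hg, hQg⟩ := hgen
  -- finiteness conditions
  have : IsLocallyNoetherian X := LocallyOfFiniteType.isLocallyNoetherian u
  have : IsLocallyNoetherian Y := LocallyOfFiniteType.isLocallyNoetherian v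
  have : QuasiSeparated u := inferInstance
  have : QuasiSeparated v := inferInstance
  -- `T'` is the spectrum of a ring
  have : IsAffine T' := isAffine_of_subsingleton T'
  let K : CommRingCat.{u} := Γ(T', ⊤)
  let e : T' ≅ Spec K := T'.isoSpec
  obtain ⟨U, hU, hηU⟩ := Groth.Agent.Lib.Helper16.exists_affine_nhd (genericPoint S)
  let t : Spec K ⟶ S := (e.inv ≫ h) ≫ S.fromSpecResidueField (genericPoint S)
  have htη : ∀ p : Spec K, t p = genericPoint S := by
    intro p
    have : t p ∈ Set.range (S.fromSpecResidueField (genericPoint S)) := ⟨(e.inv ≫ h) p, rfl⟩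
    rw [Scheme.range_fromSpecResidueField] at this
    exact this
  have hrange : Set.range t ⊆ Set.range hU.fromSpec := by
    rintro _ ⟨p, rfl⟩
    rw [hU.range_fromSpec, htη p]
    exact hηU
  let t' : Spec K ⟶ Spec Γ(S, U) := IsOpenImmersion.lift hU.fromSpec t hrange
  have ht' : t' ≫ hU.fromSpec = t := IsOpenImmersion.lift_fac _ _ _
  let ψ : Γ(S, U) ⟶ K := Spec.preimage t'
  have hψ : Spec.map ψ ≫ hU.fromSpec = t := by rw [Spec.map_preimage]; exact ht'
  -- the data over `Spec K`
  have hXK : IsPullback (eX ≫ u.fiberι (genericPoint S)) (gX' ≫ e.hom) u (Spec.map ψ ≫ hU.fromSpec) := by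
    have h1 : IsPullback (𝟙 X') (gX' ≫ e.hom) gX' e.inv :=
      IsPullback.of_horiz_isIso ⟨by simp⟩
    have h2 := (h1.paste_horiz hX').paste_horiz
      (IsPullback.of_hasPullback u (S.fromSpecResidueField (genericPoint S)))
    exact isPullback_congr h2 (by rw [Category.id_comp]; rfl) rfl rfl hψ.symm
  have hYK : IsPullback (eY ≫ v.fiberι (genericPoint S)) (gY' ≫ e.hom) v (Spec.map ψ ≫ hU.fromSpec) := by
    have h1 : IsPullback (𝟙 Y') (gY' ≫ e.hom) gY' e.inv :=
      IsPullback.of_horiz_isIso ⟨by simp⟩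
    have h2 := (h1.paste_horiz hY').paste_horiz
      (IsPullback.of_hasPullback v (S.fromSpecResidueField (genericPoint S)))
    exact isPullback_congr h2 (by rw [Category.id_comp]; rfl) rfl rfl hψ.symm
  have hgK : g ≫ gY' ≫ e.hom = gX' ≫ e.hom := by rw [← Category.assoc, hg]
  obtain ⟨B, ψB, ι, hfac, hft, hinj, XW, YW, gXW, gYW, eXW, eYW, hXW, hYW, gW, pX, pY, hgW,
      hpY, hpX⟩ := exists_stage_of_ring_hom u v hU ψ hXK hYK g hgK
  subst hgW
  -- the morphism `w : Spec B ⟶ S`
  let w : Spec B ⟶ S := Spec.map ψB ≫ hU.fromSpec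
  have : LocallyOfFiniteType (Spec.map ψB) := HasRingHomProperty.Spec_iff.mpr hft
  have : LocallyOfFiniteType w := inferInstance
  have : LocallyOfFinitePresentation w := inferInstance
  have : QuasiCompact w := inferInstance
  -- `B` is a Noetherian domain
  have hKdom : IsDomain K := inferInstanceAs (IsDomain Γ(T', ⊤))
  have hBdom : IsDomain B := hinj.isDomain ι.hom
  have hΓN : IsNoetherianRing Γ(S, U) := IsLocallyNoetherian.component_noetherian ⟨U, hU⟩
  have hBN : IsNoetherianRing B := by
    let _ : Algebra Γ(S, U) B := ψB.hom.toAlgebra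
    have : Algebra.FiniteType Γ(S, U) B := hft
    exact Algebra.FiniteType.isNoetherianRing Γ(S, U) B
  have : IsIntegral (Spec B) := inferInstance
  have : IsNoetherian (Spec B) := inferInstance
  have k1 : LocallyOfFiniteType gYW := MorphismProperty.of_isPullback hYW inferInstance
  have k2 : QuasiCompact gYW := MorphismProperty.of_isPullback hYW inferInstance
  have k3 : LocallyOfFiniteType (gW ≫ gYW) := MorphismProperty.of_isPullback hXW inferInstance
  have k4 : QuasiCompact (gW ≫ gYW) := MorphismProperty.of_isPullback hXW inferInstance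
  -- the unique point of `Spec K` and its image, the generic point of `Spec B`
  obtain ⟨x'⟩ : Nonempty T' := inferInstance
  let x₀ : Spec K := e.hom x'
  have hsubK : Subsingleton (Spec K) := e.inv.homeomorph.injective.subsingleton
  have hx₀ : (Spec.map ι) x₀ = genericPoint (Spec B) := by
    rw [genericPoint_eq_bot_of_affine]
    have hx₀' : x₀ = (⊥ : PrimeSpectrum K) := Subsingleton.elim _ _
    rw [hx₀']
    apply PrimeSpectrum.ext
    change Ideal.comap ι.hom ⊥ = ⊥
    rw [← RingHom.ker_eq_comap_bot]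
    exact (RingHom.injective_iff_ker_eq_bot _).mp hinj
  -- the generic point of `Spec B` lies in the locus of `Q`
  have hξ : genericPoint (Spec B) ∈ ConsProp.locusMor (fun _ _ _ f _ => Q f) gW gYW := by
    have e1 := locusMor_baseChange (P := fun _ _ _ f _ => Q f) hQ.1 gW gYW (Spec.map ι) hpY hpX
    have h0 : x₀ ∈ ConsProp.locusMor (fun _ _ _ f _ => Q f) g (gY' ≫ e.hom) := by
      change Q (MoreMor.fiberMap g (gY' ≫ e.hom) x₀)
      exact Q.of_isPullback (isPullback_fibreMap_fst g (gY' ≫ e.hom)
        ((Spec K).fromSpecResidueField x₀)) hQg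
    rw [e1] at h0
    rw [← hx₀]
    exact h0
  obtain ⟨z₀, hz₀⟩ := hQ.2 gW gYW hξ
  let V : (Spec B).Opens := ⟨interior (ConsProp.locusMor (fun _ _ _ f _ => Q f) gW gYW),
    isOpen_interior⟩
  have hξV : genericPoint (Spec B) ∈ V :=
    ((genericPoint_spec (Spec B)).mem_open_set_iff V.isOpen).mpr ⟨z₀, trivial, hz₀⟩
  have hVcons : Topology.IsConstructible (V : Set (Spec B)) :=
    (TopologicalSpace.NoetherianSpace.isCompact _).isConstructible isOpen_interior
  have hcons : Topology.IsConstructible (w '' (V : Set (Spec B))) :=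
    w.isConstructible_image hVcons
  have hηw : genericPoint S ∈ w '' (V : Set (Spec B)) := by
    refine ⟨genericPoint (Spec B), hξV, ?_⟩
    have h1 : Spec.map ι ≫ w = t := by
      change Spec.map ι ≫ Spec.map ψB ≫ hU.fromSpec = t
      rw [← Category.assoc, ← Spec.map_comp, hfac]
      exact hψ
    rw [← hx₀]
    have h2 : w ((Spec.map ι) x₀) = (Spec.map ι ≫ w) x₀ := rfl
    rw [h2, h1]
    exact htη _
  -- a nonempty open subset of the image
  obtain ⟨V', hVo, hVne, hVsub⟩ : ∃ V' : Set S, IsOpen V' ∧ V'.Nonempty ∧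
      V' ⊆ w '' (V : Set (Spec B)) := by
    rcases Groth.Agent.Lib.Helper12.ConstrTop.exists_open_subset_or_compl hcons with h | h
    · exact h
    · obtain ⟨V', hVo, hVne, hVsub⟩ := h
      exfalso
      have hηV : genericPoint S ∈ V' :=
        ((genericPoint_spec S).mem_open_set_iff hVo).mpr (by simpa using hVne)
      exact hVsub hηV hηw
  refine hVne.mono (interior_maximal ?_ hVo)
  intro s hs
  obtain ⟨z, hzV, rfl⟩ := hVsub hs
  have hzQ : Q (MoreMor.fiberMap gW gYW z) :=
    (interior_subset hzV : z ∈ ConsProp.locusMor (fun _ _ _ f _ => Q f) gW gYW)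
  -- the stage over the residue field of `z`
  let ρ : Spec ((Spec B).residueField z) ⟶ Spec B := (Spec B).fromSpecResidueField z
  have hXz : IsPullback ((gW ≫ gYW).fiberι z ≫ eXW) ((gW ≫ gYW).fiberToSpecResidueField z) u
      (ρ ≫ w) := (IsPullback.of_hasPullback (gW ≫ gYW) ρ).paste_horiz hXW
  have hYz : IsPullback (gYW.fiberι z ≫ eYW) (gYW.fiberToSpecResidueField z) v
      (ρ ≫ w) := (IsPullback.of_hasPullback gYW ρ).paste_horiz hYW
  have hmem := mem_locusPair_existsBC_of_stage Q u v (ρ ≫ w) hXz hYz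
    (MoreMor.fiberMap gW gYW z) (fiberMap_fiberToSpecResidueField gW gYW z) hzQ
    (IsLocalRing.closedPoint ((Spec B).residueField z))
  have hpt : (ρ ≫ w) (IsLocalRing.closedPoint ((Spec B).residueField z)) = w z := by
    exact congrArg w (Scheme.fromSpecResidueField_apply z _)
  rw [hpt] at hmem
  exact hmem

end Family

section OfCons

/-- A constructible property of morphisms of algebraic schemes is ind-constructible. -/
theorem isIndConsMor_of_isConsMor {P : ∀ ⦃X Y T : Scheme.{u}⦄, (X ⟶ Y) → (Y ⟶ T) → Prop}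
    (hP : ConsProp.IsConsMor P) : ConsProp.IsIndConsMor P := by
  refine ⟨hP.1, ?_⟩
  intro X Y S f g _ _ _ _ _ _ hgen
  rcases hP.2 f g with h | h
  · exact h
  · exfalso
    obtain ⟨x, hx⟩ := h
    have h1 : genericPoint S ∈ interior (ConsProp.locusMor P f g)ᶜ :=
      ((genericPoint_spec S).mem_open_set_iff isOpen_interior).mpr ⟨x, trivial, hx⟩
    exact interior_subset h1 hgen

end OfCons

end Groth.Agent.Lib.Helper14.ConsPairMor
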