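/-
Helper library (helper14): being proper is a constructible property of morphisms of algebraic
schemes (EGA IV 9.6.1 (ii)), via Chow's lemma (S0025) and helper23's constructibility of
"the range of `f_s` is closed".
-/
import Mathlib
import Groth.Prelude.Def_EGA4Misc
import Groth.Agent.Lib.Helper23.ConsFinite
import Groth.Agent.Lib.Helper17.ProjSpaceProper
import Groth.Agent.S0025

set_option autoImplicit false
universe u
open CategoryTheory Limits AlgebraicGeometry Topology MorphismProperty

namespace Groth.Agent.Lib.Helper14.ConsProper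

open Groth.Agent.Lib.Helper23

/-- Given Chow data `X ←π− X' −j→ P −p→ Y` for `f : X ⟶ Y` (`π` proper surjective, `j` an
immersion, `p` proper), a base change `f₁` of `f` is proper iff the base change `j₁` of `j`
has closed range. -/
theorem isProper_iff_isClosed_range_of_chow {X Y X' P Y₁ X₁ P₁ X'₁ : Scheme.{u}}
    (f : X ⟶ Y) (π : X' ⟶ X) (j : X' ⟶ P) (p : P ⟶ Y) (w : j ≫ p = π ≫ f)
    [IsSeparated f] [LocallyOfFiniteType f] [QuasiCompact f] [IsProper π] [Surjective π]
    [IsImmersion j] [IsProper p]
    {b : Y₁ ⟶ Y} {eX : X₁ ⟶ X} {f₁ : X₁ ⟶ Y₁} {eP : P₁ ⟶ P} {p₁ : P₁ ⟶ Y₁}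
    {eX' : X'₁ ⟶ X'} {j₁ : X'₁ ⟶ P₁}
    (hf : IsPullback eX f₁ f b) (hp : IsPullback eP p₁ p b) (hj : IsPullback eX' j₁ j eP) :
    IsProper f₁ ↔ IsClosed (Set.range j₁) := by
  have hw : (eX' ≫ π) ≫ f = (j₁ ≫ p₁) ≫ b := by
    rw [Category.assoc, ← w, ← Category.assoc, hj.w, Category.assoc, hp.w, Category.assoc]
  let π₁ : X'₁ ⟶ X₁ := hf.lift (eX' ≫ π) (j₁ ≫ p₁) hw
  have h1 : π₁ ≫ eX = eX' ≫ π := hf.lift_fst _ _ hw
  have h2 : π₁ ≫ f₁ = j₁ ≫ p₁ := hf.lift_snd _ _ hw
  have hbig : IsPullback eX' (π₁ ≫ f₁) (π ≫ f) b := by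
    rw [h2, ← w]
    exact hj.paste_vert hp
  have hπ : IsPullback eX' π₁ π eX := IsPullback.of_bot hbig h1.symm hf
  have i1 : IsProper π₁ := MorphismProperty.of_isPullback hπ inferInstance
  have i2 : Surjective π₁ := MorphismProperty.of_isPullback hπ inferInstance
  have i3 : IsSeparated f₁ := MorphismProperty.of_isPullback hf inferInstance
  have i4 : LocallyOfFiniteType f₁ := MorphismProperty.of_isPullback hf inferInstance
  have i5 : IsImmersion j₁ := MorphismProperty.of_isPullback hj inferInstance
  have i6 : IsProper p₁ := MorphismProperty.of_isPullback hp inferInstance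
  constructor
  · intro hf₁
    have k1 : IsProper (j₁ ≫ p₁) := by rw [← h2]; infer_instance
    have k2 : IsProper j₁ := IsProper.of_comp j₁ p₁
    exact j₁.isClosedMap.isClosed_range
  · intro hcl
    have k1 : IsClosedImmersion j₁ := IsClosedImmersion.of_isPreimmersion _ hcl
    have k2 : UniversallyClosed (π₁ ≫ f₁) := by rw [h2]; infer_instance
    have k3 : UniversallyClosed f₁ := UniversallyClosed.of_comp_surjective π₁ f₁
    exact {}

theorem isProper_iff_of_locallyOfFiniteType {X Y : Scheme.{u}} (f : X ⟶ Y)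
    [LocallyOfFiniteType f] : IsProper f ↔ IsSeparated f ∧ UniversallyClosed f := by
  constructor
  · intro h
    exact ⟨inferInstance, inferInstance⟩
  · rintro ⟨h1, h2⟩
    exact {}

theorem isFieldStableMor_isProper :
    ConsProp.IsFieldStableMor.{u} (fun _ _ _ f _ => IsProper f) := by
  intro X X' Y Y' T T' f g f' g' eX eY h _ _ _ _ _ _ _ _ hY hX
  have : IsLocallyNoetherian T := isLocallyNoetherian_of_subsingleton T
  have : IsLocallyNoetherian T' := isLocallyNoetherian_of_subsingleton T'
  have i1 : LocallyOfFiniteType g' := MorphismProperty.of_isPullback hY ‹_›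
  have hXY : IsPullback eX (f' ≫ g') (f ≫ g) h := hX.paste_vert hY
  have i3 : LocallyOfFiniteType (f' ≫ g') := MorphismProperty.of_isPullback hXY ‹_›
  have i5 : LocallyOfFiniteType f := locallyOfFiniteType_of_comp f g
  have i6 : LocallyOfFiniteType f' := locallyOfFiniteType_of_comp f' g'
  change IsProper f ↔ IsProper f'
  rw [isProper_iff_of_locallyOfFiniteType f, isProper_iff_of_locallyOfFiniteType f']
  exact and_congr (isFieldStableMor_isSeparated f g f' g' eX eY h hY hX)
    (isFieldStableMor_of_descendsAlong @UniversallyClosed f g f' g' eX eY h hY hX)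

theorem proper_core ⦃X Y S : Scheme.{u}⦄ (f : X ⟶ Y) (g : Y ⟶ S) [IsIntegral S] [IsNoetherian S]
    [IsAffine S] [IsAffine Y] [LocallyOfFiniteType g] [QuasiCompact g]
    [LocallyOfFiniteType (f ≫ g)] [QuasiCompact (f ≫ g)]
    (hQ : IsSeparated f) :
    (interior (ConsProp.locusMor (fun _ _ _ f _ => IsProper f) f g)).Nonempty ∨
      (interior (ConsProp.locusMor (fun _ _ _ f _ => IsProper f) f g)ᶜ).Nonempty := by
  have : IsLocallyNoetherian Y := LocallyOfFiniteType.isLocallyNoetherian g
  have : IsNoetherian Y := {}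
  have : LocallyOfFiniteType f := locallyOfFiniteType_of_comp f g
  have : QuasiCompact f := QuasiCompact.of_comp f g
  obtain ⟨n, X', π, j, hj, hw, hπ, hπs, -⟩ := Groth.Agent.S0025.result f
  let p : CohB1.ProjSpaceOver n Y ⟶ Y := CohB1.ProjSpaceOver.toBase n Y
  have hp : IsProper p := Groth.Agent.Lib.Helper17.ProjSpaceProper.isProper_toBase n Y
  have a1 : LocallyOfFiniteType (p ≫ g) := inferInstance
  have a2 : QuasiCompact (p ≫ g) := inferInstance
  have e0 : j ≫ p ≫ g = π ≫ f ≫ g := by rw [← Category.assoc, hw, Category.assoc]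
  have a3 : LocallyOfFiniteType (j ≫ p ≫ g) := by rw [e0]; infer_instance
  have a4 : QuasiCompact (j ≫ p ≫ g) := by rw [e0]; infer_instance
  have e : ConsProp.locusMor (fun _ _ _ f _ => IsProper f) f g =
      ConsProp.locusMor (fun _ _ _ f _ => IsClosed (Set.range f)) j (p ≫ g) := by
    ext s
    exact isProper_iff_isClosed_range_of_chow f π j p hw
      (isPullback_fibreMap_fst f g (S.fromSpecResidueField s))
      (isPullback_fibreMap_fst p g (S.fromSpecResidueField s))
      (isPullback_fibreMap_fst j (p ≫ g) (S.fromSpecResidueField s))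
  rw [e]
  exact isConsMor_isClosed_range.2 j (p ≫ g)

/-- Being proper is a constructible property of morphisms of algebraic schemes. -/
theorem isConsMor_isProper : ConsProp.IsConsMor.{u} (fun _ _ _ f _ => IsProper f) := by
  refine isConsMor_of_affine_core @IsProper @IsSeparated
    isFieldStableMor_isProper isConsMor_isSeparated descends_isSeparated ?_ proper_core
  intro X Y f hf
  exact inferInstance

end Groth.Agent.Lib.Helper14.ConsProper
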