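import Groth.Agent.Lib.Helper14.SmoothFibreRelScheme
import Groth.Agent.Lib.Helper14.UnramBaseChange
import Groth.Agent.Lib.Helper21.OfComp

/-!
# Deforming properties of morphisms along thickenings of the base

Setting: a thickening `iS : S ⟶ S'` (a surjective closed immersion), a morphism `f' : X' ⟶ Y'`
of `S'`-schemes with `X'` flat and locally of finite presentation over `S'` and `Y'` locally of
finite type over `S'`, and its base change `f : X ⟶ Y` to `S`.  Then `f'` is smooth / étale /
an open immersion / an isomorphism as soon as `f` is.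
-/

set_option autoImplicit false
universe u
open CategoryTheory CategoryTheory.Limits AlgebraicGeometry TopologicalSpace

namespace Groth.Agent.Lib.Helper14

section Deform

variable {X X' Y Y' S S' : Scheme.{u}} {iX : X ⟶ X'} {iY : Y ⟶ Y'} {iS : S ⟶ S'}
  {f : X ⟶ Y} {f' : X' ⟶ Y'} {g : Y ⟶ S} {g' : Y' ⟶ S'}

theorem isPullback_of_deform (hcX : IsPullback iX (f ≫ g) (f' ≫ g') iS)
    (hcY : IsPullback iY g g' iS) (w : iX ≫ f' = f ≫ iY) : IsPullback iX f f' iY :=
  (IsPullback.of_right hcX.flip w.symm hcY.flip).flip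

theorem exists_preimage_of_deform [Surjective iS] (hcX : IsPullback iX (f ≫ g) (f' ≫ g') iS)
    (x' : X') : ∃ x : X, iX x = x' := by
  obtain ⟨s, hs⟩ := iS.surjective ((f' ≫ g') x')
  obtain ⟨x, hx1, -⟩ := Scheme.exists_preimage_of_isPullback hcX x' s hs.symm
  exact ⟨x, hx1⟩

set_option backward.isDefEq.respectTransparency.types false in
theorem smooth_of_deform [Surjective iS] (hcX : IsPullback iX (f ≫ g) (f' ≫ g') iS)
    (hcY : IsPullback iY g g' iS) (w : iX ≫ f' = f ≫ iY) [Flat (f' ≫ g')]
    [LocallyOfFinitePresentation (f' ≫ g')] [LocallyOfFiniteType g'] (hf : Smooth f) :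
    Smooth f' := by
  have hlfp' : LocallyOfFinitePresentation f' :=
    Groth.Agent.Lib.Helper21.locallyOfFinitePresentation_of_comp_of_locallyOfFiniteType f' g'
  have H := isPullback_of_deform hcX hcY w
  rw [← Scheme.Hom.smoothLocus_eq_top_iff]
  refine eq_top_iff.mpr fun x' _ => ?_
  obtain ⟨s, hs⟩ := iS.surjective ((f' ≫ g') x')
  obtain ⟨x, hx1, hx2⟩ := Scheme.exists_preimage_of_isPullback hcX x' s hs.symm
  have HY0 : IsPullback (g.fiberι s) (g.fiberToSpecResidueField s) g
      (S.fromSpecResidueField s) := IsPullback.of_hasPullback _ _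
  have HY : IsPullback (g.fiberι s ≫ iY) (g.fiberToSpecResidueField s) g'
      (S.fromSpecResidueField s ≫ iS) := HY0.paste_horiz hcY
  have HX0 : IsPullback (pullback.fst f (g.fiberι s)) (pullback.snd f (g.fiberι s))
      f (g.fiberι s) := IsPullback.of_hasPullback _ _
  have HX : IsPullback (pullback.fst f (g.fiberι s) ≫ iX) (pullback.snd f (g.fiberι s))
      f' (g.fiberι s ≫ iY) := HX0.paste_horiz H
  have hmem : f x ∈ Set.range (g.fiberι s) := by
    rw [Scheme.Hom.range_fiberι]
    exact hx2
  obtain ⟨y', hy'⟩ := hmem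
  obtain ⟨xK, hxK, -⟩ := Scheme.Pullback.exists_preimage_pullback (f := f)
    (g := g.fiberι s) x y' hy'.symm
  have hxK' : (pullback.fst f (g.fiberι s) ≫ iX) xK = x' := by
    rw [Scheme.Hom.comp_apply, hxK, hx1]
  exact mem_smoothLocus_of_isPullback_field_rel
    (K := S.residueField s) (Field.toIsField _) HY HX xK x' hxK'
    (Flat.stalkMap (f' ≫ g') x')
    (by rw [Scheme.Hom.smoothLocus_eq_top]; trivial)

set_option backward.isDefEq.respectTransparency.types false in
theorem etale_of_deform [Surjective iS] (hcX : IsPullback iX (f ≫ g) (f' ≫ g') iS)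
    (hcY : IsPullback iY g g' iS) (w : iX ≫ f' = f ≫ iY) [Flat (f' ≫ g')]
    [LocallyOfFinitePresentation (f' ≫ g')] [LocallyOfFiniteType g'] (hf : Etale f) :
    Etale f' := by
  have hlfp' : LocallyOfFinitePresentation f' :=
    Groth.Agent.Lib.Helper21.locallyOfFinitePresentation_of_comp_of_locallyOfFiniteType f' g'
  have H := isPullback_of_deform hcX hcY w
  have hsm : Smooth f' := smooth_of_deform hcX hcY w inferInstance
  have hfl : Flat f' := inferInstance
  have hunr : FormallyUnramified f' := by
    have key : ∀ x' : X', ∃ V : X'.Opens, x' ∈ V ∧ FormallyUnramified (V.ι ≫ f') := by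
      intro x'
      rw [exists_formallyUnramified_nhd_iff_stalkMap]
      obtain ⟨x, hx⟩ := exists_preimage_of_deform hcX x'
      rw [← hx]
      exact (formallyUnramified_stalkMap_iff_of_isPullback H x).mp
        (FormallyUnramified.stalkMap f x)
    choose V hxV hV using key
    have : IsZariskiLocalAtSource @FormallyUnramified :=
      HasRingHomProperty.instIsZariskiLocalAtSource (P := @FormallyUnramified)
        (Q := RingHom.FormallyUnramified)
    exact IsZariskiLocalAtSource.of_iSup_eq_top V
      (eq_top_iff.mpr fun x _ => TopologicalSpace.Opens.mem_iSup.mpr ⟨x, hxV x⟩) hV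
  exact Etale.of_formallyUnramified_of_flat f'

/-- A morphism from the spectrum of a field to the target of a thickening factors through the
thickening. -/
theorem exists_lift_of_thickening_of_field [IsClosedImmersion iS] [Surjective iS]
    {K : Type u} [Field K] (φ : Spec (.of K) ⟶ S') : ∃ c : Spec (.of K) ⟶ S, c ≫ iS = φ := by
  have h1 : IsIso (pullback.fst φ iS) := isIso_of_isClosedImmersion_of_surjective _
  refine ⟨inv (pullback.fst φ iS) ≫ pullback.snd φ iS, ?_⟩
  rw [Category.assoc, ← pullback.condition, IsIso.inv_hom_id_assoc]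

set_option backward.isDefEq.respectTransparency.types false in
theorem isOpenImmersion_of_deform [IsClosedImmersion iS] [Surjective iS]
    (hcX : IsPullback iX (f ≫ g) (f' ≫ g') iS)
    (hcY : IsPullback iY g g' iS) (w : iX ≫ f' = f ≫ iY) [Flat (f' ≫ g')]
    [LocallyOfFinitePresentation (f' ≫ g')] [LocallyOfFiniteType g'] (hf : IsOpenImmersion f) :
    IsOpenImmersion f' := by
  have hlfp' : LocallyOfFinitePresentation f' :=
    Groth.Agent.Lib.Helper21.locallyOfFinitePresentation_of_comp_of_locallyOfFiniteType f' g'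
  have het : Etale f' := etale_of_deform hcX hcY w inferInstance
  have hfl : Flat f' := inferInstance
  have huinj : UniversallyInjective f' := by
    refine ((tfae_universallyInjective f').out 0 1).mpr ?_
    intro K _ g₁ g₂ hg
    replace hg : g₁ ≫ f' = g₂ ≫ f' := hg
    obtain ⟨c, hc⟩ := exists_lift_of_thickening_of_field (iS := iS) (g₁ ≫ f' ≫ g')
    let a₁ : Spec (.of K) ⟶ X := hcX.lift g₁ c hc.symm
    let a₂ : Spec (.of K) ⟶ X := hcX.lift g₂ c (by
      rw [hc, ← Category.assoc, ← hg, Category.assoc])
    have h1 : a₁ ≫ f = a₂ ≫ f := by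
      apply hcY.hom_ext
      · rw [Category.assoc, Category.assoc, ← w, ← Category.assoc, ← Category.assoc,
          hcX.lift_fst, hcX.lift_fst, hg]
      · rw [Category.assoc, Category.assoc, hcX.lift_snd, hcX.lift_snd]
    have h12 : a₁ = a₂ := (cancel_mono f).mp h1
    calc g₁ = a₁ ≫ iX := (hcX.lift_fst _ _ _).symm
      _ = a₂ ≫ iX := by rw [h12]
      _ = g₂ := hcX.lift_fst _ _ _
  have hsurj : Surjective (pullback.diagonal f') :=
    (UniversallyInjective.iff_diagonal f').mp huinj
  have hopen : IsOpenImmersion (pullback.diagonal f') := inferInstance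
  have hiso : IsIso (pullback.diagonal f') :=
    (isIso_iff_isOpenImmersion_and_epi_base _).mpr
      ⟨hopen, (TopCat.epi_iff_surjective _).mpr hsurj.surj⟩
  have hmono : Mono f' := (pullback.isIso_diagonal_iff f').mp hiso
  exact IsOpenImmersion.of_flat_of_mono f'

theorem isIso_of_deform [IsClosedImmersion iS] [Surjective iS]
    (hcX : IsPullback iX (f ≫ g) (f' ≫ g') iS)
    (hcY : IsPullback iY g g' iS) (w : iX ≫ f' = f ≫ iY) [Flat (f' ≫ g')]
    [LocallyOfFinitePresentation (f' ≫ g')] [LocallyOfFiniteType g'] (hf : IsIso f) :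
    IsIso f' := by
  have hoi : IsOpenImmersion f' := isOpenImmersion_of_deform hcX hcY w inferInstance
  refine (isIso_iff_isOpenImmersion_and_epi_base f').mpr
    ⟨hoi, (TopCat.epi_iff_surjective _).mpr ?_⟩
  intro y'
  obtain ⟨s, hs⟩ := iS.surjective (g' y')
  obtain ⟨y, hy1, -⟩ := Scheme.exists_preimage_of_isPullback hcY y' s hs.symm
  obtain ⟨x, hx⟩ := f.surjective y
  refine ⟨iX x, ?_⟩
  have h1 : (iX ≫ f') x = (f ≫ iY) x := by rw [w]
  rw [Scheme.Hom.comp_apply, Scheme.Hom.comp_apply, hx, hy1] at h1
  exact h1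

end Deform

end Groth.Agent.Lib.Helper14
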