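import Groth.Prelude.Def_DiffOp
import Mathlib

set_option autoImplicit false
universe u v
open scoped TensorProduct

namespace Groth.Agent.Lib.Helper14

open Diff16

section
variable {A B : Type u} [CommRing A] [CommRing B] [Algebra A B]
variable {M N : Type v} [AddCommGroup M] [Module A M] [Module B M] [IsScalarTower A B M]
  [AddCommGroup N] [Module A N] [Module B N] [IsScalarTower A B N]

theorem commutator_apply (D : M →ₗ[A] N) (b : B) (m : M) :
    commutator A B M N D b m = D (b • m) - b • D m := by
  simp [Diff16.commutator]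

theorem isDiffOpLE_zero_iff (D : M →ₗ[A] N) :
    IsDiffOpLE A B M N 0 D ↔ ∀ (b : B) (m : M), D (b • m) = b • D m := Iff.rfl

theorem isDiffOpLE_succ_iff (n : ℕ) (D : M →ₗ[A] N) :
    IsDiffOpLE A B M N (n + 1) D ↔ ∀ b : B, IsDiffOpLE A B M N n (commutator A B M N D b) :=
  Iff.rfl

theorem commutator_zero (b : B) : commutator A B M N 0 b = 0 := by
  ext m; simp [commutator_apply]

theorem commutator_add (D D' : M →ₗ[A] N) (b : B) :
    commutator A B M N (D + D') b = commutator A B M N D b + commutator A B M N D' b := by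
  ext m; simp [commutator_apply]; abel

theorem commutator_neg (D : M →ₗ[A] N) (b : B) :
    commutator A B M N (-D) b = - commutator A B M N D b := by
  ext m; simp [commutator_apply]; abel

theorem commutator_eq_zero_of_isDiffOpLE_zero (D : M →ₗ[A] N) (h : IsDiffOpLE A B M N 0 D) (b : B) :
    commutator A B M N D b = 0 := by
  ext m
  rw [commutator_apply, (isDiffOpLE_zero_iff D).mp h b m, sub_self]
  rfl

theorem isDiffOpLE_zero_map (n : ℕ) : IsDiffOpLE A B M N n (0 : M →ₗ[A] N) := by
  induction n with
  | zero => intro b m; simp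
  | succ n ih => intro b; rw [commutator_zero]; exact ih

theorem isDiffOpLE_add {n : ℕ} : ∀ {D D' : M →ₗ[A] N}, IsDiffOpLE A B M N n D →
    IsDiffOpLE A B M N n D' → IsDiffOpLE A B M N n (D + D') := by
  induction n with
  | zero =>
    intro D D' h h' b m
    simp [(isDiffOpLE_zero_iff D).mp h b m, (isDiffOpLE_zero_iff D').mp h' b m]
  | succ n ih =>
    intro D D' h h' b
    rw [commutator_add]
    exact ih (h b) (h' b)

theorem isDiffOpLE_neg {n : ℕ} : ∀ {D : M →ₗ[A] N}, IsDiffOpLE A B M N n D →
    IsDiffOpLE A B M N n (-D) := by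
  induction n with
  | zero =>
    intro D h b m
    simp [(isDiffOpLE_zero_iff D).mp h b m]
  | succ n ih =>
    intro D h b
    rw [commutator_neg]
    exact ih (h b)

theorem isDiffOpLE_sub {n : ℕ} {D D' : M →ₗ[A] N} (h : IsDiffOpLE A B M N n D)
    (h' : IsDiffOpLE A B M N n D') : IsDiffOpLE A B M N n (D - D') := by
  rw [sub_eq_add_neg]; exact isDiffOpLE_add h (isDiffOpLE_neg h')

theorem isDiffOpLE_succ {n : ℕ} : ∀ {D : M →ₗ[A] N}, IsDiffOpLE A B M N n D →
    IsDiffOpLE A B M N (n + 1) D := by
  induction n with
  | zero =>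
    intro D h b
    rw [commutator_eq_zero_of_isDiffOpLE_zero D h b]
    exact isDiffOpLE_zero_map 0
  | succ n ih =>
    intro D h b
    exact ih (h b)

theorem isDiffOpLE_mono {n m : ℕ} (hnm : n ≤ m) {D : M →ₗ[A] N} (h : IsDiffOpLE A B M N n D) :
    IsDiffOpLE A B M N m D := by
  induction hnm with
  | refl => exact h
  | step _ ih => exact isDiffOpLE_succ ih

end

section comp
variable {A B : Type u} [CommRing A] [CommRing B] [Algebra A B]
variable {M N P : Type v} [AddCommGroup M] [Module A M] [Module B M] [IsScalarTower A B M]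
  [AddCommGroup N] [Module A N] [Module B N] [IsScalarTower A B N]
  [AddCommGroup P] [Module A P] [Module B P] [IsScalarTower A B P]

theorem commutator_comp (D : M →ₗ[A] N) (D' : N →ₗ[A] P) (b : B) :
    commutator A B M P (D' ∘ₗ D) b =
      D' ∘ₗ commutator A B M N D b + commutator A B N P D' b ∘ₗ D := by
  ext m
  simp [commutator_apply]

theorem isDiffOpLE_comp_aux (k : ℕ) : ∀ (n n' : ℕ), n + n' = k → ∀ (D : M →ₗ[A] N) (D' : N →ₗ[A] P),
    IsDiffOpLE A B M N n D → IsDiffOpLE A B N P n' D' → IsDiffOpLE A B M P k (D' ∘ₗ D) := by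
  induction k with
  | zero =>
    intro n n' hk D D' hD hD'
    obtain ⟨rfl, rfl⟩ : n = 0 ∧ n' = 0 := by omega
    intro b m
    simp [(isDiffOpLE_zero_iff D).mp hD b m, (isDiffOpLE_zero_iff D').mp hD' b (D m)]
  | succ k ih =>
    intro n n' hk D D' hD hD' b
    rw [commutator_comp]
    refine isDiffOpLE_add ?_ ?_
    · cases n with
      | zero =>
        rw [commutator_eq_zero_of_isDiffOpLE_zero D hD b, LinearMap.comp_zero]
        exact isDiffOpLE_zero_map k
      | succ n =>
        exact ih n n' (by omega) _ _ (hD b) hD'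
    · cases n' with
      | zero =>
        rw [commutator_eq_zero_of_isDiffOpLE_zero D' hD' b, LinearMap.zero_comp]
        exact isDiffOpLE_zero_map k
      | succ n' =>
        exact ih n n' (by omega) _ _ hD (hD' b)

theorem isDiffOpLE_comp {n n' : ℕ} {D : M →ₗ[A] N} {D' : N →ₗ[A] P}
    (hD : IsDiffOpLE A B M N n D) (hD' : IsDiffOpLE A B N P n' D') :
    IsDiffOpLE A B M P (n + n') (D' ∘ₗ D) :=
  isDiffOpLE_comp_aux (n + n') n n' rfl D D' hD hD'

end comp

end Groth.Agent.Lib.Helper14

namespace Groth.Agent.Lib.Helper14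

open Diff16

section generators
variable {A B : Type u} [CommRing A] [CommRing B] [Algebra A B]
variable {M N : Type v} [AddCommGroup M] [Module A M] [Module B M] [IsScalarTower A B M]
  [AddCommGroup N] [Module A N] [Module B N] [IsScalarTower A B N]

/-- multiplication by `b`, as an `A`-linear map -/
noncomputable def mulLeft (A : Type u) {B : Type u} [CommRing A] [CommRing B] [Algebra A B]
    (M : Type v) [AddCommGroup M] [Module A M] [Module B M] [IsScalarTower A B M] (b : B) :
    M →ₗ[A] M :=
  (LinearMap.lsmul B M b).restrictScalars A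

@[simp] theorem mulLeft_apply (b : B) (m : M) : mulLeft A M b m = b • m := rfl

theorem isDiffOpLE_mulLeft (b : B) : IsDiffOpLE A B M M 0 (mulLeft A M b) := by
  intro c m
  simp [smul_smul, mul_comm]

theorem commutator_algebraMap (D : M →ₗ[A] N) (a : A) :
    commutator A B M N D (algebraMap A B a) = 0 := by
  ext m
  rw [commutator_apply, algebraMap_smul, algebraMap_smul, map_smul, sub_self]
  rfl

theorem commutator_add_right (D : M →ₗ[A] N) (b b' : B) :
    commutator A B M N D (b + b') = commutator A B M N D b + commutator A B M N D b' := by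
  ext m
  simp [commutator_apply, add_smul]
  abel

theorem commutator_mul_right (D : M →ₗ[A] N) (b b' : B) :
    commutator A B M N D (b * b') =
      commutator A B M N D b ∘ₗ mulLeft A M b' + mulLeft A N b ∘ₗ commutator A B M N D b' := by
  ext m
  simp [commutator_apply, mul_smul, smul_sub]

/-- If the commutators of `D` with a generating set have order `≤ n`, then `D` has order `≤ n+1`. -/
theorem isDiffOpLE_succ_of_generators (s : Set B) (hs : Algebra.adjoin A s = ⊤) (n : ℕ)
    (D : M →ₗ[A] N) (hD : ∀ g ∈ s, IsDiffOpLE A B M N n (commutator A B M N D g)) :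
    IsDiffOpLE A B M N (n + 1) D := by
  intro b
  have hb : b ∈ Algebra.adjoin A s := by rw [hs]; trivial
  induction hb using Algebra.adjoin_induction with
  | mem x hx => exact hD x hx
  | algebraMap r => rw [commutator_algebraMap]; exact isDiffOpLE_zero_map n
  | add x y _ _ hx hy => rw [commutator_add_right]; exact isDiffOpLE_add hx hy
  | mul x y _ _ hx hy =>
    rw [commutator_mul_right]
    refine isDiffOpLE_add ?_ ?_
    · have := isDiffOpLE_comp (isDiffOpLE_mulLeft (A := A) (M := M) y) hx
      rwa [zero_add] at this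
    · have := isDiffOpLE_comp hy (isDiffOpLE_mulLeft (A := A) (M := N) x)
      rwa [add_zero] at this

end generators

end Groth.Agent.Lib.Helper14
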