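import Groth.Agent.Lib.Helper14.DiffOpLin
import Groth.Agent.S3815

/-!
# Differential operators and formally unramified / étale base change
-/

set_option linter.style.haveILetI false
set_option autoImplicit false
universe u v
open scoped TensorProduct

namespace Groth.Agent.Lib.Helper14

open Diff16

section base
variable {R S B : Type u} [CommRing R] [CommRing S] [CommRing B] [Algebra R B] [Algebra S B]
variable {M N : Type v} [AddCommGroup M] [Module R M] [Module S M] [Module B M]
  [IsScalarTower R B M] [IsScalarTower S B M]
  [AddCommGroup N] [Module R N] [Module S N] [Module B N] [IsScalarTower R B N]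
  [IsScalarTower S B N]

/-- the order of a differential operator does not depend on the base ring over which it is linear -/
theorem isDiffOpLE_changeBase (n : ℕ) : ∀ (E : M →ₗ[R] N) (E' : M →ₗ[S] N),
    (∀ x, E' x = E x) → IsDiffOpLE R B M N n E → IsDiffOpLE S B M N n E' := by
  induction n with
  | zero =>
    intro E E' heq h
    rw [isDiffOpLE_zero_iff] at h ⊢
    intro b m
    rw [heq, heq, h]
  | succ n ih =>
    intro E E' heq h
    rw [isDiffOpLE_succ_iff] at h ⊢
    intro b
    refine ih (commutator R B M N E b) _ (fun x => ?_) (h b)
    rw [commutator_apply, commutator_apply, heq, heq]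

end base

section unram
variable {S B : Type u} [CommRing S] [CommRing B] [Algebra S B] [Algebra.FormallyUnramified S B]
variable {N : Type u} [AddCommGroup N] [Module S N] [Module B N] [IsScalarTower S B N]

/-- over a formally unramified algebra every differential operator `B → N` is `B`-linear -/
theorem isDiffOpLE_zero_of_formallyUnramified (n : ℕ) (E : B →ₗ[S] N)
    (h : IsDiffOpLE S B B N n E) : IsDiffOpLE S B B N 0 E := by
  rw [isDiffOpLE_iff_linearize_vanish] at h ⊢
  have hsub : Subsingleton (KaehlerDifferential.ideal S B).Cotangent :=
    (inferInstance : Subsingleton (KaehlerDifferential S B))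
  have hid : IsIdempotentElem (KaehlerDifferential.ideal S B) :=
    (Ideal.cotangent_subsingleton_iff (I := KaehlerDifferential.ideal S B)).mp hsub
  have hpow : (KaehlerDifferential.ideal S B) ^ (n + 1) = (KaehlerDifferential.ideal S B) ^ (0 + 1) := by
    rw [hid.pow_succ_eq, zero_add, pow_one]
  rwa [hpow] at h

end unram

section U
variable {R S B : Type u} [CommRing R] [CommRing S] [CommRing B] [Algebra R B] [Algebra S B]
  [Algebra.FormallyUnramified S B]

/-- an operator `B → N` of finite order over `R` commuting with `S` is `B`-linear, if `B` is formally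
unramified over `S` -/
theorem isDiffOpLE_zero_of_commute {N : Type u} [AddCommGroup N] [Module R N] [Module B N]
    [IsScalarTower R B N] (n : ℕ) (E : B →ₗ[R] N) (h : IsDiffOpLE R B B N n E)
    (hS : ∀ (s : S) (b : B), E (algebraMap S B s * b) = algebraMap S B s • E b) :
    IsDiffOpLE R B B N 0 E := by
  letI : Module S N := Module.compHom N (algebraMap S B)
  haveI : IsScalarTower S B N := ⟨fun s b x => by
    change (s • b) • x = algebraMap S B s • (b • x)
    rw [Algebra.smul_def, mul_smul]⟩
  let E' : B →ₗ[S] N :=
    { toFun := E
      map_add' := E.map_add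
      map_smul' := fun s b => by
        change E (s • b) = algebraMap S B s • E b
        rw [Algebra.smul_def, hS] }
  have h1 : IsDiffOpLE S B B N n E' := isDiffOpLE_changeBase n E E' (fun _ => rfl) h
  have h2 := isDiffOpLE_zero_of_formallyUnramified n E' h1
  rw [isDiffOpLE_zero_iff] at h2 ⊢
  exact h2

/-- **Uniqueness of extensions**: a differential operator over `R → B` which vanishes on a set of
`B`-generators stable under `S`, with `B` formally unramified over `S`, is zero. -/
theorem eq_zero_of_isDiffOpLE_of_vanish {M' N' : Type u} [AddCommGroup M'] [Module R M']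
    [Module B M'] [IsScalarTower R B M'] [AddCommGroup N'] [Module R N'] [Module B N']
    [IsScalarTower R B N'] (G : Set M')
    (hGS : ∀ (s : S) (x : M'), x ∈ G → algebraMap S B s • x ∈ G)
    (hgen : Submodule.span B G = ⊤) (k : ℕ) :
    ∀ (E : M' →ₗ[R] N'), IsDiffOpLE R B M' N' k E → (∀ x ∈ G, E x = 0) → E = 0 := by
  induction k with
  | zero =>
    intro E hE hG
    rw [isDiffOpLE_zero_iff] at hE
    ext y
    have hy : y ∈ Submodule.span B G := by rw [hgen]; trivial
    rw [LinearMap.zero_apply]
    induction hy using Submodule.span_induction with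
    | mem x hx => exact hG x hx
    | zero => exact map_zero E
    | add x y _ _ hx hy => rw [map_add, hx, hy, add_zero]
    | smul b x _ hx => rw [hE, hx, smul_zero]
  | succ k ih =>
    intro E hE hG
    have hcomm : ∀ (s : S) (x : M'), E (algebraMap S B s • x) = algebraMap S B s • E x := by
      intro s x
      have h0 : commutator R B M' N' E (algebraMap S B s) = 0 := by
        refine ih _ ((isDiffOpLE_succ_iff k E).mp hE _) fun x hx => ?_
        rw [commutator_apply, hG x hx, hG _ (hGS s x hx), smul_zero, sub_zero]
      have := congrArg (fun f : M' →ₗ[R] N' => f x) h0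
      simp only [commutator_apply, LinearMap.zero_apply, sub_eq_zero] at this
      exact this
    have key : ∀ (b : B) (x : M'), x ∈ G → E (b • x) = 0 := by
      intro b x hx
      have h1 : IsDiffOpLE R B B N' (k + 1) (Groth.Agent.S3815.atPt E x) :=
        Groth.Agent.S3815.isDiffOpLE_atPt (k + 1) E hE x
      have h2 := isDiffOpLE_zero_of_commute (S := S) (k + 1) (Groth.Agent.S3815.atPt E x) h1
        (fun s b => by
          rw [Groth.Agent.S3815.atPt_apply, Groth.Agent.S3815.atPt_apply, mul_smul, hcomm])
      rw [isDiffOpLE_zero_iff] at h2
      have h3 := h2 b 1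
      rw [Groth.Agent.S3815.atPt_apply, Groth.Agent.S3815.atPt_apply, smul_eq_mul, mul_one,
        one_smul, hG x hx, smul_zero] at h3
      exact h3
    ext y
    have hy : y ∈ Submodule.span B G := by rw [hgen]; trivial
    rw [LinearMap.zero_apply]
    induction hy using Submodule.closure_induction with
    | zero => exact map_zero E
    | add x y _ _ hx hy => rw [map_add, hx, hy, add_zero]
    | smul_mem b x hx => exact key b x hx

end U

section restrict
variable {R S B : Type u} [CommRing R] [CommRing S] [CommRing B] [Algebra R S] [Algebra R B]
  [Algebra S B]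
variable {M M' N' : Type v} [AddCommGroup M] [Module R M] [Module S M] [IsScalarTower R S M]
  [AddCommGroup M'] [Module R M'] [Module B M'] [IsScalarTower R B M']
  [AddCommGroup N'] [Module R N'] [Module B N'] [IsScalarTower R B N'] [Module S N']
  [IsScalarTower S B N'] [IsScalarTower R S N']

/-- restricting a differential operator over `R → B` along an `S`-semilinear map gives a
differential operator over `R → S` -/
theorem isDiffOpLE_comp_semilinear (j : M →ₗ[R] M')
    (hj : ∀ (s : S) (m : M), j (s • m) = algebraMap S B s • j m) (k : ℕ) :
    ∀ (E : M' →ₗ[R] N'), IsDiffOpLE R B M' N' k E → IsDiffOpLE R S M N' k (E ∘ₗ j) := by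
  induction k with
  | zero =>
    intro E hE
    rw [isDiffOpLE_zero_iff] at hE ⊢
    intro s m
    rw [LinearMap.comp_apply, LinearMap.comp_apply, hj, hE]
    exact algebraMap_smul B s (E (j m))
  | succ k ih =>
    intro E hE
    rw [isDiffOpLE_succ_iff] at hE ⊢
    intro s
    have : commutator R S M N' (E ∘ₗ j) s = (commutator R B M' N' E (algebraMap S B s)) ∘ₗ j := by
      ext m
      rw [commutator_apply, LinearMap.comp_apply, LinearMap.comp_apply, LinearMap.comp_apply,
        commutator_apply, hj, algebraMap_smul B s (E (j m))]
    rw [this]
    exact ih _ (hE _)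

end restrict

end Groth.Agent.Lib.Helper14
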