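import Groth.Agent.Lib.Helper14.DiffOpEtale

/-!
# Extension of differential operators along formally étale ring maps (existence)
-/

set_option autoImplicit false
set_option linter.style.haveILetI false
set_option linter.unusedSectionVars false
universe u
open scoped TensorProduct

namespace Groth.Agent.Lib.Helper14

open Diff16

theorem exists_ringHom_lift_of_formallySmooth_of_nilpotent
    (P B S : Type u) [CommRing P] [CommRing B] [CommRing S] [Algebra P B]
    [Algebra.FormallySmooth P B]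
    (I : Ideal S) (hI : IsNilpotent I) (ψ : P →+* S) (c : B →+* S)
    (hc : ∀ r : P, c (algebraMap P B r) - ψ r ∈ I) :
    ∃ δ : B →+* S, (∀ r : P, δ (algebraMap P B r) = ψ r) ∧ ∀ b : B, δ b - c b ∈ I := by
  letI : Algebra P S := ψ.toAlgebra
  let f : B →ₐ[P] S ⧸ I :=
    { toRingHom := (Ideal.Quotient.mk I).comp c
      commutes' := fun r => by
        change Ideal.Quotient.mk I (c (algebraMap P B r)) = algebraMap P (S ⧸ I) r
        rw [IsScalarTower.algebraMap_apply P S (S ⧸ I), Ideal.Quotient.algebraMap_eq,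
          RingHom.algebraMap_toAlgebra]
        exact Ideal.Quotient.eq.mpr (hc r) }
  obtain ⟨g, hg⟩ := Algebra.FormallySmooth.exists_lift I hI f
  refine ⟨g.toRingHom, fun r => ?_, fun b => ?_⟩
  · have := g.commutes r
    rwa [RingHom.algebraMap_toAlgebra] at this
  · have := congrArg (fun h : B →ₐ[P] S ⧸ I => h b) hg
    exact Ideal.Quotient.eq.mp this

section ext
variable {R S S' : Type u} [CommRing R] [CommRing S] [CommRing S'] [Algebra R S] [Algebra R S']
  [Algebra S S'] [IsScalarTower R S S']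
variable {M N : Type u} [AddCommGroup M] [Module S M] [Module R M] [IsScalarTower R S M]
  [AddCommGroup N] [Module S N] [Module R N] [IsScalarTower R S N]

variable (R S S') in
/-- the generator `1 ⊗ a - a ⊗ 1` of the "diagonal ideal" of `S' ⊗[R] S` -/
noncomputable def xi' (a : S) : S' ⊗[R] S :=
  (1 : S') ⊗ₜ[R] a - algebraMap S S' a ⊗ₜ[R] (1 : S)

variable (R S S') in
/-- the "diagonal ideal" of `S' ⊗[R] S` -/
noncomputable def diagIdeal : Ideal (S' ⊗[R] S) := Ideal.span (Set.range (xi' R S S'))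

/-- `(s' ⊗ b, m) ↦ s' ⊗ D (b • m)` -/
noncomputable def PsiE (E : M →ₗ[R] N) : S' ⊗[R] S →ₗ[R] (M →ₗ[R] S' ⊗[S] N) :=
  TensorProduct.lift
    { toFun := fun s' =>
        { toFun := fun b => ((TensorProduct.mk S S' N s').restrictScalars R) ∘ₗ E ∘ₗ
            ((LinearMap.lsmul S M b).restrictScalars R)
          map_add' := fun b b' => by ext m; simp [TensorProduct.tmul_add]
          map_smul' := fun r b => by ext m; simp }
      map_add' := fun a a' => by ext c m; simp
      map_smul' := fun r a => by ext c m; simp [TensorProduct.smul_tmul'] }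

theorem PsiE_tmul (E : M →ₗ[R] N) (s' : S') (b : S) (m : M) :
    PsiE (S' := S') E (s' ⊗ₜ[R] b) m = s' ⊗ₜ[S] E (b • m) := by
  simp [PsiE]

theorem PsiE_left_mul (E : M →ₗ[R] N) (s'' : S') (t : S' ⊗[R] S) (m : M) :
    PsiE E ((s'' ⊗ₜ[R] (1 : S)) * t) m = s'' • PsiE E t m := by
  induction t using TensorProduct.induction_on with
  | zero => simp
  | tmul s' b =>
    rw [Algebra.TensorProduct.tmul_mul_tmul, PsiE_tmul, PsiE_tmul, one_mul,
      TensorProduct.smul_tmul', smul_eq_mul]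
  | add x y hx hy =>
    rw [mul_add, map_add, map_add, LinearMap.add_apply, LinearMap.add_apply, hx, hy, smul_add]

theorem PsiE_right_mul (E : M →ₗ[R] N) (a : S) (t : S' ⊗[R] S) (m : M) :
    PsiE E (t * ((1 : S') ⊗ₜ[R] a)) m = PsiE E t (a • m) := by
  induction t using TensorProduct.induction_on with
  | zero => simp
  | tmul s' b =>
    rw [Algebra.TensorProduct.tmul_mul_tmul, PsiE_tmul, PsiE_tmul, mul_one, mul_smul]
  | add x y hx hy =>
    rw [add_mul, map_add, map_add, LinearMap.add_apply, LinearMap.add_apply, hx, hy]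

theorem PsiE_commutator (E : M →ₗ[R] N) (a : S) (t : S' ⊗[R] S) (m : M) :
    PsiE (S' := S') (Diff16.commutator R S M N E a) t m = PsiE E (xi' R S S' a * t) m := by
  induction t using TensorProduct.induction_on with
  | zero => simp
  | tmul s' b =>
    unfold xi'
    rw [sub_mul, Algebra.TensorProduct.tmul_mul_tmul, Algebra.TensorProduct.tmul_mul_tmul, map_sub,
      LinearMap.sub_apply, PsiE_tmul, PsiE_tmul, PsiE_tmul, commutator_apply, one_mul, one_mul,
      TensorProduct.tmul_sub, mul_smul, ← Algebra.smul_def, TensorProduct.smul_tmul]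
  | add x y hx hy =>
    rw [mul_add, map_add, map_add, LinearMap.add_apply, LinearMap.add_apply, hx, hy]

theorem PsiE_zero (t : S' ⊗[R] S) : PsiE (S' := S') (0 : M →ₗ[R] N) t = 0 := by
  ext m
  induction t using TensorProduct.induction_on with
  | zero => simp
  | tmul s' b => rw [PsiE_tmul]; simp
  | add x y hx hy => rw [map_add, LinearMap.add_apply, hx, hy]; simp

theorem vanish_on_diagIdeal_mul {X : Type*} [AddCommGroup X] [Module R X]
    (L : S' ⊗[R] S →ₗ[R] X) (J : Ideal (S' ⊗[R] S))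
    (h : ∀ (a : S), ∀ y ∈ J, L (xi' R S S' a * y) = 0) :
    ∀ x ∈ diagIdeal R S S' * J, L x = 0 := by
  intro x hx
  have hI : ∀ g ∈ diagIdeal R S S', ∀ y ∈ J, L (g * y) = 0 := by
    intro g hg
    unfold diagIdeal at hg
    induction hg using Submodule.span_induction with
    | mem g hg =>
      obtain ⟨a, rfl⟩ := hg
      exact h a
    | zero => intro y _; simp
    | add g g' _ _ hg hg' =>
      intro y hy
      rw [add_mul, map_add, hg y hy, hg' y hy, add_zero]
    | smul r g _ hg =>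
      intro y hy
      rw [smul_eq_mul, mul_comm r g, mul_assoc]
      exact hg _ (J.mul_mem_left r hy)
  refine Submodule.mul_induction_on hx ?_ ?_
  · intro g hg y hy
    exact hI g hg y hy
  · intro x y hx hy
    rw [map_add, hx, hy, add_zero]

theorem PsiE_vanish (k : ℕ) : ∀ (E : M →ₗ[R] N), IsDiffOpLE R S M N k E →
    ∀ x ∈ (diagIdeal R S S') ^ (k + 1), PsiE (S' := S') E x = 0 := by
  induction k with
  | zero =>
    intro E hE
    rw [zero_add, pow_one, ← Ideal.mul_top (diagIdeal R S S')]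
    refine vanish_on_diagIdeal_mul (X := M →ₗ[R] S' ⊗[S] N) (PsiE (S' := S') E) ⊤ fun a y _ => ?_
    ext m
    rw [← PsiE_commutator, commutator_eq_zero_of_isDiffOpLE_zero E hE a, PsiE_zero]
  | succ k ih =>
    intro E hE
    rw [pow_succ']
    refine vanish_on_diagIdeal_mul (X := M →ₗ[R] S' ⊗[S] N) (PsiE (S' := S') E) _ fun a y hy => ?_
    ext m
    rw [← PsiE_commutator, ih _ ((isDiffOpLE_succ_iff k E).mp hE a) y hy]

variable (R S S') in
/-- the ring `(S' ⊗[R] S) / I'^(k+1)` -/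
abbrev QQ (k : ℕ) : Type u := (S' ⊗[R] S) ⧸ (diagIdeal R S S') ^ (k + 1)

/-- `PsiE` descended to the quotient by the restricted submodule -/
noncomputable def PhiE0 (k : ℕ) (E : M →ₗ[R] N) (hE : IsDiffOpLE R S M N k E) :
    ((S' ⊗[R] S) ⧸ ((diagIdeal R S S') ^ (k + 1)).restrictScalars R) →ₗ[R]
      (M →ₗ[R] S' ⊗[S] N) :=
  Submodule.liftQ (R := R) (R₂ := R) (M := S' ⊗[R] S) (M₂ := M →ₗ[R] S' ⊗[S] N)
    (τ₁₂ := RingHom.id R) (((diagIdeal R S S') ^ (k + 1)).restrictScalars R) (PsiE E)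
    (fun x hx => LinearMap.mem_ker.mpr (PsiE_vanish k E hE x hx))

/-- `PsiE` descended to `QQ` -/
noncomputable def PhiE (k : ℕ) (E : M →ₗ[R] N) (hE : IsDiffOpLE R S M N k E) :
    QQ R S S' k →ₗ[R] (M →ₗ[R] S' ⊗[S] N) :=
  (PhiE0 k E hE) ∘ₗ
    (Submodule.Quotient.restrictScalarsEquiv R ((diagIdeal R S S') ^ (k + 1))).symm.toLinearMap

theorem PhiE_mk (k : ℕ) (E : M →ₗ[R] N) (hE : IsDiffOpLE R S M N k E) (t : S' ⊗[R] S) :
    PhiE k E hE (Ideal.Quotient.mk _ t) = PsiE E t := by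
  unfold PhiE
  rw [LinearMap.comp_apply]
  rfl

variable (R S S') in
/-- `a ↦ [1 ⊗ a]` -/
noncomputable def psiQ (k : ℕ) : S →+* QQ R S S' k :=
  (Ideal.Quotient.mk _).comp (Algebra.TensorProduct.includeRight (R := R) (A := S') (B := S)).toRingHom

variable (R S S') in
/-- `s' ↦ [s' ⊗ 1]` -/
noncomputable def cQ (k : ℕ) : S' →+* QQ R S S' k :=
  (Ideal.Quotient.mk _).comp (Algebra.TensorProduct.includeLeftRingHom (R := R) (A := S') (B := S))

variable (R S S') in
/-- the nilpotent ideal of `QQ` -/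
noncomputable def JQ (k : ℕ) : Ideal (QQ R S S' k) :=
  (diagIdeal R S S').map (Ideal.Quotient.mk ((diagIdeal R S S') ^ (k + 1)))

theorem JQ_pow (k : ℕ) : (JQ R S S' k) ^ (k + 1) = ⊥ := by
  unfold JQ
  rw [← Ideal.map_pow, Ideal.map_quotient_self]

theorem cQ_sub_psiQ_mem (k : ℕ) (a : S) :
    cQ R S S' k (algebraMap S S' a) - psiQ R S S' k a ∈ JQ R S S' k := by
  have : cQ R S S' k (algebraMap S S' a) - psiQ R S S' k a =
      Ideal.Quotient.mk _ (-(xi' R S S' a)) := by
    unfold cQ psiQ xi'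
    simp
  rw [this, map_neg]
  exact (JQ R S S' k).neg_mem (Ideal.mem_map_of_mem _ (Ideal.subset_span ⟨a, rfl⟩))

theorem PhiE_cQ_mul (k : ℕ) (E : M →ₗ[R] N) (hE : IsDiffOpLE R S M N k E) (s'' : S')
    (q : QQ R S S' k) (m : M) :
    PhiE k E hE (cQ R S S' k s'' * q) m = s'' • PhiE k E hE q m := by
  obtain ⟨t, rfl⟩ := Ideal.Quotient.mk_surjective q
  have : cQ R S S' k s'' * Ideal.Quotient.mk _ t =
      Ideal.Quotient.mk ((diagIdeal R S S') ^ (k + 1)) ((s'' ⊗ₜ[R] (1 : S)) * t) := by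
    rw [map_mul]; rfl
  rw [this, PhiE_mk, PhiE_mk, PsiE_left_mul]

theorem PhiE_mul_psiQ (k : ℕ) (E : M →ₗ[R] N) (hE : IsDiffOpLE R S M N k E) (a : S)
    (q : QQ R S S' k) (m : M) :
    PhiE k E hE (q * psiQ R S S' k a) m = PhiE k E hE q (a • m) := by
  obtain ⟨t, rfl⟩ := Ideal.Quotient.mk_surjective q
  have : Ideal.Quotient.mk _ t * psiQ R S S' k a =
      Ideal.Quotient.mk ((diagIdeal R S S') ^ (k + 1)) (t * ((1 : S') ⊗ₜ[R] a)) := by
    rw [map_mul]; rfl
  rw [this, PhiE_mk, PhiE_mk, PsiE_right_mul]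

section construct
variable (k : ℕ) (τ : S' →+* QQ R S S' k)
  (hτ1 : ∀ a : S, τ (algebraMap S S' a) = psiQ R S S' k a)
  (E : M →ₗ[R] N) (hE : IsDiffOpLE R S M N k E)

/-- the bi-additive map underlying `extOp` -/
noncomputable def extF (q₀ : QQ R S S' k) : S' →+ M →+ S' ⊗[S] N where
  toFun t' := (PhiE k E hE (q₀ * τ t')).toAddMonoidHom
  map_zero' := by ext m; simp
  map_add' x y := by ext m; simp [mul_add]

include hτ1 in
theorem extF_balanced (q₀ : QQ R S S' k) (a : S) (t' : S') (m : M) :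
    extF k τ E hE q₀ (a • t') m = extF k τ E hE q₀ t' (a • m) := by
  change PhiE k E hE (q₀ * τ (a • t')) m = PhiE k E hE (q₀ * τ t') (a • m)
  rw [Algebra.smul_def, map_mul τ, hτ1, ← PhiE_mul_psiQ]
  congr 2
  ring

/-- the operator `t' ⊗ m ↦ Φ(q₀ τ(t')) m` -/
noncomputable def extOp (q₀ : QQ R S S' k) : S' ⊗[S] M →ₗ[R] S' ⊗[S] N where
  toFun := TensorProduct.liftAddHom (extF k τ E hE q₀) (extF_balanced k τ hτ1 E hE q₀)
  map_add' := map_add _
  map_smul' r x := by
    induction x using TensorProduct.induction_on with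
    | zero => simp
    | tmul t' m =>
      rw [← TensorProduct.tmul_smul, TensorProduct.liftAddHom_tmul, TensorProduct.liftAddHom_tmul]
      exact map_smul (PhiE k E hE (q₀ * τ t')) r m
    | add x y hx hy => rw [smul_add, map_add, hx, hy, map_add, smul_add]

theorem extOp_tmul (q₀ : QQ R S S' k) (t' : S') (m : M) :
    extOp k τ hτ1 E hE q₀ (t' ⊗ₜ[S] m) = PhiE k E hE (q₀ * τ t') m := rfl

theorem extOp_zero : extOp k τ hτ1 E hE 0 = 0 := by
  ext x
  induction x using TensorProduct.induction_on with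
  | zero => simp
  | tmul t' m => rw [extOp_tmul, zero_mul, map_zero]; rfl
  | add x y hx hy => rw [map_add, hx, hy, map_add]

theorem commutator_extOp (q₀ : QQ R S S' k) (c' : S') :
    Diff16.commutator R S' (S' ⊗[S] M) (S' ⊗[S] N) (extOp k τ hτ1 E hE q₀) c' =
      extOp k τ hτ1 E hE (q₀ * (τ c' - cQ R S S' k c')) := by
  ext x
  induction x using TensorProduct.induction_on with
  | zero => simp
  | tmul t' m =>
    have key : PhiE k E hE (q₀ * τ (c' * t') - cQ R S S' k c' * (q₀ * τ t')) =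
        PhiE k E hE (q₀ * τ (c' * t')) - PhiE k E hE (cQ R S S' k c' * (q₀ * τ t')) :=
      map_sub (PhiE (S' := S') k E hE) _ _
    have e : q₀ * (τ c' - cQ R S S' k c') * τ t' =
        q₀ * τ (c' * t') - cQ R S S' k c' * (q₀ * τ t') := by
      rw [map_mul τ]
      ring
    rw [commutator_apply, TensorProduct.smul_tmul', smul_eq_mul, extOp_tmul, extOp_tmul,
      extOp_tmul, ← PhiE_cQ_mul, e, key, LinearMap.sub_apply]
  | add x y hx hy => rw [map_add, hx, hy, map_add]

theorem isDiffOpLE_extOp : ∀ (n i : ℕ), i + n = k → ∀ q₀ ∈ (JQ R S S' k) ^ i,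
    (∀ s' : S', τ s' - cQ R S S' k s' ∈ JQ R S S' k) →
    IsDiffOpLE R S' (S' ⊗[S] M) (S' ⊗[S] N) n (extOp k τ hτ1 E hE q₀) := by
  intro n
  induction n with
  | zero =>
    intro i hi q₀ hq₀ hτ2
    rw [isDiffOpLE_zero_iff]
    intro b x
    have h1 : q₀ * (τ b - cQ R S S' k b) = 0 := by
      have hik : i = k := by omega
      rw [hik] at hq₀
      have hmem : q₀ * (τ b - cQ R S S' k b) ∈ (JQ R S S' k) ^ k * JQ R S S' k :=
        Ideal.mul_mem_mul hq₀ (hτ2 b)
      have h2 : (JQ R S S' k) ^ k * JQ R S S' k = ⊥ :=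
        (pow_succ (JQ R S S' k) k).symm.trans (JQ_pow k)
      rw [h2, Ideal.mem_bot] at hmem
      exact hmem
    have h2 := commutator_extOp k τ hτ1 E hE q₀ b
    rw [h1, extOp_zero] at h2
    have h3 := congrArg (fun f : S' ⊗[S] M →ₗ[R] S' ⊗[S] N => f x) h2
    simp only [commutator_apply, LinearMap.zero_apply, sub_eq_zero] at h3
    exact h3
  | succ n ih =>
    intro i hi q₀ hq₀ hτ2
    rw [isDiffOpLE_succ_iff]
    intro b
    rw [commutator_extOp]
    refine ih (i + 1) (by omega) _ ?_ hτ2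
    have hmem : q₀ * (τ b - cQ R S S' k b) ∈ (JQ R S S' k) ^ i * JQ R S S' k :=
      Ideal.mul_mem_mul hq₀ (hτ2 b)
    have h2 : (JQ R S S' k) ^ i * JQ R S S' k = (JQ R S S' k) ^ (i + 1) :=
      (pow_succ (JQ R S S' k) i).symm
    rwa [h2] at hmem

end construct

/-- **Existence of extensions** of differential operators along a formally étale map. -/
theorem exists_extension_of_formallyEtale [Algebra.FormallyEtale S S'] (k : ℕ) (D : M →ₗ[R] N)
    (hD : IsDiffOpLE R S M N k D) :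
    ∃ D' : S' ⊗[S] M →ₗ[R] S' ⊗[S] N, IsDiffOpLE R S' (S' ⊗[S] M) (S' ⊗[S] N) k D' ∧
      ∀ m : M, D' ((1 : S') ⊗ₜ[S] m) = (1 : S') ⊗ₜ[S] D m := by
  obtain ⟨τ, hτ1, hτ2⟩ := exists_ringHom_lift_of_formallySmooth_of_nilpotent S S' (QQ R S S' k)
    (JQ R S S' k) ⟨k + 1, JQ_pow k⟩ (psiQ R S S' k) (cQ R S S' k) (cQ_sub_psiQ_mem k)
  refine ⟨extOp k τ hτ1 D hD 1, ?_, fun m => ?_⟩
  · exact isDiffOpLE_extOp k τ hτ1 D hD k 0 (zero_add k) 1 (by simp) hτ2
  · rw [extOp_tmul, map_one, mul_one]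
    have : (1 : QQ R S S' k) = Ideal.Quotient.mk _ ((1 : S') ⊗ₜ[R] (1 : S)) := by
      rw [← Algebra.TensorProduct.one_def, map_one]
    rw [this, PhiE_mk, PsiE_tmul, one_smul]

end ext

end Groth.Agent.Lib.Helper14
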