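import Groth.Agent.Lib.Helper14.DiffOpGen

/-!
# Differential operators and coordinates indexed by an arbitrary type

Versions of the results of `DiffOpGen` for a family `z : ι → B` indexed by an arbitrary (finite)
type, plus: the order of an operator can be read off from the commutators with coordinates.
-/

set_option autoImplicit false
universe u v
open scoped TensorProduct

namespace Groth.Agent.Lib.Helper14

open Diff16

section lin
variable {A B : Type u} [CommRing A] [CommRing B] [Algebra A B]
variable {N : Type u} [AddCommGroup N] [Module A N] [Module B N] [IsScalarTower A B N]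

theorem linearize_add_op (D D' : B →ₗ[A] N) (x : B ⊗[A] B) :
    linearize A B B N (D + D') x = linearize A B B N D x + linearize A B B N D' x := by
  induction x using TensorProduct.induction_on with
  | zero => simp
  | tmul b b' => simp [linearize_tmul]
  | add x y hx hy => rw [map_add, map_add, map_add, hx, hy]; abel

theorem linearize_neg_op (D : B →ₗ[A] N) (x : B ⊗[A] B) :
    linearize A B B N (-D) x = - linearize A B B N D x := by
  induction x using TensorProduct.induction_on with
  | zero => simp
  | tmul b b' => simp [linearize_tmul]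
  | add x y hx hy => rw [map_add, map_add, hx, hy]; abel

theorem linearize_sub_op (D D' : B →ₗ[A] N) (x : B ⊗[A] B) :
    linearize A B B N (D - D') x = linearize A B B N D x - linearize A B B N D' x := by
  rw [sub_eq_add_neg, linearize_add_op, linearize_neg_op, ← sub_eq_add_neg]

theorem linearize_smul_op (c : B) (D : B →ₗ[A] N) (x : B ⊗[A] B) :
    linearize A B B N (c • D) x = c • linearize A B B N D x := by
  induction x using TensorProduct.induction_on with
  | zero => simp
  | tmul b b' => simp [linearize_tmul, smul_comm b c]
  | add x y hx hy => rw [map_add, map_add, hx, hy, smul_add]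

theorem linearize_sum_op {κ : Type*} (s : Finset κ) (f : κ → (B →ₗ[A] N)) (x : B ⊗[A] B) :
    linearize A B B N (∑ i ∈ s, f i) x = ∑ i ∈ s, linearize A B B N (f i) x := by
  classical
  induction s using Finset.induction_on with
  | empty => simpa using linearize_zero (A := A) (B := B) (N := N) x
  | insert a s ha ih => rw [Finset.sum_insert ha, Finset.sum_insert ha, linearize_add_op, ih]

end lin

section idx
variable {A B : Type u} [CommRing A] [CommRing B] [Algebra A B] {ι : Type*} (z : ι → B)

/-- the monomial in the `ξ (z i)` attached to a list of indices -/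
noncomputable def xiL (l : List ι) : B ⊗[A] B := (l.map fun i => xi A (z i)).prod

theorem xiL_nil : xiL (A := A) z [] = 1 := rfl

theorem xiL_cons (i : ι) (l : List ι) :
    xiL (A := A) z (i :: l) = xi A (z i) * xiL (A := A) z l := by
  simp [xiL]

theorem xiL_mem_pow (l : List ι) :
    xiL (A := A) z l ∈ (KaehlerDifferential.ideal A B) ^ l.length := by
  induction l with
  | nil => simp [xiL_nil]
  | cons i l ih =>
    rw [xiL_cons, List.length_cons, pow_succ']
    exact Ideal.mul_mem_mul (xi_mem _) ih

theorem xiL_perm {l l' : List ι} (h : l.Perm l') : xiL (A := A) z l = xiL (A := A) z l' :=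
  (h.map _).prod_eq

/-- `B`-span of the monomials of length `k` in the `ξ (z i)` -/
noncomputable def VkI (k : ℕ) : Submodule B (B ⊗[A] B) :=
  Submodule.span B {x | ∃ l : List ι, l.length = k ∧ x = xiL (A := A) z l}

/-- `B`-span of all the monomials in the `ξ (z i)` -/
noncomputable def VallI : Submodule B (B ⊗[A] B) :=
  Submodule.span B (Set.range (xiL (A := A) z))

theorem VkI_le_VallI (k : ℕ) : VkI (A := A) z k ≤ VallI (A := A) z := by
  apply Submodule.span_mono
  rintro x ⟨l, _, rfl⟩
  exact ⟨l, rfl⟩

theorem VkI_le_pow (k : ℕ) :
    VkI (A := A) z k ≤ ((KaehlerDifferential.ideal A B) ^ k).restrictScalars B := by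
  apply Submodule.span_le.mpr
  rintro x ⟨l, hl, rfl⟩
  have := xiL_mem_pow (A := A) z l
  rw [hl] at this
  exact this

theorem xi_mul_mem_VkI (i : ι) (k : ℕ) {v : B ⊗[A] B} (hv : v ∈ VkI (A := A) z k) :
    xi A (z i) * v ∈ VkI (A := A) z (k + 1) := by
  induction hv using Submodule.span_induction with
  | mem x hx =>
    obtain ⟨l, hl, rfl⟩ := hx
    refine Submodule.subset_span ⟨i :: l, by simp [hl], ?_⟩
    rw [xiL_cons]
  | zero => simp
  | add x y _ _ hx hy => rw [mul_add]; exact add_mem hx hy
  | smul c x _ hx => rw [mul_smul_comm]; exact Submodule.smul_mem _ c hx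

variable [Fintype ι]

/-- the `ξ (z i)` span `I / I^2` -/
def SpanCondI : Prop :=
  ∀ g ∈ KaehlerDifferential.ideal A B, ∃ c : ι → B,
    g - ∑ i, c i • xi A (z i) ∈ (KaehlerDifferential.ideal A B) ^ 2

theorem spanCondI_of_span
    (hz : Submodule.span B (Set.range fun i => KaehlerDifferential.D A B (z i)) = ⊤) :
    SpanCondI (A := A) z := by
  intro g hg
  let ω : KaehlerDifferential A B := (KaehlerDifferential.ideal A B).toCotangent ⟨g, hg⟩
  have hω : ω ∈ Submodule.span B (Set.range fun i => KaehlerDifferential.D A B (z i)) := by
    rw [hz]; trivial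
  obtain ⟨c, hc⟩ := (Submodule.mem_span_range_iff_exists_fun B).mp hω
  refine ⟨c, ?_⟩
  let y : KaehlerDifferential.ideal A B :=
    ∑ i, (c i) • (⟨xi A (z i), xi_mem (z i)⟩ : KaehlerDifferential.ideal A B)
  have h2 : (KaehlerDifferential.ideal A B).toCotangent y =
      ∑ i, c i • KaehlerDifferential.D A B (z i) := by
    simp only [y, map_sum]
    refine Finset.sum_congr rfl fun i _ => ?_
    rw [KaehlerDifferential.D_apply, LinearMap.map_smul_of_tower]
    rfl
  have h3 : (KaehlerDifferential.ideal A B).toCotangent ⟨g, hg⟩ =
      (KaehlerDifferential.ideal A B).toCotangent y := hc.symm.trans h2.symm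
  rw [Ideal.toCotangent_eq] at h3
  convert h3 using 2
  simp [y]

theorem pow_le_VkI_sup (hspan : SpanCondI (A := A) z) (k : ℕ) :
    ((KaehlerDifferential.ideal A B) ^ k).restrictScalars B ≤
      VkI (A := A) z k ⊔ ((KaehlerDifferential.ideal A B) ^ (k + 1)).restrictScalars B := by
  induction k with
  | zero =>
    intro x hx0
    clear hx0
    induction x using TensorProduct.induction_on with
    | zero => exact zero_mem _
    | tmul b b' =>
      have h1 : b ⊗ₜ[A] b' = (b * b') • (1 : B ⊗[A] B) + b • xi A b' := by
        simp [xi, Algebra.TensorProduct.one_def, TensorProduct.smul_tmul', smul_sub]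
      rw [h1]
      refine Submodule.add_mem _ (Submodule.mem_sup_left ?_) (Submodule.mem_sup_right ?_)
      · exact Submodule.smul_mem _ _ (Submodule.subset_span ⟨[], rfl, rfl⟩)
      · rw [zero_add, pow_one]
        exact ((KaehlerDifferential.ideal A B).restrictScalars B).smul_mem b (xi_mem b')
    | add x y hx hy => exact add_mem hx hy
  | succ k ih =>
    intro x hx
    rw [Submodule.restrictScalars_mem, pow_succ'] at hx
    refine Submodule.mul_induction_on hx ?_ ?_
    · intro g hg y hy
      obtain ⟨c, hc⟩ := hspan g hg
      obtain ⟨v, hv, w, hw, rfl⟩ := Submodule.mem_sup.mp (ih hy)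
      have hv' : v ∈ (KaehlerDifferential.ideal A B) ^ k := VkI_le_pow z k hv
      have e : g * (v + w) = (∑ i, c i • xi A (z i)) * v +
          ((g - ∑ i, c i • xi A (z i)) * v + g * w) := by ring
      rw [e]
      refine Submodule.add_mem _ (Submodule.mem_sup_left ?_) (Submodule.mem_sup_right ?_)
      · rw [Finset.sum_mul]
        refine Submodule.sum_mem _ fun i _ => ?_
        rw [smul_mul_assoc]
        exact Submodule.smul_mem _ _ (xi_mul_mem_VkI z i k hv)
      · rw [Submodule.restrictScalars_mem]
        refine Ideal.add_mem _ ?_ ?_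
        · have := Ideal.mul_mem_mul hc hv'
          rwa [← pow_add, show 2 + k = k + 1 + 1 by ring] at this
        · have := Ideal.mul_mem_mul hg hw
          rwa [← pow_succ'] at this
    · intro x y hx hy
      exact add_mem hx hy

theorem top_le_VallI_sup (hspan : SpanCondI (A := A) z) (m : ℕ) :
    ⊤ ≤ VallI (A := A) z ⊔ ((KaehlerDifferential.ideal A B) ^ (m + 1)).restrictScalars B := by
  induction m with
  | zero =>
    have := pow_le_VkI_sup z hspan 0
    rw [pow_zero, Ideal.one_eq_top, Submodule.restrictScalars_top] at this
    exact this.trans (sup_le_sup_right (VkI_le_VallI z 0) _)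
  | succ m ih =>
    refine ih.trans (sup_le le_sup_left ?_)
    exact (pow_le_VkI_sup z hspan (m + 1)).trans (sup_le_sup_right (VkI_le_VallI z (m + 1)) _)

variable {N : Type u} [AddCommGroup N] [Module A N] [Module B N] [IsScalarTower A B N]

/-- An operator of order `≤ m` whose linearisation kills the `ξ`-monomials of length `≤ m` is zero. -/
theorem eq_zero_of_linearize_xiL (hspan : SpanCondI (A := A) z) (m : ℕ) (E : B →ₗ[A] N)
    (hE : IsDiffOpLE A B B N m E)
    (hk : ∀ l : List ι, l.length ≤ m → linearize A B B N E (xiL (A := A) z l) = 0) : E = 0 := by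
  have hvan := (isDiffOpLE_iff_linearize_vanish m E).mp hE
  have hk' : ∀ l : List ι, linearize A B B N E (xiL (A := A) z l) = 0 := by
    intro l
    by_cases hl : l.length ≤ m
    · exact hk l hl
    · refine hvan _ (Ideal.pow_le_pow_right (by omega) (xiL_mem_pow z l))
  have hV : ∀ x ∈ VallI (A := A) z, linearize A B B N E x = 0 := by
    intro x hx
    induction hx using Submodule.span_induction with
    | mem x hx =>
      obtain ⟨l, rfl⟩ := hx
      exact hk' l
    | zero => simp
    | add x y _ _ hx hy => rw [map_add, hx, hy, add_zero]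
    | smul c x _ hx => rw [linearize_smul, hx, smul_zero]
  have hall : ∀ x : B ⊗[A] B, linearize A B B N E x = 0 := by
    intro x
    have hx : x ∈ VallI (A := A) z ⊔
        ((KaehlerDifferential.ideal A B) ^ (m + 1)).restrictScalars B :=
      top_le_VallI_sup z hspan m trivial
    obtain ⟨v, hv, w, hw, rfl⟩ := Submodule.mem_sup.mp hx
    rw [map_add, hV v hv, hvan w hw, add_zero]
  ext b
  have := hall ((1 : B) ⊗ₜ[A] b)
  rw [linearize_tmul, one_smul] at this
  simpa using this

omit [Fintype ι] in
/-- the linearisation of an operator killing all monomials in the `z i` kills all `ξ`-monomials -/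
theorem linearize_xiL_eq_zero_of_kills (l : List ι) : ∀ (E : B →ₗ[A] N),
    (∀ l' : List ι, E ((l'.map z).prod) = 0) → linearize A B B N E (xiL (A := A) z l) = 0 := by
  induction l with
  | nil =>
    intro E h
    rw [xiL_nil, Algebra.TensorProduct.one_def, linearize_tmul, one_smul]
    simpa using h []
  | cons i l ih =>
    intro E h
    rw [xiL_cons]
    change linearize A B B N E (((1 : B) ⊗ₜ[A] z i - z i ⊗ₜ[A] (1 : B)) * _) = 0
    rw [← linearize_commutator]
    refine ih _ fun l' => ?_
    rw [commutator_apply, h l', smul_zero, sub_zero]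
    have := h (i :: l')
    simpa using this

theorem list_prod_eq_prod_powI [DecidableEq ι] (l : List ι) :
    (l.map z).prod = ∏ i, z i ^ l.count i := by
  rw [Finset.prod_list_map_count]
  refine Finset.prod_subset (Finset.subset_univ _) fun x _ hx => ?_
  rw [List.mem_toFinset] at hx
  rw [List.count_eq_zero_of_not_mem hx, pow_zero]

/-- A differential operator of finite order vanishing on all monomials `∏ z i ^ q i` in coordinates
`z` whose differentials span the Kähler differentials is zero. -/
theorem eq_zero_of_forall_monomialI [DecidableEq ι] (hspan : SpanCondI (A := A) z) (m : ℕ)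
    (E : B →ₗ[A] N) (hE : IsDiffOpLE A B B N m E) (h : ∀ q : ι → ℕ, E (∏ i, z i ^ q i) = 0) :
    E = 0 := by
  refine eq_zero_of_linearize_xiL z hspan m E hE fun l _ =>
    linearize_xiL_eq_zero_of_kills z l E fun l' => ?_
  rw [list_prod_eq_prod_powI]
  exact h _

/-- If `D` has finite order and the linearisations of its commutators with the coordinates vanish
on `I ^ k`, then the linearisation of `D` vanishes on `I ^ (k + 1)`. -/
theorem linearize_vanish_of_commutator_coord (hspan : SpanCondI (A := A) z) (k K : ℕ)
    (D : B →ₗ[A] N) (hK : IsDiffOpLE A B B N K D)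
    (h : ∀ i, ∀ x ∈ (KaehlerDifferential.ideal A B) ^ k,
      linearize A B B N (Diff16.commutator A B B N D (z i)) x = 0) :
    ∀ x ∈ (KaehlerDifferential.ideal A B) ^ (k + 1), linearize A B B N D x = 0 := by
  have step : ∀ t : ℕ, (∀ x ∈ (KaehlerDifferential.ideal A B) ^ (k + 1 + t),
      linearize A B B N D x = 0) →
      ∀ x ∈ (KaehlerDifferential.ideal A B) ^ (k + 1), linearize A B B N D x = 0 := by
    intro t
    induction t with
    | zero => intro h0; simpa using h0
    | succ t ih =>
      intro ht
      apply ih
      intro x hx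
      rw [show k + 1 + t = (k + t) + 1 by ring, pow_succ'] at hx
      refine Submodule.mul_induction_on hx ?_ ?_
      · intro g hg y hy
        obtain ⟨c, hc⟩ := hspan g hg
        have e : g * y = (∑ i, c i • (xi A (z i) * y)) + (g - ∑ i, c i • xi A (z i)) * y := by
          simp only [sub_mul, Finset.sum_mul, smul_mul_assoc]
          abel
        rw [e, map_add, map_sum]
        have h1 : ∀ i, linearize A B B N D (c i • (xi A (z i) * y)) = 0 := by
          intro i
          rw [linearize_smul]
          change c i • linearize A B B N D (((1 : B) ⊗ₜ[A] z i - z i ⊗ₜ[A] (1 : B)) * y) = 0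
          rw [← linearize_commutator, h i y (Ideal.pow_le_pow_right (by omega) hy), smul_zero]
        have h2 : linearize A B B N D ((g - ∑ i, c i • xi A (z i)) * y) = 0 := by
          apply ht
          have := Ideal.mul_mem_mul hc hy
          rwa [← pow_add, show 2 + (k + t) = k + 1 + (t + 1) by ring] at this
        rw [h2, add_zero]
        exact Finset.sum_eq_zero fun i _ => h1 i
      · intro x y hx hy
        rw [map_add, hx, hy, add_zero]
  refine step K fun x hx => ?_
  exact (isDiffOpLE_iff_linearize_vanish K D).mp hK x
    (Ideal.pow_le_pow_right (by omega) hx)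

end idx

end Groth.Agent.Lib.Helper14
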