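import Groth.Agent.Lib.Helper14.DimBaseChange
import Groth.Agent.Lib.Helper55.Equidim

/-!
# The image of a quasi-compact homomorphism is closed, and `dim G = dim u(G) + dim Ker u`
(SGA3 VI_B 1.2)
-/

set_option autoImplicit false
universe u
open CategoryTheory CategoryTheory.Limits MonoidalCategory CartesianMonoidalCategory MonObj GrpObj
  AlgebraicGeometry

namespace Groth.Agent.Lib.Helper14

section Closed

theorem isClosed_range_of_field {k : Type u} [Field k] {G H : Over (Spec (CommRingCat.of k))}
    [GrpObj G] [GrpObj H] (u : G ⟶ H) [IsMonHom u] [QuasiCompact u.left] :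
    IsClosed (Set.range u.left) := by
  obtain ⟨Z, instZ, iZ, f', hiZ, hf', hfac, hcl, hdom, hqc', hsurj, -⟩ := exists_grpObj_image u
  have : Set.range u.left = Set.range iZ.left := by
    rw [← hfac, Over.comp_left, Scheme.Hom.comp_base, TopCat.coe_comp, Set.range_comp,
      hsurj.surj.range_eq, Set.image_univ]
  rw [this]
  exact iZ.left.isClosedEmbedding.isClosed_range

theorem isClosed_range_of_artinian {A : Type u} [CommRing A] [IsArtinianRing A] [IsLocalRing A]
    {G H : Over (Spec (CommRingCat.of A))} [GrpObj G] [GrpObj H] (u : G ⟶ H) [IsMonHom u]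
    [QuasiCompact u.left] : IsClosed (Set.range u.left) := by
  have hqc := quasiCompact_pullbackMap_left (resPt A) u
  have hκ := isClosed_range_of_field ((Over.pullback (resPt A)).map u)
  have sq := isPullback_overPullback_map_left u (resPt A)
  have h1 : Set.range u.left = pullback.fst H.hom (resPt A) ''
      Set.range ((Over.pullback (resPt A)).map u).left := by
    rw [← Set.range_comp]
    have e : (pullback.fst H.hom (resPt A)) ∘ ((Over.pullback (resPt A)).map u).left =
        u.left ∘ (pullback.fst G.hom (resPt A)) := by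
      funext z
      show (((Over.pullback (resPt A)).map u).left ≫ pullback.fst H.hom (resPt A)) z =
        (pullback.fst G.hom (resPt A) ≫ u.left) z
      rw [sq.w]
    rw [e, Set.range_comp, (pullback.fst G.hom (resPt A)).surjective.range_eq, Set.image_univ]
  rw [h1]
  exact (pullback.fst H.hom (resPt A)).isClosedEmbedding.isClosedMap _ hκ

end Closed

section Formula

variable {S : Scheme.{u}} {G H : Over S} [GrpObj H]

/-- The dimension formula `dim G = dim u(G) + dim Ker u`. -/
def DimFormula (u : G ⟶ H) : Prop :=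
  topologicalKrullDim ↥G.left =
    topologicalKrullDim ↥(Set.range u.left) + topologicalKrullDim ↥(kerObj u).left

theorem dim_kernel_eq {u : G ⟶ H} {K K' : Over S} {κ : K ⟶ G} {κ' : K' ⟶ G} (h : IsKer κ u)
    (h' : IsKer κ' u) : topologicalKrullDim ↥K.left = topologicalKrullDim ↥K'.left :=
  IsHomeomorph.topologicalKrullDim_eq _
    (Scheme.homeoOfIso ((Over.forget S).mapIso
      (IsPullback.isoIsPullback _ _ h h'))).isHomeomorph

instance locallyOfFiniteType_unit_left : LocallyOfFiniteType (η[H] : 𝟙_ (Over S) ⟶ H).left := by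
  have : LocallyOfFiniteType ((η[H] : 𝟙_ (Over S) ⟶ H).left ≫ H.hom) := by
    rw [Over.w]; exact inferInstanceAs (LocallyOfFiniteType (𝟙 S))
  exact locallyOfFiniteType_of_comp _ H.hom

instance locallyOfFiniteType_kerObj (u : G ⟶ H) [LocallyOfFiniteType G.hom] :
    LocallyOfFiniteType (kerObj u).hom :=
  inferInstanceAs (LocallyOfFiniteType
    (pullback.fst u.left (η[H] : 𝟙_ (Over S) ⟶ H).left ≫ G.hom))

theorem DimFormula.of_pullback {T : Scheme.{u}} {φ : T ⟶ S} (hφ : DimBC φ)
    [LocallyOfFiniteType G.hom] [LocallyOfFiniteType H.hom] (u : G ⟶ H)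
    (hcl : IsClosed (Set.range u.left)) (h : DimFormula ((Over.pullback φ).map u)) :
    DimFormula u := by
  unfold DimFormula at h ⊢
  have e1 : topologicalKrullDim ↥((Over.pullback φ).obj G).left = topologicalKrullDim ↥G.left :=
    hφ.dim_pullback_eq G.hom
  have sq := isPullback_overPullback_map_left u φ
  have e2 : Set.range ((Over.pullback φ).map u).left =
      (pullback.fst H.hom φ) ⁻¹' Set.range u.left := by
    have e : ((Over.pullback φ).map u).left =
        sq.isoPullback.hom ≫ pullback.snd u.left (pullback.fst H.hom φ) :=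
      sq.isoPullback_hom_snd.symm
    rw [e, Scheme.Hom.comp_base, TopCat.coe_comp, Set.range_comp,
      sq.isoPullback.hom.surjective.range_eq, Set.image_univ]
    exact Scheme.Pullback.range_snd _ _
  have e3 := hφ.dim_preimage_eq H.hom (Set.range u.left) hcl
  have e4 : topologicalKrullDim ↥(kerObj ((Over.pullback φ).map u)).left =
      topologicalKrullDim ↥(kerObj u).left :=
    (dim_kernel_eq (isKer_kerι _) ((isKer_kerι u).map_pullback φ)).trans
      (hφ.dim_pullback_eq (kerObj u).hom)
  rw [e1, e2, e3, e4] at h
  exact h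

/-- The formula for `u` follows from the formula for the restriction to the reduced subscheme. -/
theorem DimFormula.of_red (u : G ⟶ H) (h : DimFormula (redι G ≫ u)) : DimFormula u := by
  unfold DimFormula at h ⊢
  have hhomeo : IsHomeomorph (redι G).left := by
    rw [isHomeomorph_iff_isEmbedding_surjective]
    exact ⟨(redι G).left.isClosedEmbedding.isEmbedding, (redι G).left.surjective⟩
  have e1 : topologicalKrullDim ↥(redObj G).left = topologicalKrullDim ↥G.left :=
    IsHomeomorph.topologicalKrullDim_eq _ hhomeo
  have e2 : Set.range (redι G ≫ u).left = Set.range u.left := by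
    rw [Over.comp_left, Scheme.Hom.comp_base, TopCat.coe_comp, Set.range_comp,
      (redι G).left.surjective.range_eq, Set.image_univ]
  have hpb : IsPullback (pullback.fst (kerι u) (redι G)) (pullback.snd (kerι u) (redι G))
      (kerι u) (redι G) := IsPullback.of_hasPullback _ _
  have hK' : IsKer (pullback.snd (kerι u) (redι G)) (redι G ≫ u) :=
    IsKer.pullback_comp (isKer_kerι u) hpb
  have sq := (hpb.map (Over.forget _)).flip
  have hcl : IsClosedImmersion (pullback.fst (kerι u) (redι G)).left :=
    MorphismProperty.of_isPullback (P := @IsClosedImmersion) sq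
      (inferInstanceAs (IsClosedImmersion (redι G).left))
  have hsj : Surjective (pullback.fst (kerι u) (redι G)).left :=
    MorphismProperty.of_isPullback (P := @Surjective) sq
      (inferInstanceAs (Surjective (redι G).left))
  have hhomeo2 : IsHomeomorph (pullback.fst (kerι u) (redι G)).left := by
    rw [isHomeomorph_iff_isEmbedding_surjective]
    exact ⟨(pullback.fst (kerι u) (redι G)).left.isClosedEmbedding.isEmbedding,
      (pullback.fst (kerι u) (redι G)).left.surjective⟩
  have e3 : topologicalKrullDim ↥(kerObj (redι G ≫ u)).left =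
      topologicalKrullDim ↥(kerObj u).left :=
    (dim_kernel_eq (isKer_kerι _) hK').trans (IsHomeomorph.topologicalKrullDim_eq _ hhomeo2)
  rw [e1, e2, e3] at h
  exact h

end Formula

section Reduced

variable {k : Type u} [Field k] {G H : Over (Spec (CommRingCat.of k))} [GrpObj G] [GrpObj H]

/-- The dimension formula for a quasi-compact homomorphism from a reduced group scheme locally of
finite type over a field. -/
theorem dimFormula_of_isReduced [LocallyOfFiniteType G.hom] [LocallyOfFiniteType H.hom]
    [IsReduced G.left] (u : G ⟶ H) [IsMonHom u] [QuasiCompact u.left] : DimFormula u := by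
  obtain ⟨Z, instZ, iZ, f', hiZ, hf', hfac, hcl, hdom, hqc', hsurj, -⟩ := exists_grpObj_image u
  subst hfac
  have hredZ : IsReduced Z.left := IsSchemeTheoreticallyDominant.isReduced f'.left
  have hflat : Flat f'.left := flat_of_denseRange_grpHom f' f'.left.surjective.denseRange
  have hiZmono : Mono iZ := by
    have : Mono ((Over.forget _).map iZ) := inferInstanceAs (Mono iZ.left)
    exact (Over.forget _).mono_of_mono_map this
  have hlftZ : LocallyOfFiniteType Z.hom := by
    rw [← Over.w iZ]; infer_instance
  have hlft' : LocallyOfFiniteType f'.left := by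
    have : LocallyOfFiniteType (f'.left ≫ Z.hom) := by rw [Over.w f']; infer_instance
    exact locallyOfFiniteType_of_comp f'.left Z.hom
  let pt : ↥(𝟙_ (Over (Spec (CommRingCat.of k)))).left := IsLocalRing.closedPoint k
  let y : ↥Z.left := (η[Z] : 𝟙_ _ ⟶ Z).left pt
  have hG : ∀ g : G.left, FlatMor.localDim ↥G.left g = topologicalKrullDim ↥G.left :=
    Groth.Agent.Lib.Helper55.localDim_eq_topologicalKrullDim_of_grpObj G
  have hZ : FlatMor.localDim ↥Z.left y = topologicalKrullDim ↥Z.left :=
    Groth.Agent.Lib.Helper55.localDim_eq_topologicalKrullDim_of_grpObj Z y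
  obtain ⟨n, hn⟩ := Groth.Agent.Lib.Helper55.exists_localDim_eq_natCast Z.hom y
  have hform : ∀ z : ↥(f'.left.fiber y), topologicalKrullDim ↥G.left =
      (n : WithBot ℕ∞) + FlatMor.localDim ↥(f'.left.fiber y) z := by
    intro z
    have h := Groth.Agent.Lib.Helper55.localDim_eq_add_of_flat' Z.hom f'.left y z
    rw [hG, hn] at h
    exact h
  have hy : f'.left ((η[G] : 𝟙_ _ ⟶ G).left pt) = y := by
    show ((η[G] : 𝟙_ _ ⟶ G).left ≫ f'.left) pt = y
    rw [← Over.comp_left, IsMonHom.one_hom]
  let z₀ : ↥(f'.left.fiber y) := (f'.left.fiberHomeo y).symm ⟨(η[G] : 𝟙_ _ ⟶ G).left pt, hy⟩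
  have hconst : ∀ z : ↥(f'.left.fiber y), FlatMor.localDim ↥(f'.left.fiber y) z =
      FlatMor.localDim ↥(f'.left.fiber y) z₀ := fun z =>
    Groth.Agent.Lib.Helper55.withBot_enat_add_left_cancel n ((hform z).symm.trans (hform z₀))
  have hfib : topologicalKrullDim ↥(f'.left.fiber y) = FlatMor.localDim ↥(f'.left.fiber y) z₀ := by
    rw [Groth.Agent.Lib.Helper55.topologicalKrullDim_eq_iSup_localDim]
    simp_rw [hconst]
    have : Nonempty ↥(f'.left.fiber y) := ⟨z₀⟩
    exact ciSup_const
  have key : topologicalKrullDim ↥G.left =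
      topologicalKrullDim ↥Z.left + topologicalKrullDim ↥(f'.left.fiber y) := by
    rw [hfib, ← hZ, hn]
    exact hform z₀
  have eZ : topologicalKrullDim ↥(Set.range (f' ≫ iZ).left) = topologicalKrullDim ↥Z.left := by
    have : Set.range (f' ≫ iZ).left = Set.range iZ.left := by
      rw [Over.comp_left, Scheme.Hom.comp_base, TopCat.coe_comp, Set.range_comp,
        hsurj.surj.range_eq, Set.image_univ]
    rw [this]
    exact topologicalKrullDim_range_eq_of_isEmbedding _ iZ.left.isClosedEmbedding.isEmbedding
  have eK : topologicalKrullDim ↥(kerObj (f' ≫ iZ)).left =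
      topologicalKrullDim ↥(f'.left.fiber y) := by
    have hK2 : IsKer (kerι (f' ≫ iZ)) f' := IsKer.of_comp_mono iZ (isKer_kerι (f' ≫ iZ))
    have e1 := dim_kernel_eq hK2 (isKer_kerι f')
    have hclη : IsClosedImmersion (η[Z] : 𝟙_ _ ⟶ Z).left :=
      isClosedImmersion_of_comp_eq_id (Y := Spec (CommRingCat.of k)) Z.hom
        (η[Z] : 𝟙_ _ ⟶ Z).left (by simp)
    have e2 : topologicalKrullDim ↥(Set.range (pullback.fst f'.left (η[Z] : 𝟙_ _ ⟶ Z).left)) =
        topologicalKrullDim ↥(pullback f'.left (η[Z] : 𝟙_ _ ⟶ Z).left) :=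
      topologicalKrullDim_range_eq_of_isEmbedding _
        (pullback.fst f'.left (η[Z] : 𝟙_ _ ⟶ Z).left).isClosedEmbedding.isEmbedding
    have e3 : Set.range (pullback.fst f'.left (η[Z] : 𝟙_ _ ⟶ Z).left) = f'.left ⁻¹' {y} := by
      rw [Scheme.Pullback.range_fst]
      congr 1
      have hss : Subsingleton ↥(𝟙_ (Over (Spec (CommRingCat.of k)))).left :=
        inferInstanceAs (Subsingleton (PrimeSpectrum k))
      ext t
      simp only [Set.mem_range, Set.mem_singleton_iff]
      constructor
      · rintro ⟨p, rfl⟩
        rw [hss.elim p pt]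
      · rintro rfl
        exact ⟨pt, rfl⟩
    have e4 : topologicalKrullDim ↥(f'.left.fiber y) = topologicalKrullDim ↥(f'.left ⁻¹' {y}) :=
      IsHomeomorph.topologicalKrullDim_eq _ (f'.left.fiberHomeo y).isHomeomorph
    rw [e3] at e2
    rw [e4, e2]
    exact e1
  unfold DimFormula
  rw [eZ, eK]
  exact key

theorem dimFormula_of_perfectField [PerfectField k]
    [LocallyOfFiniteType G.hom] [LocallyOfFiniteType H.hom]
    (u : G ⟶ H) [IsMonHom u] [QuasiCompact u.left] : DimFormula u := by
  obtain ⟨⟨m, hm⟩, ⟨v, hv⟩, ⟨e, he⟩⟩ := Groth.Agent.S11936.result k G (redObj G) (redι G)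
  let inst : GrpObj (redObj G) := grpObjOfMono (redι G) m hm e he v hv
  have hj : IsMonHom (redι G) := isMonHom_of_grpObjOfMono (redι G) m hm e he v hv
  have hu'qc : QuasiCompact (redι G ≫ u).left := by
    rw [Over.comp_left]; infer_instance
  have hlftG : LocallyOfFiniteType (redObj G).hom := by
    rw [← Over.w (redι G)]; infer_instance
  exact DimFormula.of_red u (dimFormula_of_isReduced (redι G ≫ u))

theorem dimFormula_of_field [LocallyOfFiniteType G.hom] [LocallyOfFiniteType H.hom]
    (u : G ⟶ H) [IsMonHom u] [QuasiCompact u.left] : DimFormula u := by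
  let K := AlgebraicClosure k
  let ψ : Spec (CommRingCat.of K) ⟶ Spec (CommRingCat.of k) :=
    Spec.map (CommRingCat.ofHom (algebraMap k K))
  have hqc := quasiCompact_pullbackMap_left ψ u
  have h1 : LocallyOfFiniteType ((Over.pullback ψ).obj G).hom :=
    inferInstanceAs (LocallyOfFiniteType (pullback.snd G.hom ψ))
  have h2 : LocallyOfFiniteType ((Over.pullback ψ).obj H).hom :=
    inferInstanceAs (LocallyOfFiniteType (pullback.snd H.hom ψ))
  exact DimFormula.of_pullback (dimBC_fieldExt k K) u (isClosed_range_of_field u)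
    (dimFormula_of_perfectField ((Over.pullback ψ).map u))

end Reduced

section ArtinianFormula

variable {A : Type u} [CommRing A] [IsArtinianRing A] [IsLocalRing A]
  {G H : Over (Spec (CommRingCat.of A))} [GrpObj G] [GrpObj H]

/-- SGA3 VI_B 1.2: `dim G = dim u(G) + dim Ker u` over a local artinian ring. -/
theorem dimFormula_of_artinian [LocallyOfFiniteType G.hom] [LocallyOfFiniteType H.hom]
    (u : G ⟶ H) [IsMonHom u] [QuasiCompact u.left] : DimFormula u := by
  have hqc := quasiCompact_pullbackMap_left (resPt A) u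
  have h1 : LocallyOfFiniteType ((Over.pullback (resPt A)).obj G).hom :=
    inferInstanceAs (LocallyOfFiniteType (pullback.snd G.hom (resPt A)))
  have h2 : LocallyOfFiniteType ((Over.pullback (resPt A)).obj H).hom :=
    inferInstanceAs (LocallyOfFiniteType (pullback.snd H.hom (resPt A)))
  exact DimFormula.of_pullback (dimBC_resPt A) u (isClosed_range_of_artinian u)
    (dimFormula_of_field ((Over.pullback (resPt A)).map u))

end ArtinianFormula

end Groth.Agent.Lib.Helper14
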