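import Groth.Agent.Lib.Helper14.DiffOpIdx
import Groth.Agent.Lib.Helper14.DivPow

/-!
# Families of "divided power" operators: order and basis property
-/

set_option autoImplicit false
universe u
open scoped TensorProduct BigOperators

namespace Groth.Agent.Lib.Helper14

open Diff16

section scalar
variable {B : Type u} [CommRing B]

/-- the scalar `binom(b, a) x^(b-a)` -/
def mm (a b : ℕ) (x : B) : B := (Nat.choose b a : B) * x ^ (b - a)

theorem mm_pascal (x : B) (p q : ℕ) :
    mm p (q + 1) x - x * mm p q x = if p = 0 then 0 else mm (p - 1) q x := by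
  unfold mm
  rcases p with _ | p
  · simp [pow_succ]; ring
  · rw [if_neg (Nat.succ_ne_zero p), Nat.add_sub_cancel, Nat.choose_succ_succ, Nat.cast_add,
      Nat.add_sub_add_right]
    by_cases h : p + 1 ≤ q
    · have e : q - p = (q - (p + 1)) + 1 := by omega
      rw [e, pow_succ]; ring
    · have : q.choose (p + 1) = 0 := Nat.choose_eq_zero_of_lt (by omega)
      rw [this]; simp

end scalar

section fam
variable {A B : Type u} [CommRing A] [CommRing B] [Algebra A B] {ι : Type*} [Fintype ι]
  [DecidableEq ι] (z : ι → B) (Dp : (ι → ℕ) → (B →ₗ[A] B))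

/-- the value that a divided power operator `D_p` takes on the monomial `z^q` -/
def MM (p q : ι → ℕ) : B := ∏ j, mm (p j) (q j) (z j)

omit [DecidableEq ι] in
theorem MM_eq (p q : ι → ℕ) :
    MM z p q = ((∏ i, Nat.choose (q i) (p i) : ℕ) : B) * ∏ i, z i ^ (q i - p i) := by
  unfold MM mm
  rw [Finset.prod_mul_distrib, Nat.cast_prod]

theorem MM_split (p q : ι → ℕ) (i : ι) :
    MM z p q = mm (p i) (q i) (z i) * ∏ j ∈ Finset.univ.erase i, mm (p j) (q j) (z j) := by
  unfold MM
  exact (Finset.mul_prod_erase _ (fun j => mm (p j) (q j) (z j)) (Finset.mem_univ i)).symm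

theorem prod_pow_update (q : ι → ℕ) (i : ι) :
    ∏ j, z j ^ (Function.update q i (q i + 1) j) = z i * ∏ j, z j ^ q j := by
  rw [← Finset.mul_prod_erase _ _ (Finset.mem_univ i),
    ← Finset.mul_prod_erase _ (fun j => z j ^ q j) (Finset.mem_univ i), Function.update_self,
    pow_succ]
  have : ∏ j ∈ Finset.univ.erase i, z j ^ (Function.update q i (q i + 1) j) =
      ∏ j ∈ Finset.univ.erase i, z j ^ q j := by
    refine Finset.prod_congr rfl fun j hj => ?_
    rw [Function.update_of_ne (Finset.ne_of_mem_erase hj)]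
  rw [this]; ring

omit [CommRing A] [CommRing B] [Algebra A B] in
theorem sum_update_pred (p : ι → ℕ) (i : ι) (hp : p i ≠ 0) :
    ∑ j, Function.update p i (p i - 1) j + 1 = ∑ j, p j := by
  rw [← Finset.add_sum_erase _ _ (Finset.mem_univ i), ← Finset.add_sum_erase _ p (Finset.mem_univ i),
    Function.update_self]
  have : ∑ j ∈ Finset.univ.erase i, Function.update p i (p i - 1) j =
      ∑ j ∈ Finset.univ.erase i, p j := by
    refine Finset.sum_congr rfl fun j hj => ?_
    rw [Function.update_of_ne (Finset.ne_of_mem_erase hj)]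
  rw [this]; omega

variable (hD : ∀ p, ∃ k : ℕ, IsDiffOpLE A B B B k (Dp p))
  (hDz : ∀ p q : ι → ℕ, Dp p (∏ i, z i ^ q i) =
    ((∏ i, Nat.choose (q i) (p i) : ℕ) : B) * ∏ i, z i ^ (q i - p i))
  (hspan : SpanCondI (A := A) z)

include hD hDz hspan

/-- `[D_p, z_i] = D_{p - e_i}` -/
theorem commutator_Dp (p : ι → ℕ) (i : ι) :
    Diff16.commutator A B B B (Dp p) (z i) =
      if p i = 0 then 0 else Dp (Function.update p i (p i - 1)) := by
  rw [← sub_eq_zero]
  obtain ⟨k1, hk1⟩ := hD p
  obtain ⟨k2, hk2⟩ := hD (Function.update p i (p i - 1))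
  have hc : IsDiffOpLE A B B B (max k1 k2) (Diff16.commutator A B B B (Dp p) (z i)) :=
    isDiffOpLE_mono (le_max_left _ _) ((isDiffOpLE_succ_iff k1 _).mp (isDiffOpLE_succ hk1) (z i))
  have hE : IsDiffOpLE A B B B (max k1 k2) (Diff16.commutator A B B B (Dp p) (z i) -
      if p i = 0 then 0 else Dp (Function.update p i (p i - 1))) := by
    refine isDiffOpLE_sub hc ?_
    split_ifs
    · exact isDiffOpLE_zero_map _
    · exact isDiffOpLE_mono (le_max_right _ _) hk2
  refine eq_zero_of_forall_monomialI z hspan _ _ hE fun q => ?_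
  have hM : ∀ p q : ι → ℕ, Dp p (∏ i, z i ^ q i) = MM z p q := fun p q => by
    rw [hDz, MM_eq]
  rw [LinearMap.sub_apply, commutator_apply, smul_eq_mul, ← prod_pow_update, hM, hM,
    MM_split z p _ i, MM_split z p q i, Function.update_self]
  have hR : ∏ j ∈ Finset.univ.erase i, mm (p j) (Function.update q i (q i + 1) j) (z j) =
      ∏ j ∈ Finset.univ.erase i, mm (p j) (q j) (z j) := by
    refine Finset.prod_congr rfl fun j hj => ?_
    rw [Function.update_of_ne (Finset.ne_of_mem_erase hj)]
  rw [hR, smul_eq_mul, ← mul_assoc, ← sub_mul, mm_pascal]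
  by_cases hp : p i = 0
  · simp [hp]
  · rw [if_neg hp, if_neg hp, hM, MM_split z _ q i, Function.update_self]
    have hR' : ∏ j ∈ Finset.univ.erase i, mm (Function.update p i (p i - 1) j) (q j) (z j) =
        ∏ j ∈ Finset.univ.erase i, mm (p j) (q j) (z j) := by
      refine Finset.prod_congr rfl fun j hj => ?_
      rw [Function.update_of_ne (Finset.ne_of_mem_erase hj)]
    rw [hR', sub_self]

/-- `D_p` has order at most `|p|`. -/
theorem isDiffOpLE_Dp : ∀ (k : ℕ) (p : ι → ℕ), ∑ i, p i = k → IsDiffOpLE A B B B k (Dp p) := by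
  intro k
  induction k using Nat.strong_induction_on with
  | _ k ih =>
    intro p hp
    rw [isDiffOpLE_iff_linearize_vanish]
    obtain ⟨K, hK⟩ := hD p
    refine linearize_vanish_of_commutator_coord z hspan k K (Dp p) hK fun i x hx => ?_
    rw [commutator_Dp z Dp hD hDz hspan p i]
    by_cases hpi : p i = 0
    · rw [if_pos hpi]; exact linearize_zero x
    · rw [if_neg hpi]
      have hs := sum_update_pred p i hpi
      obtain ⟨k', rfl⟩ : ∃ k', k = k' + 1 := ⟨k - 1, by omega⟩
      have := ih k' (Nat.lt_succ_self k') (Function.update p i (p i - 1)) (by omega)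
      exact (isDiffOpLE_iff_linearize_vanish k' _).mp this x hx

/-- the linearisation of `D_p` on `ξ`-monomials: the "dual basis" property -/
theorem linearize_Dp_xiL (l : List ι) : ∀ p : ι → ℕ,
    linearize A B B B (Dp p) (xiL (A := A) z l) = if (fun i => l.count i) = p then 1 else 0 := by
  induction l with
  | nil =>
    intro p
    rw [xiL_nil, Algebra.TensorProduct.one_def, linearize_tmul, one_smul]
    have h1 : (1 : B) = ∏ i, z i ^ (0 : ι → ℕ) i := by simp
    rw [h1, hDz]
    by_cases hp : (fun i => ([] : List ι).count i) = p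
    · rw [if_pos hp]
      subst hp
      simp
    · rw [if_neg hp]
      obtain ⟨i, hi⟩ : ∃ i, p i ≠ 0 := by
        by_contra hcon
        push Not at hcon
        apply hp
        funext i
        simp [hcon i]
      have : Nat.choose ((0 : ι → ℕ) i) (p i) = 0 :=
        Nat.choose_eq_zero_of_lt (by simp; omega)
      rw [Finset.prod_eq_zero (Finset.mem_univ i) this, Nat.cast_zero, zero_mul]
  | cons i l ih =>
    intro p
    rw [xiL_cons]
    change linearize A B B B (Dp p) (((1 : B) ⊗ₜ[A] z i - z i ⊗ₜ[A] (1 : B)) * _) = _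
    rw [← linearize_commutator, commutator_Dp z Dp hD hDz hspan p i]
    by_cases hpi : p i = 0
    · rw [if_pos hpi, linearize_zero, if_neg]
      intro h
      have := congrFun h i
      simp at this
      omega
    · rw [if_neg hpi, ih]
      congr 1
      apply propext
      constructor
      · intro h
        funext j
        have := congrFun h j
        by_cases hj : j = i
        · subst hj
          simp only [Function.update_self] at this
          simp only [List.count_cons_self]
          omega
        · rw [Function.update_of_ne hj] at this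
          rw [List.count_cons_of_ne (Ne.symm hj)]
          exact this
      · intro h
        funext j
        have := congrFun h j
        by_cases hj : j = i
        · subst hj
          simp only [List.count_cons_self] at this
          simp only [Function.update_self]
          omega
        · rw [List.count_cons_of_ne (Ne.symm hj)] at this
          rw [Function.update_of_ne hj]
          exact this

end fam

section basis
variable {A B : Type u} [CommRing A] [CommRing B] [Algebra A B] {ι : Type*} [Fintype ι]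
  [DecidableEq ι] (z : ι → B) (Dp : (ι → ℕ) → (B →ₗ[A] B))

omit [Fintype ι] in
theorem exists_list_count [Finite ι] (q : ι → ℕ) : ∃ l : List ι, ∀ i, l.count i = q i := by
  refine ⟨(Finsupp.toMultiset (Finsupp.equivFunOnFinite.symm q)).toList, fun i => ?_⟩
  rw [← Multiset.coe_count, Multiset.coe_toList, Finsupp.count_toMultiset]
  rfl

theorem list_length_eq_sum_count (l : List ι) : l.length = ∑ i, l.count i := by
  have := Multiset.sum_count_eq_card (s := Finset.univ) (m := (l : Multiset ι))
    (fun a _ => Finset.mem_univ a)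
  simpa using this.symm

variable (hD : ∀ p, ∃ k : ℕ, IsDiffOpLE A B B B k (Dp p))
  (hDz : ∀ p q : ι → ℕ, Dp p (∏ i, z i ^ q i) =
    ((∏ i, Nat.choose (q i) (p i) : ℕ) : B) * ∏ i, z i ^ (q i - p i))
  (hspan : SpanCondI (A := A) z)

include hD hDz hspan

/-- recovering the coefficients of a combination of the `D_p` -/
theorem linearize_finsupp_sum (m : ℕ) (c : {p : ι → ℕ // ∑ i, p i ≤ m} →₀ B) (l : List ι)
    (hl : ∑ i, l.count i ≤ m) :
    linearize A B B B (c.sum fun p x => x • Dp p.1) (xiL (A := A) z l) =
      c ⟨fun i => l.count i, hl⟩ := by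
  unfold Finsupp.sum
  rw [linearize_sum_op]
  simp_rw [linearize_smul_op, linearize_Dp_xiL z Dp hD hDz hspan]
  rw [Finset.sum_eq_single (⟨fun i => l.count i, hl⟩ : {p : ι → ℕ // ∑ i, p i ≤ m})]
  · rw [if_pos rfl, smul_eq_mul, mul_one]
  · intro p _ hp
    rw [if_neg, smul_zero]
    intro h
    apply hp
    exact Subtype.ext h.symm
  · intro h
    rw [Finsupp.notMem_support_iff.mp h, zero_smul]

/-- The `D_p` have order `≤ |p|` and those with `|p| ≤ m` form a basis of the operators of order
`≤ m`. -/
theorem dividedPower_basis :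
    (∀ p, IsDiffOpLE A B B B (∑ i, p i) (Dp p)) ∧
      ∀ (m : ℕ) (D : B →ₗ[A] B), IsDiffOpLE A B B B m D →
        ∃! a : {p : ι → ℕ // ∑ i, p i ≤ m} →₀ B, D = a.sum fun p c => c • Dp p.1 := by
  have hord : ∀ p, IsDiffOpLE A B B B (∑ i, p i) (Dp p) :=
    fun p => isDiffOpLE_Dp z Dp hD hDz hspan _ p rfl
  refine ⟨hord, fun m D hDm => ?_⟩
  have : Finite {p : ι → ℕ // ∑ i, p i ≤ m} := by
    refine Finite.of_injective
      (fun p : {p : ι → ℕ // ∑ i, p i ≤ m} => fun i => (⟨p.1 i, ?_⟩ : Fin (m + 1))) ?_
    · have : p.1 i ≤ ∑ j, p.1 j := Finset.single_le_sum (f := fun j => p.1 j)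
        (fun _ _ => Nat.zero_le _) (Finset.mem_univ i)
      have := p.2
      omega
    · intro p q h
      apply Subtype.ext
      funext i
      have := congrFun h i
      simpa using this
  choose lq hlq using exists_list_count (ι := ι)
  have hlen : ∀ q : {p : ι → ℕ // ∑ i, p i ≤ m}, ∑ i, (lq q.1).count i ≤ m := by
    intro q
    simp_rw [hlq]
    exact q.2
  have hq : ∀ q : {p : ι → ℕ // ∑ i, p i ≤ m},
      (⟨fun i => (lq q.1).count i, hlen q⟩ : {p : ι → ℕ // ∑ i, p i ≤ m}) = q :=
    fun q => Subtype.ext (funext (hlq q.1))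
  let a : {p : ι → ℕ // ∑ i, p i ≤ m} →₀ B :=
    Finsupp.equivFunOnFinite.symm (fun p => linearize A B B B D (xiL (A := A) z (lq p.1)))
  have ha : ∀ q, a q = linearize A B B B D (xiL (A := A) z (lq q.1)) := fun q => rfl
  have hsum : D = a.sum fun p c => c • Dp p.1 := by
    symm
    rw [← sub_eq_zero]
    have hordS : IsDiffOpLE A B B B m (a.sum fun p c => c • Dp p.1) := by
      unfold Finsupp.sum
      exact isDiffOpLE_sum m _ _ fun p _ => isDiffOpLE_smul (isDiffOpLE_mono p.2 (hord p.1)) _
    refine eq_zero_of_linearize_xiL z hspan m _ (isDiffOpLE_sub hordS hDm) fun l hl => ?_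
    have hl' : ∑ i, l.count i ≤ m := by rw [← list_length_eq_sum_count]; exact hl
    rw [linearize_sub_op, linearize_finsupp_sum z Dp hD hDz hspan m a l hl', ha, sub_eq_zero]
    congr 1
    apply xiL_perm
    rw [List.perm_iff_count]
    intro i
    rw [hlq]
  refine ⟨a, hsum, fun a' ha' => ?_⟩
  ext q
  have h1 := linearize_finsupp_sum z Dp hD hDz hspan m a' (lq q.1) (hlen q)
  rw [← ha', hq q] at h1
  rw [ha, h1]

end basis

end Groth.Agent.Lib.Helper14
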