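import Groth.Agent.Lib.Helper14.GroupFibreLoci2
import Groth.Agent.Lib.Helper14.FlatBaseChangeStalk

set_option autoImplicit false
universe u
open CategoryTheory CategoryTheory.Limits MonoidalCategory CartesianMonoidalCategory MonObj GrpObj
  AlgebraicGeometry

namespace Groth.Agent.Lib.Helper14

section GroupFibre3

variable {S : Scheme.{u}} {G H : Over S} [GrpObj G] [GrpObj H]

/-- Homogeneity of the flat locus of a homomorphism of group schemes with flat source. -/
theorem flat_stalkMap_iff_unit (u : G ⟶ H) [IsMonHom u] [Flat G.hom] (x : G.left) :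
    (u.left.stalkMap x).hom.Flat ↔ (u.left.stalkMap (η[G].left (G.hom x))).hom.Flat := by
  refine mem_locus_iff_unit_mem u (fun f => {x | (f.stalkMap x).hom.Flat})
    (fun e _ f x' => stalkMap_iso_comp_iff RingHom.Flat.respectsIso e f x')
    (fun f e _ x => stalkMap_comp_iso_iff RingHom.Flat.respectsIso f e x)
    (fun p => ?_) x
  have Hsq := isPullback_whiskerLeft_left u
  have hfl : Flat (snd G H).left := inferInstanceAs (Flat (pullback.snd G.hom H.hom))
  have hfl' : Flat (snd G G).left := inferInstanceAs (Flat (pullback.snd G.hom G.hom))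
  constructor
  · intro hp
    exact flat_stalkMap_of_commSq Hsq.w p (Flat.stalkMap _ _) hp (Flat.stalkMap _ _)
  · intro hp
    exact flat_stalkMap_fst_of_isPullback Hsq.flip p hp

/-- Over a base with a single point, a homomorphism of group schemes with flat source which is
flat at one point is flat. -/
theorem flat_of_flat_stalkMap_of_subsingleton [Subsingleton S] (u : G ⟶ H) [IsMonHom u]
    [Flat G.hom] (h : ∃ x : G.left, (u.left.stalkMap x).hom.Flat) : Flat u.left := by
  obtain ⟨x₀, hx₀⟩ := h
  refine Flat.of_stalkMap _ fun x => ?_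
  rw [flat_stalkMap_iff_unit] at hx₀ ⊢
  rw [Subsingleton.elim (G.hom x) (G.hom x₀)]
  exact hx₀

end GroupFibre3

end Groth.Agent.Lib.Helper14
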