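import Groth.Agent.Lib.Helper14.GroupHomogeneity
import Groth.Agent.Lib.Helper14.SmoothFibreRelScheme
import Groth.Agent.Lib.Helper14.UnramBaseChange
import Groth.Agent.Lib.Helper21.OfComp

set_option autoImplicit false
universe u
open CategoryTheory CategoryTheory.Limits MonoidalCategory CartesianMonoidalCategory MonObj GrpObj
  AlgebraicGeometry

namespace Groth.Agent.Lib.Helper14

section GroupFibre

variable {S : Scheme.{u}} {G H : Over S}

/-- The square exhibiting `G ◁ u : G ×_S G ⟶ G ×_S H` as the base change of `u` along the second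
projection. -/
theorem isPullback_whiskerLeft_left (u : G ⟶ H) :
    IsPullback (snd G G).left (G ◁ u).left u.left (snd G H).left := by
  have t : IsPullback (fst G H).left (snd G H).left G.hom H.hom :=
    IsPullback.of_hasPullback G.hom H.hom
  have s0 : IsPullback (fst G G).left (snd G G).left G.hom G.hom :=
    IsPullback.of_hasPullback G.hom G.hom
  have s : IsPullback ((G ◁ u).left ≫ (fst G H).left) (snd G G).left G.hom (u.left ≫ H.hom) := by
    have h1 : (G ◁ u).left ≫ (fst G H).left = (fst G G).left := Over.whiskerLeft_left_fst u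
    rw [h1, Over.w u]
    exact s0
  exact (IsPullback.of_right s (Over.whiskerLeft_left_snd u) t).flip

/-- The square exhibiting the base change `(Over.pullback φ).map u` as a base change of `u`. -/
theorem isPullback_overPullback_map_left (u : G ⟶ H) {T : Scheme.{u}} (φ : T ⟶ S) :
    IsPullback (pullback.fst G.hom φ) ((Over.pullback φ).map u).left u.left
      (pullback.fst H.hom φ) := by
  have t : IsPullback (pullback.fst H.hom φ) (pullback.snd H.hom φ) H.hom φ :=
    IsPullback.of_hasPullback _ _
  have s0 : IsPullback (pullback.fst G.hom φ) (pullback.snd G.hom φ) G.hom φ :=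
    IsPullback.of_hasPullback _ _
  have e1 : ((Over.pullback φ).map u).left ≫ pullback.snd H.hom φ = pullback.snd G.hom φ := by
    exact pullback.lift_snd _ _ _
  have e2 : pullback.fst G.hom φ ≫ u.left =
      ((Over.pullback φ).map u).left ≫ pullback.fst H.hom φ := by
    exact (pullback.lift_fst _ _ _).symm
  have s : IsPullback (pullback.fst G.hom φ)
      (((Over.pullback φ).map u).left ≫ pullback.snd H.hom φ) (u.left ≫ H.hom) φ := by
    rw [e1, Over.w u]
    exact s0
  exact IsPullback.of_bot s e2 t

theorem stalkMap_iso_comp_iff {P : ∀ {R S : Type u} [CommRing R] [CommRing S], (R →+* S) → Prop}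
    (hP : RingHom.RespectsIso @P) {X' X Y : Scheme.{u}} (e : X' ⟶ X) [IsOpenImmersion e] (f : X ⟶ Y)
    (x' : X') : P ((e ≫ f).stalkMap x').hom ↔ P (f.stalkMap (e x')).hom := by
  rw [Scheme.Hom.stalkMap_comp]
  exact hP.cancel_right_isIso (f.stalkMap (e x')) (e.stalkMap x')

theorem stalkMap_comp_iso_iff {P : ∀ {R S : Type u} [CommRing R] [CommRing S], (R →+* S) → Prop}
    (hP : RingHom.RespectsIso @P) {X Y Y' : Scheme.{u}} (f : X ⟶ Y) (e : Y ⟶ Y') [IsIso e]
    (x : X) : P ((f ≫ e).stalkMap x).hom ↔ P (f.stalkMap x).hom := by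
  rw [Scheme.Hom.stalkMap_comp]
  exact hP.cancel_left_isIso (e.stalkMap (f x)) (f.stalkMap x)

variable [GrpObj G] [GrpObj H]

set_option backward.isDefEq.respectTransparency.types false in
/-- Homogeneity of the smooth locus of a homomorphism of group schemes with flat source. -/
theorem mem_smoothLocus_iff_unit_mem (u : G ⟶ H) [IsMonHom u] [Flat G.hom]
    [LocallyOfFinitePresentation u.left] (x : G.left) :
    x ∈ u.left.smoothLocus ↔ η[G].left (G.hom x) ∈ u.left.smoothLocus := by
  refine mem_locus_iff_unit_mem u (fun f => {x | (f.stalkMap x).hom.FormallySmooth})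
    (fun e _ f x' => stalkMap_iso_comp_iff RingHom.FormallySmooth.respectsIso e f x')
    (fun f e _ x => stalkMap_comp_iso_iff RingHom.FormallySmooth.respectsIso f e x)
    (fun p => ?_) x
  have Hsq := isPullback_whiskerLeft_left u
  have hlfp : LocallyOfFinitePresentation (G ◁ u).left :=
    MorphismProperty.of_isPullback (P := @LocallyOfFinitePresentation) Hsq inferInstance
  have hfl : Flat (snd G H).left := inferInstanceAs (Flat (pullback.snd G.hom H.hom))
  constructor
  · intro hp
    exact mem_smoothLocus_fst_of_isPullback Hsq p (Flat.stalkMap _ _) hp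
  · intro hp
    exact mem_smoothLocus_of_isPullback Hsq p hp

/-- Homogeneity of the unramified locus of a homomorphism of group schemes. -/
theorem formallyUnramified_stalkMap_iff_unit (u : G ⟶ H) [IsMonHom u]
    [LocallyOfFiniteType u.left] (x : G.left) :
    (u.left.stalkMap x).hom.FormallyUnramified ↔
      (u.left.stalkMap (η[G].left (G.hom x))).hom.FormallyUnramified := by
  refine mem_locus_iff_unit_mem u (fun f => {x | (f.stalkMap x).hom.FormallyUnramified})
    (fun e _ f x' => stalkMap_iso_comp_iff RingHom.FormallyUnramified.respectsIso e f x')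
    (fun f e _ x => stalkMap_comp_iso_iff RingHom.FormallyUnramified.respectsIso f e x)
    (fun p => ?_) x
  exact formallyUnramified_stalkMap_iff_of_isPullback (isPullback_whiskerLeft_left u) p

theorem unit_comp_hom_apply (s : S) : G.hom (η[G].left s) = s := by
  have h : η[G].left ≫ G.hom = 𝟙 S := Over.w η[G]
  have := congr($(h) s)
  rw [Scheme.Hom.comp_apply] at this
  exact this

omit [GrpObj G] in
theorem hom_fst_apply_of_const {T : Scheme.{u}} (φ : T ⟶ S) (s : S) (hφ : ∀ t, φ t = s)
    (x' : ↥(pullback G.hom φ)) : G.hom (pullback.fst G.hom φ x') = s := by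
  have h1 : (pullback.fst G.hom φ ≫ G.hom) x' = (pullback.snd G.hom φ ≫ φ) x' := by
    rw [pullback.condition]
  rw [Scheme.Hom.comp_apply, Scheme.Hom.comp_apply, hφ] at h1
  exact h1

set_option backward.isDefEq.respectTransparency.types false in
/-- The fibre `u_s` of a homomorphism of group schemes (flat, lfp source) is smooth iff `u` is
smooth at the unit point of the fibre. -/
theorem smooth_fibre_iff_unit_mem_smoothLocus_aux (u : G ⟶ H) [IsMonHom u] [Flat G.hom]
    [LocallyOfFinitePresentation u.left] {K : CommRingCat.{u}} (hK : IsField K)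
    (φ : Spec K ⟶ S) (s : S) (hφ : ∀ t, φ t = s) (t₀ : Spec K) :
    Smooth ((Over.pullback φ).map u).left ↔ η[G].left s ∈ u.left.smoothLocus := by
  have HX := isPullback_overPullback_map_left u φ
  have HY : IsPullback (pullback.fst H.hom φ) (pullback.snd H.hom φ) H.hom φ :=
    IsPullback.of_hasPullback _ _
  have hlfpK : LocallyOfFinitePresentation ((Over.pullback φ).map u).left :=
    MorphismProperty.of_isPullback (P := @LocallyOfFinitePresentation) HX inferInstance
  constructor
  · intro hsm
    have hpt : G.hom (η[G].left s) = φ t₀ := by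
      rw [unit_comp_hom_apply, hφ]
    obtain ⟨x', hx'1, -⟩ := Scheme.Pullback.exists_preimage_pullback (f := G.hom) (g := φ)
      (η[G].left s) t₀ hpt
    have hflat : ((u.left ≫ H.hom).stalkMap (η[G].left s)).hom.Flat := by
      have : Flat (u.left ≫ H.hom) := by rw [Over.w u]; infer_instance
      exact Flat.stalkMap _ _
    exact mem_smoothLocus_of_isPullback_field_rel (K := K) hK
      HY HX x' (η[G].left s) hx'1 hflat (by rw [Scheme.Hom.smoothLocus_eq_top]; trivial)
  · intro hη
    rw [← Scheme.Hom.smoothLocus_eq_top_iff]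
    refine eq_top_iff.mpr fun x' _ => ?_
    have hx : G.hom (pullback.fst G.hom φ x') = s := hom_fst_apply_of_const φ s hφ x'
    have hmem : pullback.fst G.hom φ x' ∈ u.left.smoothLocus := by
      rw [mem_smoothLocus_iff_unit_mem, hx]
      exact hη
    exact mem_smoothLocus_of_isPullback HX x' hmem

theorem smooth_fibre_iff_unit_mem_smoothLocus (u : G ⟶ H) [IsMonHom u] [Flat G.hom]
    [LocallyOfFinitePresentation u.left] (s : S) :
    Smooth ((Over.pullback (S.fromSpecResidueField s)).map u).left ↔
      η[G].left s ∈ u.left.smoothLocus :=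
  smooth_fibre_iff_unit_mem_smoothLocus_aux u (Field.toIsField _) (S.fromSpecResidueField s) s
    (fun t => Scheme.fromSpecResidueField_apply s t) (IsLocalRing.closedPoint _)

/-- A morphism locally of finite type is formally unramified as soon as all its stalk maps are. -/
theorem formallyUnramified_of_stalkMap {X Y : Scheme.{u}} (f : X ⟶ Y) [LocallyOfFiniteType f]
    (h : ∀ x : X, (f.stalkMap x).hom.FormallyUnramified) : FormallyUnramified f := by
  have key : ∀ x : X, ∃ V : X.Opens, x ∈ V ∧ FormallyUnramified (V.ι ≫ f) := fun x =>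
    (exists_formallyUnramified_nhd_iff_stalkMap f x).mpr (h x)
  choose V hxV hV using key
  have : IsZariskiLocalAtSource @FormallyUnramified :=
    HasRingHomProperty.instIsZariskiLocalAtSource (P := @FormallyUnramified)
      (Q := RingHom.FormallyUnramified)
  exact IsZariskiLocalAtSource.of_iSup_eq_top V
    (eq_top_iff.mpr fun x _ => TopologicalSpace.Opens.mem_iSup.mpr ⟨x, hxV x⟩) hV

/-- The fibre `u_s` of a homomorphism of group schemes is unramified iff `u` is unramified at the
unit point of the fibre. -/
theorem formallyUnramified_fibre_iff_unit_aux (u : G ⟶ H) [IsMonHom u]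
    [LocallyOfFiniteType u.left] {T : Scheme.{u}} (φ : T ⟶ S) (s : S) (hφ : ∀ t, φ t = s)
    (t₀ : T) :
    FormallyUnramified ((Over.pullback φ).map u).left ↔
      (u.left.stalkMap (η[G].left s)).hom.FormallyUnramified := by
  have HX := isPullback_overPullback_map_left u φ
  have hlftK : LocallyOfFiniteType ((Over.pullback φ).map u).left :=
    MorphismProperty.of_isPullback (P := @LocallyOfFiniteType) HX inferInstance
  constructor
  · intro hunr
    have hpt : G.hom (η[G].left s) = φ t₀ := by
      rw [unit_comp_hom_apply, hφ]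
    obtain ⟨x', hx'1, -⟩ := Scheme.Pullback.exists_preimage_pullback (f := G.hom) (g := φ)
      (η[G].left s) t₀ hpt
    rw [← hx'1]
    exact (formallyUnramified_stalkMap_iff_of_isPullback HX x').mp
      (FormallyUnramified.stalkMap _ x')
  · intro hη
    refine formallyUnramified_of_stalkMap _ fun x' => ?_
    have hx : G.hom (pullback.fst G.hom φ x') = s := hom_fst_apply_of_const φ s hφ x'
    rw [formallyUnramified_stalkMap_iff_of_isPullback HX x',
      formallyUnramified_stalkMap_iff_unit, hx]
    exact hη

theorem formallyUnramified_fibre_iff_unit (u : G ⟶ H) [IsMonHom u]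
    [LocallyOfFiniteType u.left] (s : S) :
    FormallyUnramified ((Over.pullback (S.fromSpecResidueField s)).map u).left ↔
      (u.left.stalkMap (η[G].left s)).hom.FormallyUnramified :=
  formallyUnramified_fibre_iff_unit_aux u (S.fromSpecResidueField s) s
    (fun t => Scheme.fromSpecResidueField_apply s t) (IsLocalRing.closedPoint _)

/-- The locus where a morphism locally of finite type is formally unramified is open. -/
theorem isOpen_setOf_formallyUnramified_stalkMap {X Y : Scheme.{u}} (f : X ⟶ Y)
    [LocallyOfFiniteType f] : IsOpen {x : X | (f.stalkMap x).hom.FormallyUnramified} := by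
  rw [isOpen_iff_forall_mem_open]
  intro x hx
  obtain ⟨V, hxV, hV⟩ := (exists_formallyUnramified_nhd_iff_stalkMap f x).mpr hx
  refine ⟨V, fun y hy => ?_, V.isOpen, hxV⟩
  exact (exists_formallyUnramified_nhd_iff_stalkMap f y).mp ⟨V, hy, hV⟩

/-- SGA 3 VI_B 2.5 (smooth case). -/
theorem isOpen_setOf_smooth_fibre_and_eq (u : G ⟶ H) [IsMonHom u] [Flat G.hom]
    [LocallyOfFinitePresentation u.left] :
    IsOpen {s : S | Smooth ((Over.pullback (S.fromSpecResidueField s)).map u).left} ∧
    {x : G.left | ∃ W : G.left.Opens, x ∈ W ∧ Smooth (W.ι ≫ u.left)} =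
      G.hom.base ⁻¹' {s : S | Smooth ((Over.pullback (S.fromSpecResidueField s)).map u).left} := by
  have h1 : {s : S | Smooth ((Over.pullback (S.fromSpecResidueField s)).map u).left} =
      η[G].left ⁻¹' (u.left.smoothLocus : Set G.left) := by
    ext s
    exact smooth_fibre_iff_unit_mem_smoothLocus u s
  refine ⟨?_, ?_⟩
  · rw [h1]
    exact u.left.smoothLocus.isOpen.preimage η[G].left.continuous
  · ext x
    rw [Set.mem_ofPred_eq, exists_smooth_nhd_iff_mem_smoothLocus, h1,
      mem_smoothLocus_iff_unit_mem]
    rfl

/-- SGA 3 VI_B 2.5 (unramified case). -/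
theorem isOpen_setOf_formallyUnramified_fibre_and_eq (u : G ⟶ H) [IsMonHom u]
    [LocallyOfFiniteType u.left] :
    IsOpen {s : S | FormallyUnramified
      ((Over.pullback (S.fromSpecResidueField s)).map u).left} ∧
    {x : G.left | ∃ W : G.left.Opens, x ∈ W ∧ FormallyUnramified (W.ι ≫ u.left)} =
      G.hom.base ⁻¹' {s : S | FormallyUnramified
        ((Over.pullback (S.fromSpecResidueField s)).map u).left} := by
  have h1 : {s : S | FormallyUnramified
      ((Over.pullback (S.fromSpecResidueField s)).map u).left} =
      η[G].left ⁻¹' {x : G.left | (u.left.stalkMap x).hom.FormallyUnramified} := by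
    ext s
    exact formallyUnramified_fibre_iff_unit u s
  refine ⟨?_, ?_⟩
  · rw [h1]
    exact (isOpen_setOf_formallyUnramified_stalkMap u.left).preimage η[G].left.continuous
  · ext x
    rw [Set.mem_ofPred_eq, exists_formallyUnramified_nhd_iff_stalkMap, h1,
      formallyUnramified_stalkMap_iff_unit]
    rfl

theorem etale_iff_smooth_and_formallyUnramified {X Y : Scheme.{u}} (f : X ⟶ Y) :
    Etale f ↔ Smooth f ∧ FormallyUnramified f := by
  constructor
  · intro h
    exact ⟨inferInstance, inferInstance⟩
  · rintro ⟨h1, h2⟩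
    have : Flat f := inferInstance
    exact Etale.of_formallyUnramified_of_flat f

/-- Pointwise characterisation of being étale near a point. -/
theorem exists_etale_nhd_iff {X Y : Scheme.{u}} (f : X ⟶ Y) [LocallyOfFinitePresentation f]
    (x : X) : (∃ W : X.Opens, x ∈ W ∧ Etale (W.ι ≫ f)) ↔
      x ∈ f.smoothLocus ∧ (f.stalkMap x).hom.FormallyUnramified := by
  constructor
  · rintro ⟨W, hxW, hW⟩
    exact ⟨(exists_smooth_nhd_iff_mem_smoothLocus f x).mp ⟨W, hxW, inferInstance⟩,
      (exists_formallyUnramified_nhd_iff_stalkMap f x).mp ⟨W, hxW, inferInstance⟩⟩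
  · rintro ⟨h1, h2⟩
    let W : X.Opens := f.smoothLocus ⊓ ⟨_, isOpen_setOf_formallyUnramified_stalkMap f⟩
    refine ⟨W, ⟨h1, h2⟩, ?_⟩
    rw [etale_iff_smooth_and_formallyUnramified]
    constructor
    · rw [← Scheme.Hom.smoothLocus_eq_top_iff, ← Scheme.Hom.preimage_smoothLocus_eq]
      refine eq_top_iff.mpr fun z _ => ?_
      exact z.2.1
    · refine formallyUnramified_of_stalkMap _ fun z => ?_
      rw [stalkMap_iso_comp_iff RingHom.FormallyUnramified.respectsIso]
      exact z.2.2

/-- SGA 3 VI_B 2.5 (étale case). -/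
theorem isOpen_setOf_etale_fibre_and_eq (u : G ⟶ H) [IsMonHom u] [Flat G.hom]
    [LocallyOfFinitePresentation u.left] :
    IsOpen {s : S | Etale ((Over.pullback (S.fromSpecResidueField s)).map u).left} ∧
    {x : G.left | ∃ W : G.left.Opens, x ∈ W ∧ Etale (W.ι ≫ u.left)} =
      G.hom.base ⁻¹' {s : S | Etale ((Over.pullback (S.fromSpecResidueField s)).map u).left} := by
  have h1 : {s : S | Etale ((Over.pullback (S.fromSpecResidueField s)).map u).left} =
      η[G].left ⁻¹' ((u.left.smoothLocus : Set G.left) ∩
        {x : G.left | (u.left.stalkMap x).hom.FormallyUnramified}) := by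
    ext s
    rw [Set.mem_ofPred_eq, etale_iff_smooth_and_formallyUnramified,
      smooth_fibre_iff_unit_mem_smoothLocus, formallyUnramified_fibre_iff_unit]
    rfl
  refine ⟨?_, ?_⟩
  · rw [h1]
    exact (u.left.smoothLocus.isOpen.inter
      (isOpen_setOf_formallyUnramified_stalkMap u.left)).preimage η[G].left.continuous
  · ext x
    rw [Set.mem_ofPred_eq, exists_etale_nhd_iff, h1, mem_smoothLocus_iff_unit_mem,
      formallyUnramified_stalkMap_iff_unit]
    rfl

end GroupFibre

end Groth.Agent.Lib.Helper14
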