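import Mathlib
import Groth.Agent.Lib.Helper14.GroupFibreLoci
import Groth.Agent.Lib.Helper50.RedBC

/-!
# Every point of a group scheme over a field is a product of two maximal points
(SGA3 VI_A/VI_B, not necessarily of finite type)
-/

set_option autoImplicit false
universe u
open CategoryTheory CategoryTheory.Limits MonoidalCategory CartesianMonoidalCategory MonObj GrpObj
  AlgebraicGeometry

namespace Groth.Agent.Lib.Helper14

section DivIso

variable {C : Type*} [Category C] [CartesianMonoidalCategory C] {G : C} [GrpObj G]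

/-- The automorphism `(a, c) ↦ (a⁻¹ c, c)` of `G ⊗ G`. -/
noncomputable def divIso : G ⊗ G ≅ G ⊗ G where
  hom := lift ((fst G G)⁻¹ * snd G G) (snd G G)
  inv := lift (snd G G * (fst G G)⁻¹) (snd G G)
  hom_inv_id := by
    apply CartesianMonoidalCategory.hom_ext
    · simp [MonObj.comp_mul, GrpObj.comp_inv]
    · simp
  inv_hom_id := by
    apply CartesianMonoidalCategory.hom_ext
    · simp [MonObj.comp_mul, GrpObj.comp_inv]
    · simp

theorem divIso_hom_snd : (divIso (G := G)).hom ≫ snd G G = snd G G := by simp [divIso]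

theorem divIso_inv_snd : (divIso (G := G)).inv ≫ snd G G = snd G G := by simp [divIso]

theorem divIso_hom_fst : (divIso (G := G)).hom ≫ fst G G = (shearIso (𝟙 G)).inv ≫ snd G G := by
  simp [divIso, shearIso]

theorem shearIso_inv_fst : (shearIso (𝟙 G)).inv ≫ fst G G = fst G G := by simp [shearIso]

end DivIso

/-- A maximal point of a fibre of `s` is sent by `π` (after an automorphism preserving `s`) to a
maximal point, provided `π` restricted to the fibre is generalizing. -/
theorem eq_of_specializes_of_fibre {Z Y X : Scheme.{u}} (s : Z ⟶ Y) (π : Z ⟶ X) (x : Y)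
    (Θ : Z ≅ Z) (hΘ : Θ.hom ≫ s = s) (hgen : GeneralizingMap (s.fiberι x ≫ π))
    (ζ : s.fiber x) (hζ : ∀ ζ' : s.fiber x, ζ' ⤳ ζ → ζ' = ζ) (y : X)
    (hy : y ⤳ π (Θ.hom (s.fiberι x ζ))) :
    y = π (Θ.hom (s.fiberι x ζ)) := by
  have hΘ' : Θ.inv ≫ s = s := by
    conv_lhs => rw [← hΘ]
    rw [Iso.inv_hom_id_assoc]
  have hrange : ∀ w : Z, s w = x → ∃ ζ', s.fiberι x ζ' = w := by
    intro w hw
    have : w ∈ Set.range (s.fiberι x) := by rw [Scheme.Hom.range_fiberι]; exact hw
    exact this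
  have hsj : ∀ ζ', s (s.fiberι x ζ') = x := by
    intro ζ'
    have : s.fiberι x ζ' ∈ Set.range (s.fiberι x) := ⟨ζ', rfl⟩
    rw [Scheme.Hom.range_fiberι] at this
    exact this
  -- Step 1
  have h1 : s (Θ.hom (s.fiberι x ζ)) = x := by
    have : (Θ.hom ≫ s) (s.fiberι x ζ) = x := by rw [hΘ]; exact hsj ζ
    exact this
  obtain ⟨ζ', hζ'⟩ := hrange _ h1
  -- Step 2
  have hζ'max : ∀ ζ₂ : s.fiber x, ζ₂ ⤳ ζ' → ζ₂ = ζ' := by
    intro ζ₂ hsp
    have h2 : s.fiberι x ζ₂ ⤳ s.fiberι x ζ' := hsp.map (s.fiberι x).continuous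
    have h3 : Θ.inv (s.fiberι x ζ₂) ⤳ Θ.inv (s.fiberι x ζ') := h2.map Θ.inv.continuous
    have h4 : Θ.inv (s.fiberι x ζ') = s.fiberι x ζ := by
      rw [hζ']; exact Scheme.hom_inv_apply Θ (s.fiberι x ζ)
    rw [h4] at h3
    have h5 : s (Θ.inv (s.fiberι x ζ₂)) = x := by
      have : (Θ.inv ≫ s) (s.fiberι x ζ₂) = x := by rw [hΘ']; exact hsj ζ₂
      exact this
    obtain ⟨ζ₃, hζ₃⟩ := hrange _ h5
    rw [← hζ₃] at h3
    have h6 : ζ₃ ⤳ ζ := (s.fiberι x).isEmbedding.isInducing.specializes_iff.mp h3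
    have h7 := hζ ζ₃ h6
    rw [h7] at hζ₃
    have h8 : s.fiberι x ζ₂ = Θ.hom (s.fiberι x ζ) := by
      rw [hζ₃]; exact (Scheme.inv_hom_apply Θ (s.fiberι x ζ₂)).symm
    rw [← hζ'] at h8
    exact (s.fiberι x).isEmbedding.injective h8
  -- Step 3
  rw [← hζ'] at hy ⊢
  have hy' : y ⤳ (s.fiberι x ≫ π) ζ' := hy
  obtain ⟨ζ₂, hsp, hζ₂⟩ := hgen hy'
  rw [hζ'max ζ₂ hsp] at hζ₂
  exact hζ₂.symm

section Maximal

variable {k : Type u} [Field k] {G : Over (Spec (CommRingCat.of k))}

/-- The first projection restricted to a fibre of the second projection is flat. -/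
theorem flat_fiberι_comp_fst (x : G.left) :
    Flat ((snd G G).left.fiberι x ≫ (fst G G).left) := by
  have A : IsPullback ((snd G G).left.fiberι x) ((snd G G).left.fiberToSpecResidueField x)
      (snd G G).left (G.left.fromSpecResidueField x) := IsPullback.of_hasPullback _ _
  have B : IsPullback (fst G G).left (snd G G).left G.hom G.hom :=
    IsPullback.of_hasPullback G.hom G.hom
  have AB := A.paste_horiz B
  have hfl : Flat (G.left.fromSpecResidueField x ≫ G.hom) := inferInstance
  exact MorphismProperty.of_isPullback AB.flip hfl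

variable [GrpObj G]

/-- Every point of a group scheme over a field is the product of two maximal points. -/
theorem exists_mul_eq_and_maximal (x : G.left) :
    ∃ z : (G ⊗ G).left, μ[G].left z = x ∧
      closure {(fst G G).left z} ∈ irreducibleComponents G.left ∧
      closure {(snd G G).left z} ∈ irreducibleComponents G.left := by
  let s : (G ⊗ G).left ⟶ G.left := (snd G G).left
  let j : s.fiber x ⟶ (G ⊗ G).left := s.fiberι x
  have hgen : GeneralizingMap (s.fiberι x ≫ (fst G G).left) := by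
    have := flat_fiberι_comp_fst (G := G) x
    exact Flat.generalizingMap _
  -- the fibre is nonempty
  have hne : ∃ ζ₀ : s.fiber x, True := by
    let w₀ : (G ⊗ G).left := (lift (toUnit G ≫ η[G]) (𝟙 G)).left x
    have hw₀ : s w₀ = x := by
      have e0 : (lift (toUnit G ≫ η[G]) (𝟙 G)).left ≫ s = 𝟙 G.left := by
        show (lift (toUnit G ≫ η[G]) (𝟙 G) ≫ snd G G).left = (𝟙 G : G ⟶ G).left
        rw [lift_snd]
      have : ((lift (toUnit G ≫ η[G]) (𝟙 G)).left ≫ s) x = x := by rw [e0]; rfl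
      exact this
    have : w₀ ∈ Set.range j := by rw [Scheme.Hom.range_fiberι]; exact hw₀
    obtain ⟨ζ₀, -⟩ := this
    exact ⟨ζ₀, trivial⟩
  obtain ⟨ζ₀, -⟩ := hne
  obtain ⟨ζ, hζgen⟩ := QuasiSober.sober (isIrreducible_irreducibleComponent (x := ζ₀))
    isClosed_irreducibleComponent
  have hζcomp : closure {ζ} ∈ irreducibleComponents (s.fiber x) := by
    rw [hζgen.def]; exact irreducibleComponent_mem_irreducibleComponents ζ₀
  have hζ : ∀ ζ' : s.fiber x, ζ' ⤳ ζ → ζ' = ζ :=
    Groth.Agent.Lib.Helper50.eq_of_specializes_of_closure_mem_irreducibleComponents hζcomp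
  let τ : (G ⊗ G).left ≅ (G ⊗ G).left := (Over.forget _).mapIso (shearIso (𝟙 G))
  let Θ : (G ⊗ G).left ≅ (G ⊗ G).left := (Over.forget _).mapIso (divIso (G := G))
  have hΘ : Θ.hom ≫ s = s := by
    show ((divIso (G := G)).hom ≫ snd G G).left = (snd G G).left
    rw [divIso_hom_snd]
  have hΘfst : Θ.hom ≫ (fst G G).left = τ.inv ≫ s := by
    show ((divIso (G := G)).hom ≫ fst G G).left = ((shearIso (𝟙 G)).inv ≫ snd G G).left
    rw [divIso_hom_fst]
  have hτfst : τ.inv ≫ (fst G G).left = (fst G G).left := by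
    show ((shearIso (𝟙 G)).inv ≫ fst G G).left = (fst G G).left
    rw [shearIso_inv_fst]
  have hτμ : τ.hom ≫ s = μ[G].left := by
    show ((shearIso (𝟙 G)).hom ≫ snd G G).left = μ[G].left
    rw [shearIso_id_snd]
  have hsj : s (j ζ) = x := by
    have : j ζ ∈ Set.range j := ⟨ζ, rfl⟩
    rw [Scheme.Hom.range_fiberι] at this
    exact this
  refine ⟨τ.inv (j ζ), ?_, ?_, ?_⟩
  · have e0 : (τ.hom ≫ s) (τ.inv (j ζ)) = x := by
      rw [Scheme.Hom.comp_apply, Scheme.inv_hom_apply]
      exact hsj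
    rw [hτμ] at e0
    exact e0
  · have e1 : (fst G G).left (τ.inv (j ζ)) =
        (fst G G).left ((Iso.refl ((G ⊗ G).left : Scheme.{u})).hom (j ζ)) := by
      have : (τ.inv ≫ (fst G G).left) (j ζ) = (fst G G).left (j ζ) := by rw [hτfst]
      exact this
    rw [e1]
    refine Groth.Agent.Lib.Helper50.closure_mem_irreducibleComponents_of_forall_specializes
      fun y hy => ?_
    exact eq_of_specializes_of_fibre s (fst G G).left x (Iso.refl _) (Category.id_comp _) hgen
      ζ hζ y hy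
  · have e1 : s (τ.inv (j ζ)) = (fst G G).left (Θ.hom (j ζ)) := by
      have : (τ.inv ≫ s) (j ζ) = (Θ.hom ≫ (fst G G).left) (j ζ) := by rw [hΘfst]
      exact this
    have e2 : (snd G G).left (τ.inv (j ζ)) = (fst G G).left (Θ.hom (j ζ)) := e1
    rw [e2]
    refine Groth.Agent.Lib.Helper50.closure_mem_irreducibleComponents_of_forall_specializes
      fun y hy => ?_
    exact eq_of_specializes_of_fibre s (fst G G).left x Θ hΘ hgen ζ hζ y hy

end Maximal

end Groth.Agent.Lib.Helper14
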