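import Mathlib
import Groth.Agent.Lib.Helper14.GroupMaximalPoints
import Groth.Agent.Lib.Helper14.GroupFibreLoci3

/-!
# Quasi-compact dominant morphisms hit all maximal points; dominant qc homs of group schemes
over a field are surjective (SGA3 VI_B 1.2 style)
-/

set_option autoImplicit false
universe u
open CategoryTheory CategoryTheory.Limits MonoidalCategory CartesianMonoidalCategory MonObj GrpObj
  AlgebraicGeometry

namespace Groth.Agent.Lib.Helper14

/-- Ring-level: a point without proper generizations in the closure of the image of `Spec φ`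
is in the image. -/
theorem mem_range_comap_of_mem_closure {A B : Type*} [CommRing A] [CommRing B] (φ : A →+* B)
    (p : PrimeSpectrum A) (hp : p ∈ closure (Set.range (PrimeSpectrum.comap φ)))
    (hmax : ∀ q : PrimeSpectrum A, q ⤳ p → q = p) :
    p ∈ Set.range (PrimeSpectrum.comap φ) := by
  rw [PrimeSpectrum.closure_range_comap, PrimeSpectrum.mem_zeroLocus] at hp
  have hmin : p.asIdeal ∈ ((⊥ : Ideal B).comap φ).minimalPrimes := by
    rw [← RingHom.ker_eq_comap_bot]
    refine ⟨⟨p.2, hp⟩, fun q hq hqp => ?_⟩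
    have : (⟨q, hq.1⟩ : PrimeSpectrum A) = p :=
      hmax _ ((PrimeSpectrum.le_iff_specializes _ _).mp hqp)
    rw [← this]
  obtain ⟨p', hp', -, e⟩ := Ideal.exists_comap_eq_of_mem_minimalPrimes φ p.asIdeal hmin
  exact ⟨⟨p', hp'⟩, PrimeSpectrum.ext e⟩

/-- A quasi-compact dominant morphism hits every point without proper generizations. -/
theorem mem_range_of_denseRange_of_forall_specializes {X Y : Scheme.{u}} (f : X ⟶ Y)
    [QuasiCompact f] (hf : DenseRange f) (ξ : Y) (hξ : ∀ y : Y, y ⤳ ξ → y = ξ) :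
    ξ ∈ Set.range f := by
  obtain ⟨V, hV, hξV⟩ : ∃ V : Y.Opens, IsAffineOpen V ∧ ξ ∈ V := by
    obtain ⟨_, ⟨V, hV, rfl⟩, h1, -⟩ :=
      Y.isBasis_affineOpens.exists_subset_of_mem_open (Set.mem_univ ξ) isOpen_univ
    exact ⟨V, hV, h1⟩
  have hc : IsCompact (f ⁻¹ᵁ V : Set X) := f.isCompact_preimage hV.isCompact
  obtain ⟨s, hs, hsU⟩ :=
    isCompact_and_isOpen_iff_finite_and_eq_biUnion_affineOpens.mp ⟨hc, (f ⁻¹ᵁ V).2⟩
  have h1 : ξ ∈ closure ((V : Set Y) ∩ Set.range f) := V.2.inter_closure ⟨hξV, hf ξ⟩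
  rw [← Set.image_preimage_eq_inter_range] at h1
  have h2 : (f ⁻¹' (V : Set Y)) = ⋃ i ∈ s, ((i : X.Opens) : Set X) := hsU
  rw [h2, Set.image_iUnion₂, hs.closure_biUnion] at h1
  obtain ⟨W, hWs, hξW⟩ := Set.mem_iUnion₂.mp h1
  have hWV : (W : X.Opens) ≤ f ⁻¹ᵁ V := by
    intro x hx
    have : x ∈ ⋃ i ∈ s, ((i : X.Opens) : Set X) := Set.mem_iUnion₂.mpr ⟨W, hWs, hx⟩
    rw [← h2] at this
    exact this
  have hW : IsAffineOpen (W : X.Opens) := W.2
  let φ := f.appLE V W hWV
  have hcomm : Spec.map φ ≫ hV.fromSpec = hW.fromSpec ≫ f :=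
    IsAffineOpen.SpecMap_appLE_fromSpec f hV hW hWV
  -- the point of `Spec Γ(V)` corresponding to `ξ`
  obtain ⟨p, hp⟩ : ∃ p, hV.fromSpec p = ξ := by
    have : ξ ∈ Set.range hV.fromSpec := by rw [hV.range_fromSpec]; exact hξV
    exact this
  -- image of W
  have himg : f '' ((W : X.Opens) : Set X) = hV.fromSpec '' Set.range (Spec.map φ) := by
    rw [← hW.range_fromSpec, ← Set.range_comp, ← Set.range_comp]
    have : (f : X → Y) ∘ hW.fromSpec = hV.fromSpec ∘ Spec.map φ := by
      funext z
      have : (hW.fromSpec ≫ f) z = (Spec.map φ ≫ hV.fromSpec) z := by rw [hcomm]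
      exact this
    rw [this]
  rw [himg] at hξW
  have hemb : Topology.IsOpenEmbedding hV.fromSpec := hV.fromSpec.isOpenEmbedding
  have hpcl : p ∈ closure (Set.range (Spec.map φ)) := by
    rw [hemb.isInducing.closure_eq_preimage_closure_image]
    rw [Set.mem_preimage, hp]; exact hξW
  have hpmax : ∀ q, q ⤳ p → q = p := by
    intro q hq
    have h3 : hV.fromSpec q ⤳ hV.fromSpec p := hq.map hV.fromSpec.continuous
    rw [hp] at h3
    have h4 := hξ _ h3
    rw [← hp] at h4
    exact hemb.injective h4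
  obtain ⟨p', hp'⟩ := mem_range_comap_of_mem_closure φ.hom p hpcl hpmax
  refine ⟨hW.fromSpec p', ?_⟩
  have : (hW.fromSpec ≫ f) p' = (Spec.map φ ≫ hV.fromSpec) p' := by rw [hcomm]
  refine this.trans ?_
  rw [← hp]
  show hV.fromSpec (Spec.map φ p') = _
  congr 1


theorem exists_of_isPullback' {P X Y Z : Scheme.{u}} {fst' : P ⟶ X} {snd' : P ⟶ Y} {f : X ⟶ Z}
    {g : Y ⟶ Z} (h : IsPullback fst' snd' f g) (x : X) (y : Y) (hxy : f x = g y) :
    ∃ p : P, fst' p = x ∧ snd' p = y := by
  obtain ⟨z, hz1, hz2⟩ := Scheme.Pullback.exists_preimage_pullback x y hxy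
  refine ⟨h.isoPullback.inv z, ?_, ?_⟩
  · have : (h.isoPullback.inv ≫ fst') z = x := by rw [h.isoPullback_inv_fst]; exact hz1
    exact this
  · have : (h.isoPullback.inv ≫ snd') z = y := by rw [h.isoPullback_inv_snd]; exact hz2
    exact this

section TensorRange

variable {S : Scheme.{u}}

/-- `X ◁ f` is the base change of `f` along the second projection. -/
theorem isPullback_whiskerLeft_snd' (X : Over S) {Y Z : Over S} (f : Y ⟶ Z) :
    IsPullback (X ◁ f).left (snd X Y).left (snd X Z).left f.left := by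
  have hright : IsPullback (pullback.fst X.hom Z.hom) (pullback.snd X.hom Z.hom) X.hom Z.hom :=
    IsPullback.of_hasPullback _ _
  have houter : IsPullback ((X ◁ f).left ≫ pullback.fst X.hom Z.hom) (pullback.snd X.hom Y.hom)
      X.hom (f.left ≫ Z.hom) := by
    rw [Over.whiskerLeft_left_fst, Over.w f]
    exact IsPullback.of_hasPullback _ _
  exact IsPullback.of_right houter (Over.whiskerLeft_left_snd f) hright

/-- `f ▷ X` is the base change of `f` along the first projection. -/
theorem isPullback_whiskerRight_fst' (X : Over S) {Y Z : Over S} (f : Y ⟶ Z) :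
    IsPullback (f ▷ X).left (fst Y X).left (fst Z X).left f.left := by
  have hright : IsPullback (pullback.snd Z.hom X.hom) (pullback.fst Z.hom X.hom) X.hom Z.hom :=
    (IsPullback.of_hasPullback _ _).flip
  have houter : IsPullback ((f ▷ X).left ≫ pullback.snd Z.hom X.hom) (pullback.fst Y.hom X.hom)
      X.hom (f.left ≫ Z.hom) := by
    rw [Over.whiskerRight_left_snd, Over.w f]
    exact (IsPullback.of_hasPullback _ _).flip
  exact IsPullback.of_right houter (Over.whiskerRight_left_fst f) hright

/-- A point of `H ×_S H'` whose two projections are in the ranges of `f`, `g` is in the range of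
`f ×_S g`. -/
theorem mem_range_tensorHom_left {G G' H H' : Over S} (f : G ⟶ H) (g : G' ⟶ H')
    (z : (H ⊗ H').left) (h1 : (fst H H').left z ∈ Set.range f.left)
    (h2 : (snd H H').left z ∈ Set.range g.left) : z ∈ Set.range (f ⊗ₘ g).left := by
  obtain ⟨b, hb⟩ := h2
  obtain ⟨w, hw1, hw2⟩ := exists_of_isPullback' (isPullback_whiskerLeft_snd' H g) z b hb.symm
  have hfw : (fst H G').left w ∈ Set.range f.left := by
    have e : (H ◁ g).left ≫ (fst H H').left = (fst H G').left := Over.whiskerLeft_left_fst g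
    have : ((H ◁ g).left ≫ (fst H H').left) w = (fst H G').left w := by rw [e]
    rw [← this]
    show (fst H H').left ((H ◁ g).left w) ∈ _
    rw [hw1]; exact h1
  obtain ⟨a, ha⟩ := hfw
  obtain ⟨v, hv1, hv2⟩ := exists_of_isPullback' (isPullback_whiskerRight_fst' G' f) w a ha.symm
  refine ⟨v, ?_⟩
  have e : (f ⊗ₘ g).left = (f ▷ G').left ≫ (H ◁ g).left := by
    rw [MonoidalCategory.tensorHom_def]; rfl
  rw [e]
  show (H ◁ g).left ((f ▷ G').left v) = z
  rw [hv1, hw1]

end TensorRange

section Main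

variable {k : Type u} [Field k] {G H : Over (Spec (CommRingCat.of k))} [GrpObj G] [GrpObj H]

/-- A quasi-compact dominant homomorphism of group schemes over a field is surjective. -/
theorem surjective_of_denseRange_grpHom (f : G ⟶ H) [IsMonHom f] [QuasiCompact f.left]
    (hf : DenseRange f.left) : Surjective f.left := by
  refine ⟨fun h => ?_⟩
  obtain ⟨z, hz, hz1, hz2⟩ := exists_mul_eq_and_maximal (G := H) h
  have m1 := mem_range_of_denseRange_of_forall_specializes f.left hf _
    (Groth.Agent.Lib.Helper50.eq_of_specializes_of_closure_mem_irreducibleComponents hz1)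
  have m2 := mem_range_of_denseRange_of_forall_specializes f.left hf _
    (Groth.Agent.Lib.Helper50.eq_of_specializes_of_closure_mem_irreducibleComponents hz2)
  obtain ⟨w, hw⟩ := mem_range_tensorHom_left f f z m1 m2
  refine ⟨μ[G].left w, ?_⟩
  have e : μ[G].left ≫ f.left = (f ⊗ₘ f).left ≫ μ[H].left := by
    show (μ[G] ≫ f).left = ((f ⊗ₘ f) ≫ μ[H]).left
    rw [IsMonHom.mul_hom]
  have : (μ[G].left ≫ f.left) w = ((f ⊗ₘ f).left ≫ μ[H].left) w := by rw [e]
  refine this.trans ?_
  show μ[H].left ((f ⊗ₘ f).left w) = h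
  rw [hw, hz]

/-- A quasi-compact dominant homomorphism of group schemes over a field with reduced target is
flat. -/
theorem flat_of_denseRange_grpHom (f : G ⟶ H) [IsMonHom f] [QuasiCompact f.left]
    (hf : DenseRange f.left) [IsReduced H.left] : Flat f.left := by
  by_cases hG : IsEmpty G.left
  · exact Flat.of_stalkMap _ fun x => isEmptyElim x
  rw [not_isEmpty_iff] at hG
  obtain ⟨g₀⟩ := hG
  obtain ⟨ξ, hξgen⟩ := QuasiSober.sober (isIrreducible_irreducibleComponent (x := f.left g₀))
    isClosed_irreducibleComponent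
  have hξcomp : closure {ξ} ∈ irreducibleComponents H.left := by
    rw [hξgen.def]; exact irreducibleComponent_mem_irreducibleComponents _
  have hξ : ∀ y : H.left, y ⤳ ξ → y = ξ :=
    Groth.Agent.Lib.Helper50.eq_of_specializes_of_closure_mem_irreducibleComponents hξcomp
  obtain ⟨g, hg⟩ := mem_range_of_denseRange_of_forall_specializes f.left hf ξ hξ
  have hsub : Subsingleton (PrimeSpectrum (H.left.presheaf.stalk (f.left g))) := by
    rw [hg]; exact Groth.Agent.Lib.Helper50.subsingleton_primeSpectrum_stalk ξ hξ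
  have hfield : IsField (H.left.presheaf.stalk (f.left g)) := by
    rw [IsLocalRing.isField_iff_maximalIdeal_eq]
    exact Groth.Agent.Lib.Helper50.maximalIdeal_eq_bot_of_subsingleton_primeSpectrum
  have : Subsingleton (Spec (CommRingCat.of k)) :=
    inferInstanceAs (Subsingleton (PrimeSpectrum k))
  have : Flat G.hom := inferInstance
  exact flat_of_flat_stalkMap_of_subsingleton f ⟨g, RingHom.Flat.of_isField hfield _⟩

end Main

end Groth.Agent.Lib.Helper14
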