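import Mathlib
import Groth.Agent.Lib.Helper69.Birational2

/-!
# Descent of "homeomorphism onto the image" for quasi-compact morphisms along flat surjective
base change (no quasi-compactness of the base change)
-/

set_option autoImplicit false
universe u
open CategoryTheory CategoryTheory.Limits AlgebraicGeometry

namespace Groth.Agent.Lib.Helper14

theorem isEmbedding_of_isEmbedding_pullback_snd {X Y Y' : Scheme.{u}} (f : X ⟶ Y)
    (g : Y' ⟶ Y) [QuasiCompact f] [Flat g] [Surjective g]
    (h : Topology.IsEmbedding (pullback.snd f g)) : Topology.IsEmbedding f := by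
  let π := pullback.fst f g
  let f' := pullback.snd f g
  have hw : ∀ x', f (π x') = g (f' x') := fun x' => by
    have : (π ≫ f) x' = (f' ≫ g) x' := by rw [pullback.condition]
    exact this
  have hgen : GeneralizingMap g := Flat.generalizingMap g
  refine ⟨⟨?_⟩, ?_⟩
  · -- inducing
    refine TopologicalSpace.ext_isClosed fun Z => ?_
    rw [isClosed_induced_iff]
    constructor
    · intro hZ
      refine ⟨closure (f '' Z), isClosed_closure, ?_⟩
      refine Set.Subset.antisymm ?_ (fun z hz => subset_closure ⟨z, hz, rfl⟩)
      intro x hx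
      obtain ⟨z, hzZ, hzx⟩ :=
        Groth.Agent.Lib.Helper69.exists_specializes_of_mem_closure_image f Z hZ (f x) hx
      obtain ⟨y', hy'⟩ := (inferInstance : Surjective g).surj (f x)
      obtain ⟨x', hx'1, hx'2⟩ := Scheme.Pullback.exists_preimage_pullback x y' hy'.symm
      have hzx' : f z ⤳ g y' := by rw [hy']; exact hzx
      obtain ⟨w', hw'1, hw'2⟩ := hgen hzx'
      obtain ⟨z', hz'1, hz'2⟩ := Scheme.Pullback.exists_preimage_pullback z w' hw'2.symm
      have h1 : f' z' ⤳ f' x' := by
        have e1 : f' z' = w' := hz'2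
        have e2 : f' x' = y' := hx'2
        rw [e1, e2]; exact hw'1
      have h2 : z' ⤳ x' := h.isInducing.specializes_iff.mp h1
      have h3 : π z' ⤳ π x' := h2.map π.continuous
      have e3 : π z' = z := hz'1
      have e4 : π x' = x := hx'1
      rw [e3, e4] at h3
      exact h3.mem_closed hZ hzZ
    · rintro ⟨W, hW, rfl⟩
      exact hW.preimage f.continuous
  · -- injective
    intro x₁ x₂ hx
    obtain ⟨y', hy'⟩ := (inferInstance : Surjective g).surj (f x₁)
    obtain ⟨x₁', h11, h12⟩ := Scheme.Pullback.exists_preimage_pullback x₁ y' hy'.symm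
    obtain ⟨x₂', h21, h22⟩ := Scheme.Pullback.exists_preimage_pullback x₂ y' (hx ▸ hy'.symm)
    have : x₁' = x₂' := h.injective (h12.trans h22.symm)
    rw [← h11, ← h21, this]

end Groth.Agent.Lib.Helper14
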