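import Mathlib

set_option autoImplicit false
universe u
open scoped TensorProduct

namespace Groth.Agent.Lib.Helper14

open Polynomial in
/-- Sections of etale algebras over a henselian local ring: every `R`-algebra map from an etale
`R`-algebra `D` to the residue field of `R` lifts to an `R`-algebra map `D → R`. -/
theorem exists_algHom_lift_of_henselian {R D : Type u} [CommRing R] [HenselianLocalRing R]
    [CommRing D] [Algebra R D] [Algebra.Etale R D]
    (π : D →ₐ[R] IsLocalRing.ResidueField R) :
    ∃ σ : D →ₐ[R] R, ∀ d, IsLocalRing.residue R (σ d) = π d := by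
  have hQ : (RingHom.ker π.toRingHom).IsPrime := RingHom.ker_isPrime _
  set Q := RingHom.ker π.toRingHom with hQdef
  have : Algebra.IsEtaleAt R Q := inferInstance
  obtain ⟨h, hhQ, hstd⟩ := Algebra.IsEtaleAt.exists_isStandardEtale (R := R) Q
  obtain ⟨P⟩ := hstd.nonempty_standardEtalePresentation
  -- extend `π` to the localization
  have hunit : ∀ y : Submonoid.powers h, IsUnit (π y) := by
    rintro ⟨_, n, rfl⟩
    rw [map_pow]
    refine IsUnit.pow _ ?_
    rw [isUnit_iff_ne_zero]
    exact hhQ
  let πh : Localization.Away h →ₐ[R] IsLocalRing.ResidueField R :=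
    IsLocalization.liftAlgHom (M := Submonoid.powers h) (f := π) hunit
  have hπh : ∀ d : D, πh (algebraMap D (Localization.Away h) d) = π d := by
    intro d
    simp [πh]
  set x₀ := πh P.x with hx₀
  have hmap : P.HasMap x₀ := P.hasMap.map πh
  have hder := hmap.isUnit_derivative_f
  have H : ∀ f : R[X], f.Monic → ∀ a₀ : IsLocalRing.ResidueField R, aeval a₀ f = 0 →
      aeval a₀ (derivative f) ≠ 0 → ∃ a : R, f.IsRoot a ∧ IsLocalRing.residue R a = a₀ :=
    ((HenselianLocalRing.TFAE R).out 0 1).mp ‹HenselianLocalRing R›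
  obtain ⟨a, ha1, ha2⟩ := H P.f P.monic_f x₀ hmap.1 hder.ne_zero
  have hmapa : P.HasMap a := by
    refine ⟨?_, ?_⟩
    · rw [Polynomial.coe_aeval_eq_eval]; exact ha1
    · rw [← IsLocalRing.residue_ne_zero_iff_isUnit]
      have : IsLocalRing.residue R (aeval a P.g) = aeval x₀ P.g := by
        rw [← ha2, ← IsLocalRing.ResidueField.algebraMap_eq, aeval_algebraMap_apply]
      rw [this]
      exact hmap.2.ne_zero
  let σh : Localization.Away h →ₐ[R] R := (P.lift a hmapa).comp P.equivRing.toAlgHom
  have hσh : (Algebra.ofId R (IsLocalRing.ResidueField R)).comp σh = πh := by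
    apply P.hom_ext
    simp only [AlgHom.coe_comp, Function.comp_apply, σh]
    rw [Algebra.ofId_apply, IsLocalRing.ResidueField.algebraMap_eq]
    have h1 : (P.equivRing : Localization.Away h →ₐ[R] P.Ring) P.x = P.X := P.equivRing_x
    rw [h1, StandardEtalePair.lift_X, ha2]
  refine ⟨σh.comp (IsScalarTower.toAlgHom R D (Localization.Away h)), fun d => ?_⟩
  have := AlgHom.congr_fun hσh (algebraMap D (Localization.Away h) d)
  simp only [AlgHom.coe_comp, Function.comp_apply, Algebra.ofId_apply,
    IsLocalRing.ResidueField.algebraMap_eq, hπh] at this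
  simpa using this

end Groth.Agent.Lib.Helper14
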