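import Groth.Prelude.Def_EssEt
import Groth.Agent.S2782
import Groth.Agent.Lib.Helper14.HenselLift
import Mathlib

set_option autoImplicit false
universe u
open scoped TensorProduct

namespace Groth.Agent.Lib.Helper14

/-- Two algebra maps out of an essentially etale local algebra into a local ring that agree on residue
classes are equal. -/
theorem algHom_ext_of_residue_eq_of_essEtale (A A₁ L : Type u) [CommRing A] [IsLocalRing A]
    [CommRing A₁] [Algebra A A₁] [CommRing L] [IsLocalRing L] [Algebra A L]
    (h₁ : EGA4loc.IsEssentiallyEtale A A₁) (ψ ψ' : A₁ →ₐ[A] L)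
    (h : ∀ x : A₁, IsLocalRing.residue L (ψ x) = IsLocalRing.residue L (ψ' x)) : ψ = ψ' := by
  obtain ⟨C, _, _, q, _, hC, hq, ⟨e⟩⟩ := h₁
  let ι : C →ₐ[A] A₁ := (e.symm : Localization.AtPrime q →ₐ[A] A₁).comp
    (IsScalarTower.toAlgHom A C (Localization.AtPrime q))
  have key : ψ.comp ι = ψ'.comp ι :=
    Groth.Agent.S2782.algHom_eq_of_residue_eq _ _ (fun x => h (ι x))
  have h2 : (ψ.comp (e.symm : Localization.AtPrime q →ₐ[A] A₁)) =
      (ψ'.comp (e.symm : Localization.AtPrime q →ₐ[A] A₁)) := by
    apply AlgHom.coe_ringHom_injective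
    apply IsLocalization.ringHom_ext q.primeCompl
    ext x
    exact AlgHom.congr_fun key x
  apply AlgHom.ext
  intro x
  have := AlgHom.congr_fun h2 (e x)
  simpa using this

/-- For an essentially etale local algebra `A₁` over a local ring `A` (with local structure map),
the maximal ideal of `A₁` is generated by the maximal ideal of `A`. -/
theorem map_maximalIdeal_eq_of_essEtale (A A₁ : Type u) [CommRing A] [IsLocalRing A]
    [CommRing A₁] [IsLocalRing A₁] [Algebra A A₁] [IsLocalHom (algebraMap A A₁)]
    (h₁ : EGA4loc.IsEssentiallyEtale A A₁) :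
    (IsLocalRing.maximalIdeal A).map (algebraMap A A₁) = IsLocalRing.maximalIdeal A₁ := by
  obtain ⟨C, _, _, q, _, hC, hq, ⟨e⟩⟩ := h₁
  have : Algebra.EssFiniteType A A₁ := (Algebra.EssFiniteType.iff_of_algEquiv e).mpr inferInstance
  have : Algebra.FormallyUnramified A A₁ := Algebra.FormallyUnramified.of_equiv e.symm
  exact Algebra.FormallyUnramified.map_maximalIdeal

/-- An algebra map from an essentially etale local `A`-algebra to a local `A`-algebra with local
structure map sends the maximal ideal into the maximal ideal. -/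
theorem algHom_mem_maximalIdeal_of_essEtale (A A₁ L : Type u) [CommRing A] [IsLocalRing A]
    [CommRing A₁] [IsLocalRing A₁] [Algebra A A₁] [IsLocalHom (algebraMap A A₁)]
    [CommRing L] [IsLocalRing L] [Algebra A L] [IsLocalHom (algebraMap A L)]
    (h₁ : EGA4loc.IsEssentiallyEtale A A₁) (χ : A₁ →ₐ[A] L) (y : A₁)
    (hy : y ∈ IsLocalRing.maximalIdeal A₁) : χ y ∈ IsLocalRing.maximalIdeal L := by
  rw [← map_maximalIdeal_eq_of_essEtale A A₁ h₁] at hy
  have h3 : (IsLocalRing.maximalIdeal A).map (algebraMap A A₁) ≤
      (IsLocalRing.maximalIdeal L).comap χ.toRingHom := by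
    rw [Ideal.map_le_iff_le_comap]
    intro a ha
    simp only [Ideal.mem_comap, AlgHom.toRingHom_eq_coe, RingHom.coe_coe, AlgHom.commutes]
    have hnu : ¬ IsUnit a := ha
    have : ¬ IsUnit (algebraMap A L a) := fun hu => hnu (isUnit_of_map_unit (algebraMap A L) a hu)
    exact this
  exact h3 hy

end Groth.Agent.Lib.Helper14

namespace Groth.Agent.Lib.Helper14

/-- Lifting property of essentially etale local algebras against henselian local rings, with
prescribed map on residue fields (no hypothesis on the residue field of `B`). -/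
theorem existsUnique_lift_of_essEtale_of_henselian (A A' : Type u) [CommRing A] [IsLocalRing A]
    [CommRing A'] [IsLocalRing A'] [Algebra A A'] [IsLocalHom (algebraMap A A')]
    (hA' : EGA4loc.IsEssentiallyEtale A A')
    (B : Type u) [CommRing B] [HenselianLocalRing B]
    (ψ : A →+* B) [IsLocalHom ψ]
    (α : IsLocalRing.ResidueField A' →+* IsLocalRing.ResidueField B)
    (hα : α.comp (IsLocalRing.ResidueField.map (algebraMap A A')) = IsLocalRing.ResidueField.map ψ) :
    ∃! ψ' : A' →+* B, IsLocalHom ψ' ∧ ψ'.comp (algebraMap A A') = ψ ∧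
      ∀ x : A', IsLocalRing.residue B (ψ' x) = α (IsLocalRing.residue A' x) := by
  letI algAB : Algebra A B := ψ.toAlgebra
  have hloc : IsLocalHom (algebraMap A B) := ‹IsLocalHom ψ›
  have hA'' := hA'
  obtain ⟨C, _, _, q, _, hC, hq, ⟨e⟩⟩ := hA''
  let ι : C →ₐ[A] A' := (e.symm : Localization.AtPrime q →ₐ[A] A').comp
    (IsScalarTower.toAlgHom A C (Localization.AtPrime q))
  let π₀r : C →+* IsLocalRing.ResidueField B :=
    α.comp ((IsLocalRing.residue A').comp ι.toRingHom)
  let π₀ : C →ₐ[A] IsLocalRing.ResidueField B :=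
    { π₀r with
      commutes' := by
        intro a
        change α (IsLocalRing.residue A' (ι (algebraMap A C a))) = _
        rw [AlgHom.commutes, ← IsLocalRing.ResidueField.map_residue (algebraMap A A'),
          ← RingHom.comp_apply, hα, IsLocalRing.ResidueField.map_residue,
          IsScalarTower.algebraMap_apply A B (IsLocalRing.ResidueField B),
          IsLocalRing.ResidueField.algebraMap_eq]
        rfl }
  have hπ₀ : ∀ c, π₀ c = α (IsLocalRing.residue A' (ι c)) := fun c => rfl
  let π : B ⊗[A] C →ₐ[B] IsLocalRing.ResidueField B :=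
    Algebra.TensorProduct.lift (Algebra.ofId B _) π₀ (fun _ _ => Commute.all _ _)
  obtain ⟨σ, hσ⟩ := exists_algHom_lift_of_henselian π
  let φ : C →ₐ[A] B := (σ.restrictScalars A).comp Algebra.TensorProduct.includeRight
  have hφ : ∀ c, IsLocalRing.residue B (φ c) = π₀ c := by
    intro c
    simp [φ, hσ, π]
  have hunit : ∀ y : q.primeCompl, IsUnit (φ y) := by
    intro y
    rw [← IsLocalRing.residue_ne_zero_iff_isUnit, hφ, hπ₀, map_ne_zero_iff _ α.injective,
      IsLocalRing.residue_ne_zero_iff_isUnit]
    have : IsUnit (algebraMap C (Localization.AtPrime q) y) := IsLocalization.map_units _ y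
    exact this.map e.symm
  let ψq : Localization.AtPrime q →ₐ[A] B :=
    IsLocalization.liftAlgHom (M := q.primeCompl) (f := φ) hunit
  let ψ'a : A' →ₐ[A] B := ψq.comp (e : A' →ₐ[A] Localization.AtPrime q)
  have hres : ∀ x : A', IsLocalRing.residue B (ψ'a x) = α (IsLocalRing.residue A' x) := by
    have h12 : (IsLocalRing.residue B).comp ψq.toRingHom =
        α.comp ((IsLocalRing.residue A').comp (e.symm : Localization.AtPrime q →+* A')) := by
      apply IsLocalization.ringHom_ext q.primeCompl
      ext c
      simp only [RingHom.coe_comp, Function.comp_apply, AlgHom.toRingHom_eq_coe, RingHom.coe_coe]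
      have : ψq (algebraMap C (Localization.AtPrime q) c) = φ c := by simp [ψq]
      rw [this, hφ, hπ₀]
      rfl
    intro x
    have := RingHom.congr_fun h12 (e x)
    simpa [ψ'a] using this
  have hlocal : IsLocalHom ψ'a.toRingHom := by
    constructor
    intro x hx
    by_contra hnu
    have hm : x ∈ IsLocalRing.maximalIdeal A' := hnu
    have := algHom_mem_maximalIdeal_of_essEtale A A' B hA' ψ'a x hm
    exact this hx
  refine ⟨ψ'a.toRingHom, ⟨hlocal, ?_, hres⟩, ?_⟩
  · ext a
    simp only [RingHom.coe_comp, Function.comp_apply, AlgHom.toRingHom_eq_coe, RingHom.coe_coe,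
      AlgHom.commutes]
    rfl
  · rintro χ ⟨hχ1, hχ2, hχ3⟩
    let χa : A' →ₐ[A] B :=
      { χ with
        commutes' := fun a => RingHom.congr_fun hχ2 a }
    have : χa = ψ'a := by
      apply algHom_ext_of_residue_eq_of_essEtale A A' B hA'
      intro x
      rw [hres x]
      exact hχ3 x
    ext x
    exact AlgHom.congr_fun this x

end Groth.Agent.Lib.Helper14
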