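import Mathlib.RingTheory.Smooth.Fiber
import Mathlib.RingTheory.Flat.Localization
import Mathlib.RingTheory.Etale.Locus
import Mathlib.RingTheory.RingHom.Etale
import Mathlib.RingTheory.RingHom.Flat
import Mathlib.RingTheory.RingHom.Unramified

set_option autoImplicit false
universe u

namespace Groth.Agent.Lib.Helper14

open TensorProduct IsLocalRing Algebra

local notation "𝓀[" R "]" => ResidueField R

attribute [local instance] Algebra.FormallyEtale.of_formallyUnramified_of_field in
/-- Flat and unramified at a prime implies étale at that prime (finitely presented algebras). -/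
theorem isEtaleAt_of_isUnramifiedAt_of_flat_localization {R S : Type u} [CommRing R] [CommRing S]
    [Algebra R S] [Algebra.FinitePresentation R S] (q : Ideal S) [q.IsPrime]
    [Algebra.IsUnramifiedAt R q] (hflat : Module.Flat R (Localization.AtPrime q)) :
    Algebra.IsEtaleAt R q := by
  let p : Ideal R := q.under R
  have : q.LiesOver p := ⟨rfl⟩
  let Rp := Localization.AtPrime p
  let Sp := Localization (algebraMapSubmonoid S p.primeCompl)
  let Sq := Localization.AtPrime q
  let := Localization.AtPrime.algebraOfLiesOver p q
  let f : Sp →ₐ[S] Sq := IsLocalization.liftAlgHom (M := algebraMapSubmonoid S p.primeCompl)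
        (f := Algebra.ofId _ _) (by
      rintro ⟨_, x, hx, rfl⟩
      simpa using! IsLocalization.map_units (M := q.primeCompl) Sq ⟨algebraMap _ _ x,
        by simp_all [q.over_def p]⟩)
  algebraize [f.toRingHom]
  have : IsScalarTower R Sp Sq := .to₁₃₄ _ S _ _
  have : IsScalarTower Rp Sp Sq := .of_algebraMap_eq' <| by
    apply IsLocalization.ringHom_ext p.primeCompl
    simp only [RingHom.comp_assoc, ← IsScalarTower.algebraMap_eq]
  have : IsLocalization (algebraMapSubmonoid Sp q.primeCompl) Sq :=
    .isLocalization_of_submonoid_le _ _ (algebraMapSubmonoid S p.primeCompl) _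
    (by rintro _ ⟨x, hx, rfl⟩; simp_all [q.over_def p])
  have : FinitePresentation Rp Sp := by
    have : Algebra.IsPushout R Rp S Sp :=
      .symm <| Algebra.isPushout_of_isLocalization p.primeCompl _ _ _
    exact .equiv (Algebra.IsPushout.equiv R Rp S Sp)
  have hflat' : Module.Flat Rp Sq :=
    (Module.flat_iff_of_isLocalization Rp p.primeCompl Sq).2 hflat
  have hunr : FormallyUnramified Rp Sq := .of_restrictScalars R Rp Sq
  have hess : EssFiniteType Rp Sq := .of_comp R Rp Sq
  have : FormallySmooth 𝓀[Rp] (𝓀[Rp] ⊗[Rp] Sq) := by
    have : FormallyEtale 𝓀[Rp] (𝓀[Rp] ⊗[Rp] Sq) := inferInstance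
    infer_instance
  have := FormallySmooth.of_formallySmooth_residueField_tensor
    (R := Rp) (S := Sq) (P := Sp) (algebraMapSubmonoid _ q.primeCompl)
  have : FormallySmooth R Sq := .comp R Rp Sq
  exact FormallyEtale.of_formallyUnramified_and_formallySmooth

end Groth.Agent.Lib.Helper14

namespace Groth.Agent.Lib.Helper14

open Algebra

/-- Ring-hom form: finitely presented, flat and unramified at a prime (in terms of the local ring
homomorphism) implies étale on a basic open neighbourhood of the prime. -/
theorem exists_etale_away_of_localRingHom {R B : Type u} [CommRing R] [CommRing B]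
    (φ : R →+* B) (hφ : φ.FinitePresentation) (Q : Ideal B) [Q.IsPrime] (p : Ideal R) [p.IsPrime]
    (hpQ : p = Q.comap φ) (hfl : (Localization.localRingHom p Q φ hpQ).Flat)
    (hun : (Localization.localRingHom p Q φ hpQ).FormallyUnramified) :
    ∃ b ∉ Q, ((algebraMap B (Localization.Away b)).comp φ).Etale := by
  algebraize [φ]
  have hcomp : algebraMap R (Localization.AtPrime Q) =
      (Localization.localRingHom p Q φ hpQ).comp (algebraMap R (Localization.AtPrime p)) := by
    ext x
    rw [RingHom.comp_apply, Localization.localRingHom_to_map,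
      IsScalarTower.algebraMap_apply R B (Localization.AtPrime Q)]
    rfl
  have h1 : Module.Flat R (Localization.AtPrime Q) := by
    rw [← RingHom.flat_algebraMap_iff, hcomp]
    exact RingHom.Flat.comp (RingHom.flat_algebraMap_iff.2 inferInstance) hfl
  have h2 : Algebra.IsUnramifiedAt R Q := by
    show Algebra.FormallyUnramified R (Localization.AtPrime Q)
    rw [← RingHom.formallyUnramified_algebraMap, hcomp]
    refine RingHom.FormallyUnramified.comp ?_ hun
    rw [RingHom.formallyUnramified_algebraMap]
    exact Algebra.FormallyUnramified.of_isLocalization p.primeCompl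
  have h3 := isEtaleAt_of_isUnramifiedAt_of_flat_localization (R := R) Q h1
  obtain ⟨b, hbQ, hb⟩ := Algebra.exists_etale_of_isEtaleAt (R := R) Q
  refine ⟨b, hbQ, ?_⟩
  have : (algebraMap B (Localization.Away b)).comp φ = algebraMap R (Localization.Away b) := by
    rw [IsScalarTower.algebraMap_eq R B (Localization.Away b)]
    rfl
  rw [this, RingHom.etale_algebraMap]
  exact hb

end Groth.Agent.Lib.Helper14
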