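import Mathlib
import Groth.Agent.Lib.Helper14.FTImmC
import Groth.Agent.Lib.Helper22.AbsApproxT1

/-!
# Immersion of a finite type scheme into a finitely presented one (helper14)

Modulo absolute Noetherian approximation (`HasApprox`, the conclusion of S0590):
* `exists_model_immersion`: `f : X ⟶ S` locally of finite type, `X` qcqs: there is a quasi-compact
  scheme `E` locally of finite type over `ℤ` and `p : X ⟶ E` with `X ⟶ E ×_ℤ S` an immersion.
* `exists_immersion_fp` (Stacks 09ZR), `exists_closedImmersion_fp` (Stacks 09ZQ).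
-/

set_option autoImplicit false
universe u

open CategoryTheory Limits AlgebraicGeometry TopologicalSpace

namespace Groth.Agent.Lib.Helper14.FTImm

open Groth.Agent.Lib.Helper22.AbsApprox

/-- The structure morphism to `Spec ℤ` (in universe `u`). -/
noncomputable abbrev toZ (X : Scheme.{u}) : X ⟶ Spec (.of (ULift.{u} ℤ)) :=
  specULiftZIsTerminal.from X

theorem toZ_comp {X Y : Scheme.{u}} (g : X ⟶ Y) : g ≫ toZ Y = toZ X :=
  specULiftZIsTerminal.hom_ext _ _

theorem isNoetherianRing_uliftZ : IsNoetherianRing (ULift.{u} ℤ) :=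
  isNoetherianRing_of_ringEquiv ℤ ULift.ringEquiv.symm

theorem isLocallyNoetherian_of_lft_toZ (E : Scheme.{u}) [LocallyOfFiniteType (toZ E)] :
    IsLocallyNoetherian E := by
  have := isNoetherianRing_uliftZ.{u}
  exact LocallyOfFiniteType.isLocallyNoetherian (toZ E)

theorem lfp_of_lft_of_isLocallyNoetherian {X Y : Scheme.{u}} (f : X ⟶ Y)
    [LocallyOfFiniteType f] [IsLocallyNoetherian Y] : LocallyOfFinitePresentation f := by
  rw [HasRingHomProperty.iff_appLE (P := @LocallyOfFinitePresentation)]
  intro U V e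
  have : IsNoetherianRing Γ(Y, U.1) := IsLocallyNoetherian.component_noetherian U
  exact RingHom.FinitePresentation.of_finiteType.1
    (HasRingHomProperty.appLE (P := @LocallyOfFiniteType) f inferInstance U V e)

set_option backward.isDefEq.respectTransparency.types false in
/-- A quasi-compact scheme locally of finite type over `ℤ` is of finite presentation over `ℤ`. -/
theorem fp_toZ (E : Scheme.{u}) [CompactSpace E] [LocallyOfFiniteType (toZ E)] :
    LocallyOfFinitePresentation (toZ E) ∧ QuasiCompact (toZ E) ∧ QuasiSeparated (toZ E) := by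
  have := isNoetherianRing_uliftZ.{u}
  have hE : IsLocallyNoetherian E := isLocallyNoetherian_of_lft_toZ E
  have : IsNoetherian E := {}
  refine ⟨lfp_of_lft_of_isLocallyNoetherian _, ?_, ?_⟩
  · rw [HasAffineProperty.iff_of_isAffine (P := @QuasiCompact)]
    infer_instance
  · rw [HasAffineProperty.iff_of_isAffine (P := @QuasiSeparated)]
    infer_instance

theorem exists_model_immersion
    (happ : ∀ (S : Scheme.{u}) [CompactSpace S] [QuasiSeparatedSpace S], HasApprox S)
    {X S : Scheme.{u}} (f : X ⟶ S) [LocallyOfFiniteType f] [CompactSpace X]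
    [QuasiSeparatedSpace X] :
    ∃ (E : Scheme.{u}) (_ : CompactSpace E) (_ : LocallyOfFiniteType (toZ E)) (p : X ⟶ E),
      IsImmersion (pullback.lift p f ((toZ_comp p).trans (toZ_comp f).symm) :
        X ⟶ pullback (toZ E) (toZ S)) := by
  obtain ⟨I, _, _, _, D, c, hc, haff, hD, ⟨e⟩⟩ := happ X
  have : ∀ {i j : Iᵒᵖ} (f : i ⟶ j), IsAffineHom (D.map f) := fun f => haff _ _ f
  have : ∀ i, CompactSpace (D.obj i) := fun i => (hD i).1
  have : CompactSpace c.pt := Scheme.compactSpace_of_isLimit D c hc
  obtain ⟨k, hk⟩ := exists_isImmersion_gr D c hc (e.hom ≫ f) (fun i => toZ (D.obj i)) (toZ S)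
    (fun i => (toZ_comp _).trans (toZ_comp _).symm)
  refine ⟨D.obj k, (hD k).1, (hD k).2, e.inv ≫ c.π.app k, ?_⟩
  have heq : pullback.lift (e.inv ≫ c.π.app k) f ((toZ_comp _).trans (toZ_comp f).symm) =
      e.inv ≫ gr D c (e.hom ≫ f) (fun i => toZ (D.obj i)) (toZ S)
        (fun i => (toZ_comp _).trans (toZ_comp _).symm) k := by
    apply pullback.hom_ext
    · simp only [gr, pullback.lift_fst, Category.assoc]
    · simp only [gr, pullback.lift_snd, Category.assoc, Iso.inv_hom_id_assoc]
  rw [heq]
  infer_instance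

end Groth.Agent.Lib.Helper14.FTImm
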