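import Mathlib
import Groth.Agent.Lib.Helper14.FTImmD

/-!
# Stacks 09ZR / 09ZQ modulo absolute Noetherian approximation (helper14)
-/

set_option autoImplicit false
universe u

open CategoryTheory Limits AlgebraicGeometry TopologicalSpace

namespace Groth.Agent.Lib.Helper14.FTImm

open Groth.Agent.Lib.Helper22.AbsApprox

/-- An immersion from a quasi-compact scheme is a closed immersion into a quasi-compact open. -/
theorem exists_compact_open_isClosedImmersion {Z P : Scheme.{u}} (g : Z ⟶ P) [IsImmersion g]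
    [CompactSpace Z] :
    ∃ U : P.Opens, IsCompact (U : Set P) ∧ Set.range g ⊆ (U : Set P) ∧
      IsClosedImmersion (g ∣_ U) := by
  classical
  have hloc : ∀ z : Z, ∃ A : P.Opens, IsAffineOpen A ∧ g z ∈ A ∧ A ≤ g.coborderRange := by
    intro z
    have hz : g z ∈ (g.coborderRange : Set P) := subset_coborder ⟨z, rfl⟩
    obtain ⟨_, ⟨A, hA : IsAffineOpen A, rfl⟩, hzA, hAle⟩ :=
      P.isBasis_affineOpens.exists_subset_of_mem_open hz g.coborderRange.isOpen
    exact ⟨A, hA, hzA, hAle⟩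
  choose A hA hzA hAle using hloc
  obtain ⟨F, hF⟩ := isCompact_univ.elim_finite_subcover
    (fun z => ((g ⁻¹ᵁ A z : Z.Opens) : Set Z))
    (fun z => (g ⁻¹ᵁ A z).isOpen) (fun z _ => Set.mem_iUnion.mpr ⟨z, hzA z⟩)
  refine ⟨⨆ z : F, A z.1, ?_, ?_, ?_⟩
  · rw [TopologicalSpace.Opens.coe_iSup]
    exact isCompact_iUnion fun z => (hA z.1).isCompact
  · rintro _ ⟨y, rfl⟩
    have hy := hF (Set.mem_univ y)
    simp only [Set.mem_iUnion] at hy
    obtain ⟨z, hzF, hyz⟩ := hy
    exact TopologicalSpace.Opens.mem_iSup.mpr ⟨⟨z, hzF⟩, hyz⟩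
  · exact Groth.Agent.Lib.Helper63.ImmLocal.isClosedImmersion_restrict_of_isImmersion g _
      (iSup_le fun z => hAle z.1)

/-- If `g ∣_ U` is a closed immersion and the range of `g` lies in `U`, the lift of `g` through
`U.ι` is a closed immersion. -/
theorem isClosedImmersion_lift_of_restrict {Z P : Scheme.{u}} (g : Z ⟶ P) (U : P.Opens)
    (hr : Set.range g ⊆ (U : Set P)) (h : IsClosedImmersion (g ∣_ U)) :
    IsClosedImmersion (IsOpenImmersion.lift U.ι g (by rw [Scheme.Opens.range_ι]; exact hr)) := by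
  set j := IsOpenImmersion.lift U.ι g (by rw [Scheme.Opens.range_ι]; exact hr) with hj
  have hfac : j ≫ U.ι = g := IsOpenImmersion.lift_fac _ _ _
  have hcomp : (g ⁻¹ᵁ U).ι ≫ j = g ∣_ U := by
    rw [← cancel_mono U.ι, Category.assoc, hfac, morphismRestrict_ι]
  have hsurj : Function.Surjective (g ⁻¹ᵁ U).ι := by
    intro z
    exact ⟨⟨z, hr ⟨z, rfl⟩⟩, rfl⟩
  have hiso : IsIso (g ⁻¹ᵁ U).ι :=
    (isIso_iff_isOpenImmersion_and_surjective _).mpr ⟨inferInstance, ⟨hsurj⟩⟩
  have h' : IsClosedImmersion ((g ⁻¹ᵁ U).ι ≫ j) := hcomp ▸ h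
  exact (MorphismProperty.cancel_left_of_respectsIso @IsClosedImmersion (g ⁻¹ᵁ U).ι j).mp h'

/-- Stacks 09ZR modulo S0590. -/
theorem exists_immersion_fp
    (happ : ∀ (S : Scheme.{u}) [CompactSpace S] [QuasiSeparatedSpace S], HasApprox S)
    {X S : Scheme.{u}} (f : X ⟶ S) [LocallyOfFiniteType f] [CompactSpace X]
    [QuasiSeparatedSpace X] :
    ∃ (X' : Scheme.{u}) (f' : X' ⟶ S) (j : X ⟶ X'), LocallyOfFinitePresentation f' ∧
      QuasiCompact f' ∧ QuasiSeparated f' ∧ IsImmersion j ∧ j ≫ f' = f := by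
  obtain ⟨E, hE1, hE2, p, hp⟩ := exists_model_immersion happ f
  obtain ⟨h1, h2, h3⟩ := fp_toZ E
  exact ⟨pullback (toZ E) (toZ S), pullback.snd _ _, _, inferInstance, inferInstance,
    inferInstance, hp, pullback.lift_snd _ _ _⟩

/-- Stacks 09ZQ modulo S0590. -/
theorem exists_closedImmersion_fp
    (happ : ∀ (S : Scheme.{u}) [CompactSpace S] [QuasiSeparatedSpace S], HasApprox S)
    {X S : Scheme.{u}} (f : X ⟶ S) [LocallyOfFiniteType f] [CompactSpace X]
    [QuasiSeparatedSpace X] [QuasiSeparatedSpace S] :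
    ∃ (X' : Scheme.{u}) (f' : X' ⟶ S) (j : X ⟶ X'), LocallyOfFinitePresentation f' ∧
      QuasiCompact f' ∧ QuasiSeparated f' ∧ IsClosedImmersion j ∧ j ≫ f' = f := by
  obtain ⟨E, hE1, hE2, p, hp⟩ := exists_model_immersion happ f
  obtain ⟨h1, h2, h3⟩ := fp_toZ E
  set g : X ⟶ pullback (toZ E) (toZ S) :=
    pullback.lift p f ((toZ_comp p).trans (toZ_comp f).symm) with hg
  obtain ⟨U, hUc, hUr, hUcl⟩ := exists_compact_open_isClosedImmersion g
  have hj := isClosedImmersion_lift_of_restrict g U hUr hUcl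
  have : CompactSpace U.toScheme := isCompact_iff_compactSpace.mp hUc
  refine ⟨U.toScheme, U.ι ≫ pullback.snd _ _, _, inferInstance, ?_, inferInstance, hj, ?_⟩
  · infer_instance
  · rw [← Category.assoc, IsOpenImmersion.lift_fac, hg, pullback.lift_snd]

end Groth.Agent.Lib.Helper14.FTImm
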