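import Mathlib
import Groth.Agent.Lib.Helper14.FTImmE
import Groth.Agent.S7379
import Groth.Agent.S9199

/-!
# Closed immersion into a separated finitely presented scheme (helper14)

Modulo absolute Noetherian approximation: `f : X ⟶ S` separated of finite type, `S` qcqs; then
`X` is a closed subscheme of a separated finitely presented `S`-scheme (Stacks 09ZQ + 01ZH-style
limit argument through S7379 and S9199).
-/

set_option autoImplicit false
universe u

open CategoryTheory Limits AlgebraicGeometry TopologicalSpace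

namespace Groth.Agent.Lib.Helper14.FTImm

open Groth.Agent.Lib.Helper22.AbsApprox

theorem compactSpace_of_isClosedImmersion {Z Y : Scheme.{u}} (h : Z ⟶ Y) (hh : IsClosedImmersion h)
    [CompactSpace Y] : CompactSpace Z :=
  QuasiCompact.compactSpace_of_compactSpace h

theorem quasiSeparatedSpace_of_isClosedImmersion {Z Y : Scheme.{u}} (h : Z ⟶ Y)
    (hh : IsClosedImmersion h) [QuasiSeparatedSpace Y] : QuasiSeparatedSpace Z :=
  quasiSeparatedSpace_of_quasiSeparated h

theorem exists_closedImmersion_sep_fp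
    (happ : ∀ (S : Scheme.{u}) [CompactSpace S] [QuasiSeparatedSpace S], HasApprox S)
    {X S : Scheme.{u}} (f : X ⟶ S) [IsSeparated f] [LocallyOfFiniteType f] [QuasiCompact f]
    [CompactSpace S] [QuasiSeparatedSpace S] :
    ∃ (X' : Scheme.{u}) (f' : X' ⟶ S) (j : X ⟶ X'), IsSeparated f' ∧
      LocallyOfFinitePresentation f' ∧ QuasiCompact f' ∧ IsClosedImmersion j ∧ j ≫ f' = f := by
  have : CompactSpace X := QuasiCompact.compactSpace_of_compactSpace f
  have : QuasiSeparatedSpace X := quasiSeparatedSpace_of_quasiSeparated f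
  obtain ⟨Y, g, ι, hg1, hg2, hg3, hι, hιg⟩ := exists_closedImmersion_fp happ f
  have : CompactSpace Y := QuasiCompact.compactSpace_of_compactSpace g
  have : QuasiSeparatedSpace Y := quasiSeparatedSpace_of_quasiSeparated g
  obtain ⟨I, _, _, _, D, c, hc, hD, ⟨e⟩⟩ := Groth.Agent.S7379.result ι
  have hcof : IsCofiltered Iᵒᵖ := inferInstance
  have hconn : IsConnected Iᵒᵖ := IsCofiltered.isConnected Iᵒᵖ
  -- the underlying diagram of schemes
  let D' : Iᵒᵖ ⥤ Scheme.{u} := D ⋙ Over.forget Y
  let c' : Cone D' := (Over.forget Y).mapCone c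
  have hc' : IsLimit c' := isLimitOfPreserves (Over.forget Y) hc
  let t : D' ⟶ (Functor.const Iᵒᵖ).obj S :=
    { app := fun i => (D.obj i).hom ≫ g
      naturality := fun i j a => by
        change (D.map a).left ≫ (D.obj j).hom ≫ g = ((D.obj i).hom ≫ g) ≫ 𝟙 S
        rw [Category.comp_id, ← Category.assoc, Over.w] }
  have hcl : ∀ i, IsClosedImmersion (D.obj i).hom := fun i => (hD i).1
  have haff : ∀ (i j : Iᵒᵖ) (a : i ⟶ j), IsAffineHom (D'.map a) := by
    intro i j a
    have h1 : (D.map a).left ≫ (D.obj j).hom = (D.obj i).hom := Over.w (D.map a)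
    have : IsClosedImmersion ((D.map a).left ≫ (D.obj j).hom) := h1 ▸ hcl i
    have : IsClosedImmersion (D.map a).left := IsClosedImmersion.of_comp _ (D.obj j).hom
    change IsAffineHom (D.map a).left
    infer_instance
  have hcomp : ∀ i, CompactSpace (D'.obj i) := fun i =>
    compactSpace_of_isClosedImmersion (D.obj i).hom (hcl i)
  have hqs : ∀ i, QuasiSeparatedSpace (D'.obj i) := fun i =>
    quasiSeparatedSpace_of_isClosedImmersion (D.obj i).hom (hcl i)
  have hπ : ∀ i, (c.π.app i).left ≫ (D.obj i).hom = c.pt.hom := fun i => Over.w (c.π.app i)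
  obtain ⟨i₀⟩ : Nonempty Iᵒᵖ := inferInstance
  have hcpt : c.pt.hom = e.hom.left ≫ ι := (Over.w e.hom).symm
  have hsep : IsSeparated (c'.π.app i₀ ≫ t.app i₀) := by
    change IsSeparated ((c.π.app i₀).left ≫ (D.obj i₀).hom ≫ g)
    rw [← Category.assoc, hπ i₀, hcpt, Category.assoc, hιg]
    infer_instance
  obtain ⟨i₁, hi₁⟩ := Groth.Agent.S9199.result S D' t c' hc' i₀
  have hsep₁ : IsSeparated ((D.obj i₁).hom ≫ g) := hi₁ i₁ (𝟙 _)
  have := hcl i₁
  have hlfp : LocallyOfFinitePresentation (D.obj i₁).hom := (hD i₁).2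
  let j : X ⟶ (D.obj i₁).left := e.inv.left ≫ (c.π.app i₁).left
  have hj : j ≫ (D.obj i₁).hom = ι := by
    change (e.inv.left ≫ (c.π.app i₁).left) ≫ (D.obj i₁).hom = ι
    rw [Category.assoc, hπ i₁, hcpt, ← Category.assoc, ← Over.comp_left, e.inv_hom_id]
    simp
  have : IsClosedImmersion (j ≫ (D.obj i₁).hom) := hj ▸ hι
  have hjcl : IsClosedImmersion j := IsClosedImmersion.of_comp j (D.obj i₁).hom
  refine ⟨(D.obj i₁).left, (D.obj i₁).hom ≫ g, j, hsep₁, inferInstance, inferInstance, hjcl, ?_⟩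
  rw [← Category.assoc, hj, hιg]

end Groth.Agent.Lib.Helper14.FTImm
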