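import Mathlib
import Groth.Agent.H76.TorsFlat
import Groth.Agent.H76.FibreCritLocal

set_option autoImplicit false
universe u
open TensorProduct Groth.Agent.H76.TorsionFlat

namespace Groth.Agent.Lib.Helper14.FibreCrit

section T1

/-- `flat_of_injective_field` with the field hypothesis in `IsField` form. -/
theorem flat_of_injective_isField (D k : Type u) [CommRing D] [IsDomain D] [CommRing k]
    (hk : IsField k) [Algebra D k] (hinj : Function.Injective (algebraMap D k)) :
    Module.Flat D k :=
  @flat_of_injective_field D k _ _ hk.toField ‹Algebra D k› hinj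

variable {R K : Type u} [CommRing R] [CommRing K] [Algebra R K]

/-- A field `K` over `R` is `TorsFlat` for the kernel of `R → K`. -/
theorem torsFlat_ker_field (hK : IsField K) : TorsFlat (RingHom.ker (algebraMap R K)) K := by
  set p := RingHom.ker (algebraMap R K) with hp
  haveI : IsDomain K := hK.isDomain
  haveI : p.IsPrime := RingHom.ker_isPrime _
  rw [torsFlat_iff]
  let φ : R ⧸ p →+* K := RingHom.kerLift (algebraMap R K)
  have hφ : Function.Injective φ := RingHom.kerLift_injective _
  letI algDk : Algebra (R ⧸ p) K := φ.toAlgebra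
  haveI : IsScalarTower R (R ⧸ p) K := by
    refine IsScalarTower.of_algebraMap_eq (fun a => ?_)
    rfl
  haveI : Module.Flat (R ⧸ p) K := flat_of_injective_isField (R ⧸ p) K hK hφ
  exact Module.Flat.of_linearEquiv
    (tensorEquivOfSurjective (R ⧸ p) K Ideal.Quotient.mk_surjective)

end T1

section T2

variable {R A K AK : Type u} [CommRing R] [CommRing A] [CommRing K] [CommRing AK]
  [Algebra R A] [Algebra R K] [Algebra A AK] [Algebra K AK] [Algebra R AK]
  [IsScalarTower R A AK] [IsScalarTower R K AK] [Algebra.IsPushout R A K AK]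

/-- The fibre ring `AK = A ⊗[R] K` is `TorsFlat` over `A` for the extension of `ker (R → K)`. -/
theorem torsFlat_pushout_field (hK : IsField K) :
    TorsFlat ((RingHom.ker (algebraMap R K)).map (algebraMap R A)) AK :=
  ((torsFlat_ker_field (R := R) (K := K) hK).baseChange (B := A) _ _).of_linearEquiv
    (Algebra.IsPushout.equiv R A K AK).toLinearEquiv

/-- A flat `AK`-module is `TorsFlat` over `A`. -/
theorem torsFlat_of_flat_pushout (hK : IsField K) (D : Type u) [AddCommGroup D] [Module AK D]
    [Module A D] [IsScalarTower A AK D] [Module.Flat AK D] :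
    TorsFlat ((RingHom.ker (algebraMap R K)).map (algebraMap R A)) D := by
  have h1 := TorsFlat.comp (B := A) (T := AK)
    ((RingHom.ker (algebraMap R K)).map (algebraMap R A)) (⊥ : Ideal AK) AK D
    (torsFlat_pushout_field (R := R) (A := A) (K := K) (AK := AK) hK)
    (by
      intro x a
      have : (a : AK) = 0 := (Submodule.mem_bot AK).mp a.2
      rw [this, zero_smul])
    (TorsFlat.of_flat (I := (⊥ : Ideal AK)) (L := D))
  exact h1.of_linearEquiv ((TensorProduct.rid AK D).restrictScalars A)

end T2


section T4

/-- `TorsFlat` passes from a ring to a localization (for modules over the localization). -/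
theorem TorsFlat.of_isLocalization {A S : Type u} [CommRing A] [CommRing S] [Algebra A S]
    (M : Submonoid A) [IsLocalization M S] (I : Ideal A) (J : Ideal S)
    (hIJ : I.map (algebraMap A S) ≤ J) (L : Type u) [AddCommGroup L] [Module S L] [Module A L]
    [IsScalarTower A S L] (h : TorsFlat I L) : TorsFlat J L := by
  intro X Y _ _ _ _ hY f hf
  letI : Module A X := Module.compHom X (algebraMap A S)
  haveI : IsScalarTower A S X := IsScalarTower.of_algebraMap_smul (fun _ _ => rfl)
  letI : Module A Y := Module.compHom Y (algebraMap A S)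
  haveI : IsScalarTower A S Y := IsScalarTower.of_algebraMap_smul (fun _ _ => rfl)
  have hY' : Module.IsTorsionBySet A Y (I : Set A) := by
    intro y a
    have hmem : algebraMap A S a ∈ J := hIJ (Ideal.mem_map_of_mem _ a.2)
    show (a : A) • y = 0
    rw [← algebraMap_smul S (a : A) y]
    exact @hY y ⟨_, hmem⟩
  have h1 : Function.Injective ((f.restrictScalars A).lTensor L) :=
    h hY' (f.restrictScalars A) hf
  haveI := IsLocalization.tensorProduct_compatibleSMul M S L X
  haveI := IsLocalization.tensorProduct_compatibleSMul M S L Y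
  let eX : L ⊗[S] X ≃ₗ[S] L ⊗[A] X := TensorProduct.equivOfCompatibleSMul A S S L X
  let eY : L ⊗[S] Y ≃ₗ[S] L ⊗[A] Y := TensorProduct.equivOfCompatibleSMul A S S L Y
  have comm : ∀ z, (f.restrictScalars A).lTensor L (eX z) = eY (f.lTensor L z) := by
    intro z
    induction z using TensorProduct.induction_on with
    | zero => simp
    | add x y hx hy => simp only [map_add, hx, hy]
    | tmul l x => rfl
  intro z w hzw
  apply eX.injective
  apply h1
  rw [comm, comm, hzw]

end T4


section T6

variable {A B' D : Type u} [CommRing A] [CommRing B'] [CommRing D] [Algebra A B'] [Algebra B' D]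
  [Algebra A D] [IsScalarTower A B' D] [IsLocalRing B'] [IsLocalRing D]
  [IsLocalHom (algebraMap B' D)]

/-- Faithfully flat descent in the `TorsFlat` calculus: if `B' → D` is a local homomorphism of
local rings and `D` is `TorsFlat` both over `A` and over `B'`, then `B'` is `TorsFlat` over `A`. -/
theorem torsFlat_descend (I : Ideal A) (hA : TorsFlat I D)
    (hB : TorsFlat (I.map (algebraMap A B')) D) : TorsFlat I B' := by
  intro X Y _ _ _ _ hY f hf
  rw [injective_iff_map_eq_zero]
  intro z hz
  set J : Ideal B' := LinearMap.ker (LinearMap.toSpanSingleton B' (B' ⊗[A] X) z) with hJ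
  let ι : (B' ⧸ J) →ₗ[B'] (B' ⊗[A] X) :=
    Submodule.liftQ J (LinearMap.toSpanSingleton B' (B' ⊗[A] X) z) le_rfl
  have hι : Function.Injective ι := by
    rw [← LinearMap.ker_eq_bot]
    exact Submodule.ker_liftQ_eq_bot _ _ _ le_rfl
  have hX : Module.IsTorsionBySet A X (I : Set A) := isTorsionBySet_of_injective hY f hf
  have hP : Module.IsTorsionBySet B' (B' ⊗[A] X) (I.map (algebraMap A B') : Set B') := by
    rw [Ideal.map, ← Module.isTorsionBySet_iff_is_torsion_by_span]
    rintro w ⟨_, ⟨a, ha, rfl⟩⟩
    show algebraMap A B' a • w = 0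
    induction w using TensorProduct.induction_on with
    | zero => simp
    | tmul s y =>
      rw [algebraMap_smul, ← TensorProduct.tmul_smul, @hX y ⟨a, ha⟩, TensorProduct.tmul_zero]
    | add x y hx hy => rw [smul_add, hx, hy, add_zero]
  have h1 : Function.Injective (ι.lTensor D) := hB hP ι hι
  let F : B' ⊗[A] X →ₗ[B'] B' ⊗[A] Y := f.baseChange B'
  have hF : F z = 0 := hz
  have h2 : Function.Injective (F.lTensor D) := by
    have hfD : Function.Injective (f.lTensor D) := hA hY f hf
    let eX := TensorProduct.AlgebraTensorModule.cancelBaseChange A B' B' D X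
    let eY := TensorProduct.AlgebraTensorModule.cancelBaseChange A B' B' D Y
    have comm : ∀ w, eY (F.lTensor D w) = f.lTensor D (eX w) := by
      intro w
      induction w using TensorProduct.induction_on with
      | zero => simp
      | add x y hx hy => simp only [map_add, hx, hy]
      | tmul m y =>
        induction y using TensorProduct.induction_on with
        | zero => simp
        | add x y hx hy => simp only [TensorProduct.tmul_add, map_add, hx, hy]
        | tmul s x =>
          simp [eX, eY, F, TensorProduct.AlgebraTensorModule.cancelBaseChange_tmul]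
    intro a b hab
    apply eX.injective
    apply hfD
    rw [← comm, ← comm, hab]
  have h3 : F ∘ₗ ι = 0 := by
    apply LinearMap.ext
    intro w
    obtain ⟨b, rfl⟩ := Submodule.Quotient.mk_surjective _ w
    show F (LinearMap.toSpanSingleton B' (B' ⊗[A] X) z b) = 0
    rw [LinearMap.toSpanSingleton_apply, map_smul, hF, smul_zero]
  have h4 : ∀ w : D ⊗[B'] (B' ⧸ J), w = 0 := by
    intro w
    apply h1
    apply h2
    rw [map_zero, map_zero, ← LinearMap.comp_apply, ← LinearMap.lTensor_comp, h3,
      LinearMap.lTensor_zero, LinearMap.zero_apply]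
  have h5 : J = ⊤ := by
    by_contra hne
    have hJm : J ≤ IsLocalRing.maximalIdeal B' := IsLocalRing.le_maximalIdeal hne
    let mD : Ideal D := IsLocalRing.maximalIdeal D
    let l0 : B' →ₗ[B'] (D ⧸ mD) :=
      (Ideal.Quotient.mkₐ B' mD).toLinearMap ∘ₗ (Algebra.linearMap B' D)
    have hl0 : J ≤ LinearMap.ker l0 := by
      intro b hb
      rw [LinearMap.mem_ker]
      show Ideal.Quotient.mk mD (algebraMap B' D b) = 0
      rw [Ideal.Quotient.eq_zero_iff_mem]
      have hb' : b ∈ IsLocalRing.maximalIdeal B' := hJm hb
      rw [IsLocalRing.mem_maximalIdeal] at hb' ⊢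
      exact fun hu => hb' (isUnit_of_map_unit _ _ hu)
    let l : (B' ⧸ J) →ₗ[B'] (D ⧸ mD) := Submodule.liftQ J l0 hl0
    let χ : D ⊗[B'] (B' ⧸ J) →ₗ[D] (D ⧸ mD) := LinearMap.liftBaseChange D l
    have hχ : χ ((1 : D) ⊗ₜ[B'] (Submodule.Quotient.mk (1 : B') : B' ⧸ J)) = 1 := by
      rw [LinearMap.liftBaseChange_tmul, one_smul]
      show l0 1 = 1
      simp [l0]
    rw [h4 ((1 : D) ⊗ₜ[B'] (Submodule.Quotient.mk (1 : B') : B' ⧸ J)), map_zero] at hχ
    have : (1 : D) ∈ mD := Ideal.Quotient.eq_zero_iff_mem.mp hχ.symm
    exact (IsLocalRing.mem_maximalIdeal _).mp this isUnit_one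
  have h6 : (1 : B') ∈ J := by rw [h5]; trivial
  have h7 : LinearMap.toSpanSingleton B' (B' ⊗[A] X) z 1 = 0 := h6
  simpa using h7

end T6


section L

open IsLocalRing

variable {R A B : Type u} [CommRing R] [CommRing A] [CommRing B] [Algebra R A] [Algebra A B]
  [Algebra R B] [IsScalarTower R A B] [Algebra.FinitePresentation R A]
  [Algebra.FinitePresentation R B]

attribute [local instance] Algebra.TensorProduct.rightAlgebra in
/-- Fibre criterion at a prime, for finitely presented algebras `R → A → B`: if `B_q` is flat over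
`R` and `TorsFlat` over `A` for the extension of `q ∩ R`, then `B_q` is flat over `A`. -/
theorem flat_localization_of_torsFlat (q : Ideal B) [q.IsPrime]
    (hflat : Module.Flat R (Localization.AtPrime q))
    (hTF : TorsFlat ((q.under R).map (algebraMap R A)) (Localization.AtPrime q)) :
    Module.Flat A (Localization.AtPrime q) := by
  classical
  let q' : Ideal A := q.under A
  let p : Ideal R := q.under R
  haveI hq' : q'.IsPrime := Ideal.comap_isPrime _ _
  haveI hp : p.IsPrime := Ideal.comap_isPrime _ _
  haveI lo1 : q.LiesOver q' := ⟨rfl⟩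
  haveI lo2 : q.LiesOver p := ⟨rfl⟩
  haveI lo3 : q'.LiesOver p := ⟨(Ideal.under_under (A := R) (B := A) q).symm⟩
  let Rp := Localization.AtPrime p
  let Aq := Localization.AtPrime q'
  let Bq := Localization.AtPrime q
  letI a1 : Algebra Rp Aq := Localization.AtPrime.algebraOfLiesOver p q'
  letI a2 : Algebra Aq Bq := Localization.AtPrime.algebraOfLiesOver q' q
  letI a3 : Algebra Rp Bq := Localization.AtPrime.algebraOfLiesOver p q
  haveI : IsScalarTower Rp Aq Bq := inferInstance
  haveI : IsScalarTower R Rp Aq := inferInstance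
  haveI : IsScalarTower R Rp Bq := inferInstance
  haveI : IsScalarTower A Aq Bq := inferInstance
  haveI lh1 : IsLocalHom (algebraMap Rp Aq) := Localization.isLocalHom_localRingHom _ _ _ _
  haveI lh2 : IsLocalHom (algebraMap Aq Bq) := Localization.isLocalHom_localRingHom _ _ _ _
  -- the finitely presented models
  let T := Rp ⊗[R] A
  let φ : T →ₐ[Rp] Aq := Algebra.TensorProduct.lift (Algebra.ofId Rp Aq)
    (IsScalarTower.toAlgHom R A Aq) (fun _ _ => Commute.all _ _)
  letI aT : Algebra T Aq := φ.toRingHom.toAlgebra
  haveI tw1 : IsScalarTower Rp T Aq := IsScalarTower.of_algebraMap_eq (fun r => (φ.commutes r).symm)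
  haveI tw2 : IsScalarTower A T Aq := by
    refine IsScalarTower.of_algebraMap_eq (fun a => ?_)
    show algebraMap A Aq a = φ ((1 : Rp) ⊗ₜ[R] a)
    rw [Algebra.TensorProduct.lift_tmul, map_one, one_mul]
    rfl
  have hle1 : Algebra.algebraMapSubmonoid A p.primeCompl ≤ q'.primeCompl := by
    rintro _ ⟨r, hr, rfl⟩
    show algebraMap R A r ∉ q'
    intro hmem
    apply hr
    show r ∈ q.comap (algebraMap R B)
    rw [Ideal.mem_comap, IsScalarTower.algebraMap_apply R A B]
    exact hmem
  haveI loc1 : IsLocalization (q'.primeCompl.map (algebraMap A T)) Aq :=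
    IsLocalization.isLocalization_of_submonoid_le T Aq
      (Algebra.algebraMapSubmonoid A p.primeCompl) q'.primeCompl hle1
  let T₀ := Rp ⊗[R] B
  let φ₀ : T₀ →ₐ[Rp] Bq := Algebra.TensorProduct.lift (Algebra.ofId Rp Bq)
    (IsScalarTower.toAlgHom R B Bq) (fun _ _ => Commute.all _ _)
  letI aT₀ : Algebra T₀ Bq := φ₀.toRingHom.toAlgebra
  haveI tw3 : IsScalarTower Rp T₀ Bq :=
    IsScalarTower.of_algebraMap_eq (fun r => (φ₀.commutes r).symm)
  haveI tw4 : IsScalarTower B T₀ Bq := by
    refine IsScalarTower.of_algebraMap_eq (fun a => ?_)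
    show algebraMap B Bq a = φ₀ ((1 : Rp) ⊗ₜ[R] a)
    rw [Algebra.TensorProduct.lift_tmul, map_one, one_mul]
    rfl
  have hle2 : Algebra.algebraMapSubmonoid B p.primeCompl ≤ q.primeCompl := by
    rintro _ ⟨r, hr, rfl⟩
    exact hr
  haveI loc2 : IsLocalization (q.primeCompl.map (algebraMap B T₀)) Bq :=
    IsLocalization.isLocalization_of_submonoid_le T₀ Bq
      (Algebra.algebraMapSubmonoid B p.primeCompl) q.primeCompl hle2
  haveI hRpBq : Module.Flat Rp Bq := (Module.flat_iff_of_isLocalization Rp p.primeCompl Bq).mpr hflat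
  have hle : ((q.under R).map (algebraMap R A)).map (algebraMap A Aq) ≤
      (maximalIdeal Rp).map (algebraMap Rp Aq) := by
    rw [Ideal.map_map, ← IsScalarTower.algebraMap_eq R A Aq, IsScalarTower.algebraMap_eq R Rp Aq,
      ← Ideal.map_map]
    apply Ideal.map_mono
    exact (Localization.AtPrime.map_eq_maximalIdeal (I := p)).le
  have hTF' : TorsFlat ((maximalIdeal Rp).map (algebraMap Rp Aq)) Bq :=
    TorsFlat.of_isLocalization q'.primeCompl _ _ hle Bq hTF
  have hfib := (Groth.Agent.Lib.Helper71.FibreCritNoeth.flat_quot_tensor_iff _ Bq).mp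
    ((torsFlat_iff _ Bq).mp hTF')
  obtain ⟨-, h⟩ := Groth.Agent.H76.FibreCritLocal.fibre_criterion_essFP (R := Rp) (S := Aq)
    (S' := Bq) (M := Bq) (T := T) (T₀ := T₀) (q'.primeCompl.map (algebraMap A T))
    (q.primeCompl.map (algebraMap B T₀)) hfib
  haveI : Module.Flat A Aq := IsLocalization.flat Aq q'.primeCompl
  exact Module.Flat.trans A Aq Bq

end L


section AC

/-- **Fibre criterion for flatness at a point, pushout form** (EGA IV 11.3.10), with the fibre
taken over an arbitrary field-valued point of the base: `R → A → B` finitely presented over `R`,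
`K` a field over `R`, `AK = A ⊗ K`, `BK = B ⊗ K`, `Q` a prime of `BK` with trace `q` on `B`. If
`B_q` is flat over `R` and `(BK)_Q` is flat over `AK`, then `B_q` is flat over `A`. -/
theorem flat_localization_of_isPushout_field {R A B K AK BK : Type u} [CommRing R]
    [CommRing A] [CommRing B] [CommRing K] [CommRing AK] [CommRing BK]
    [Algebra R A] [Algebra A B] [Algebra R B] [IsScalarTower R A B]
    [Algebra R K] [Algebra A AK] [Algebra K AK] [Algebra R AK]
    [IsScalarTower R A AK] [IsScalarTower R K AK] [Algebra.IsPushout R A K AK]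
    [Algebra B BK] [Algebra AK BK] [Algebra A BK]
    [IsScalarTower A B BK] [IsScalarTower A AK BK] [Algebra.IsPushout A B AK BK]
    [Algebra.FinitePresentation R A] [Algebra.FinitePresentation R B] (hK : IsField K)
    (Q : Ideal BK) [Q.IsPrime]
    (hflat : Module.Flat R (Localization.AtPrime (Q.under B)))
    (hfib : Module.Flat AK (Localization.AtPrime Q)) :
    Module.Flat A (Localization.AtPrime (Q.under B)) := by
  let q : Ideal B := Q.under B
  haveI hqp : q.IsPrime := Ideal.comap_isPrime _ _
  let _ : Algebra K BK := ((algebraMap AK BK).comp (algebraMap K AK)).toAlgebra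
  have : IsScalarTower K AK BK := .of_algebraMap_eq' rfl
  let _ : Algebra R BK := ((algebraMap A BK).comp (algebraMap R A)).toAlgebra
  have : IsScalarTower R A BK := .of_algebraMap_eq' rfl
  have : IsScalarTower R B BK := .to₁₃₄ R A B BK
  have : IsScalarTower R AK BK := .to₁₃₄ R A AK BK
  have : IsScalarTower R K BK := .to₁₂₄ R K AK BK
  haveI hPB : Algebra.IsPushout R B K BK :=
    (Algebra.IsPushout.comp_iff R A K AK (T := B) (T' := BK)).mpr inferInstance
  have hQK : ∀ x : K, algebraMap K BK x ∈ Q → x = 0 := by
    intro x hx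
    by_contra hne
    obtain ⟨y, hy⟩ := hK.mul_inv_cancel hne
    have : algebraMap K BK x * algebraMap K BK y = 1 := by rw [← map_mul, hy, map_one]
    exact (Ideal.IsPrime.ne_top inferInstance) (Q.eq_top_of_isUnit_mem hx
      (IsUnit.of_mul_eq_one _ this))
  have hq : q.under R = RingHom.ker (algebraMap R K) := by
    ext x
    rw [RingHom.mem_ker]
    show algebraMap B BK (algebraMap R B x) ∈ Q ↔ _
    rw [← IsScalarTower.algebraMap_apply R B BK, IsScalarTower.algebraMap_apply R K BK]
    constructor
    · exact hQK _
    · intro h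
      rw [h, map_zero]
      exact Q.zero_mem
  let D := Localization.AtPrime Q
  let Bq := Localization.AtPrime q
  haveI : Q.LiesOver q := ⟨rfl⟩
  letI aBD : Algebra Bq D := Localization.AtPrime.algebraOfLiesOver q Q
  haveI : IsLocalHom (algebraMap Bq D) := Localization.isLocalHom_localRingHom _ _ _ _
  haveI : IsScalarTower B Bq D := inferInstance
  haveI : IsScalarTower A Bq D := inferInstance
  have hA : TorsFlat ((RingHom.ker (algebraMap R K)).map (algebraMap R A)) D :=
    torsFlat_of_flat_pushout (R := R) (A := A) (K := K) (AK := AK) hK D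
  haveI : Module.Flat BK D := IsLocalization.flat D Q.primeCompl
  have hB : TorsFlat ((RingHom.ker (algebraMap R K)).map (algebraMap R B)) D :=
    torsFlat_of_flat_pushout (R := R) (A := B) (K := K) (AK := BK) hK D
  have hle : ((RingHom.ker (algebraMap R K)).map (algebraMap R B)).map (algebraMap B Bq) ≤
      ((RingHom.ker (algebraMap R K)).map (algebraMap R A)).map (algebraMap A Bq) := by
    rw [Ideal.map_map, Ideal.map_map, ← IsScalarTower.algebraMap_eq,
      ← IsScalarTower.algebraMap_eq]
  have hBq : TorsFlat (((RingHom.ker (algebraMap R K)).map (algebraMap R A)).map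
      (algebraMap A Bq)) D :=
    TorsFlat.of_isLocalization q.primeCompl _ _ hle D hB
  have hTF : TorsFlat ((RingHom.ker (algebraMap R K)).map (algebraMap R A)) Bq :=
    torsFlat_descend _ hA hBq
  rw [← hq] at hTF
  exact flat_localization_of_torsFlat q hflat hTF

end AC

end Groth.Agent.Lib.Helper14.FibreCrit
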