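import Groth.Agent.Lib.Helper14.FibreCritScheme
import Groth.Agent.Lib.Helper14.GroupFibreLoci
import Groth.Agent.Lib.Helper14.GroupFibreLoci3
import Groth.Agent.Lib.Helper14.DominantQC
import Groth.Agent.Lib.Helper41.FlatSourceDescent

/-!
# Fibrewise flatness for morphisms of `S`-schemes and group schemes (helper14)

Consequences of the fibre criterion `FibreCrit.flat_stalkMap_of_isPullback_field`.
-/

set_option autoImplicit false
universe u
open CategoryTheory CategoryTheory.Limits MonoidalCategory CartesianMonoidalCategory MonObj GrpObj
  AlgebraicGeometry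

namespace Groth.Agent.Lib.Helper14.FibreCrit

section Over

variable {S : Scheme.{u}} {G H : Over S}

/-- Fibre criterion for a morphism of `S`-schemes: if `G` is flat and locally of finite
presentation over `S`, `H` is locally of finite presentation over `S`, and the fibre of `u` over
the image `s` of `x` is flat at a point over `x`, then `u` is flat at `x`. -/
theorem flat_stalkMap_of_fibre (u : G ⟶ H) [LocallyOfFinitePresentation G.hom]
    [LocallyOfFinitePresentation H.hom] (x : G.left) (hGx : (G.hom.stalkMap x).hom.Flat)
    (s : S) (x' : ((Over.pullback (S.fromSpecResidueField s)).obj G).left)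
    (hx' : pullback.fst G.hom (S.fromSpecResidueField s) x' = x)
    (hfl : (((Over.pullback (S.fromSpecResidueField s)).map u).left.stalkMap x').hom.Flat) :
    (u.left.stalkMap x).hom.Flat := by
  have hw : u.left ≫ H.hom = G.hom := Over.w u
  haveI : LocallyOfFinitePresentation (u.left ≫ H.hom) := by rw [hw]; infer_instance
  have hK : IsField (S.residueField s) := Field.toIsField _
  refine flat_stalkMap_of_isPullback_field (K := S.residueField s) hK
    (IsPullback.of_hasPullback H.hom (S.fromSpecResidueField s))
    (isPullback_overPullback_map_left u (S.fromSpecResidueField s)) x' x hx' ?_ hfl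
  have key : ∀ (φ ψ : G.left ⟶ S), φ = ψ → (ψ.stalkMap x).hom.Flat → (φ.stalkMap x).hom.Flat := by
    intro φ ψ h; subst h; exact id
  exact key _ _ hw hGx

/-- Fibrewise flat ⇒ flat. -/
theorem flat_of_flat_fibres (u : G ⟶ H) [Flat G.hom] [LocallyOfFinitePresentation G.hom]
    [LocallyOfFinitePresentation H.hom]
    (h : ∀ s : S, Flat ((Over.pullback (S.fromSpecResidueField s)).map u).left) :
    Flat u.left := by
  refine Flat.of_stalkMap _ fun x => ?_
  let s := G.hom x
  let pt : ↥(Spec (S.residueField s)) := IsLocalRing.closedPoint (S.residueField s)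
  have hpt : G.hom x = S.fromSpecResidueField s pt := (Scheme.fromSpecResidueField_apply s pt).symm
  obtain ⟨x', hx', -⟩ := Scheme.Pullback.exists_preimage_pullback x pt hpt
  haveI := h s
  exact flat_stalkMap_of_fibre u x (Flat.stalkMap G.hom x) s x' hx' (Flat.stalkMap _ x')

end Over

section Sub

variable {T : Scheme.{u}} [Subsingleton T] {G H : Over T} [GrpObj G] [GrpObj H]

/-- A surjective homomorphism of group schemes over a one-point base, with flat source and reduced
target, is flat. -/
theorem flat_of_surjective_grpHom_of_subsingleton [Flat G.hom] (f : G ⟶ H) [IsMonHom f]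
    [Surjective f.left] [IsReduced H.left] : Flat f.left := by
  by_cases hG : IsEmpty G.left
  · exact Flat.of_stalkMap _ fun x => isEmptyElim x
  rw [not_isEmpty_iff] at hG
  obtain ⟨g₀⟩ := hG
  obtain ⟨ξ, hξgen⟩ := QuasiSober.sober (isIrreducible_irreducibleComponent (x := f.left g₀))
    isClosed_irreducibleComponent
  have hξcomp : closure {ξ} ∈ irreducibleComponents H.left := by
    rw [hξgen.def]; exact irreducibleComponent_mem_irreducibleComponents _
  have hξ : ∀ y : H.left, y ⤳ ξ → y = ξ :=
    Groth.Agent.Lib.Helper50.eq_of_specializes_of_closure_mem_irreducibleComponents hξcomp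
  obtain ⟨g, hg⟩ := f.left.surjective ξ
  have hsub : Subsingleton (PrimeSpectrum (H.left.presheaf.stalk (f.left g))) := by
    rw [hg]; exact Groth.Agent.Lib.Helper50.subsingleton_primeSpectrum_stalk ξ hξ
  have hfield : IsField (H.left.presheaf.stalk (f.left g)) := by
    rw [IsLocalRing.isField_iff_maximalIdeal_eq]
    exact Groth.Agent.Lib.Helper50.maximalIdeal_eq_bot_of_subsingleton_primeSpectrum
  exact Groth.Agent.Lib.Helper14.flat_of_flat_stalkMap_of_subsingleton f
    ⟨g, RingHom.Flat.of_isField hfield _⟩

end Sub


section Surj

variable {S : Scheme.{u}} {G H : Over S} [GrpObj G] [GrpObj H]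

/-- A surjective homomorphism `G → H` of `S`-group schemes locally of finite presentation, with `G`
flat over `S` and `H` with geometrically reduced fibres, is flat. -/
theorem flat_of_surjective_grpHom [Flat G.hom] [LocallyOfFinitePresentation G.hom]
    [LocallyOfFinitePresentation H.hom] [GeometricallyReduced H.hom]
    (f : G ⟶ H) [IsMonHom f] [Surjective f.left] : Flat f.left := by
  apply flat_of_flat_fibres f
  intro s
  haveI : Subsingleton ↥(Spec (S.residueField s)) :=
    inferInstanceAs (Subsingleton (PrimeSpectrum (S.residueField s)))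
  haveI : Flat ((Over.pullback (S.fromSpecResidueField s)).obj G).hom := by
    show Flat (pullback.snd _ _); infer_instance
  haveI : Surjective ((Over.pullback (S.fromSpecResidueField s)).map f).left :=
    MorphismProperty.of_isPullback (P := @Surjective)
      (Groth.Agent.Lib.Helper14.isPullback_overPullback_map_left f (S.fromSpecResidueField s))
      inferInstance
  haveI : IsReduced ((Over.pullback (S.fromSpecResidueField s)).obj H).left :=
    show IsReduced (H.hom.fiber s) from inferInstance
  exact flat_of_surjective_grpHom_of_subsingleton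
    ((Over.pullback (S.fromSpecResidueField s)).map f)

end Surj


section FieldPoints

variable {S : Scheme.{u}} {G H : Over S}

/-- Fibre criterion for a morphism of `S`-schemes, with the fibre taken over an arbitrary
field-valued point of `S`. -/
theorem flat_stalkMap_of_field_point (u : G ⟶ H) [LocallyOfFinitePresentation G.hom]
    [LocallyOfFinitePresentation H.hom] (x : G.left) (hGx : (G.hom.stalkMap x).hom.Flat)
    {K : CommRingCat.{u}} (hK : IsField K) (sK : Spec K ⟶ S)
    (x' : ((Over.pullback sK).obj G).left) (hx' : pullback.fst G.hom sK x' = x)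
    (hfl : (((Over.pullback sK).map u).left.stalkMap x').hom.Flat) :
    (u.left.stalkMap x).hom.Flat := by
  have hw : u.left ≫ H.hom = G.hom := Over.w u
  haveI : LocallyOfFinitePresentation (u.left ≫ H.hom) := by rw [hw]; infer_instance
  refine flat_stalkMap_of_isPullback_field (K := K) hK
    (IsPullback.of_hasPullback H.hom sK)
    (isPullback_overPullback_map_left u sK) x' x hx' ?_ hfl
  have key : ∀ (φ ψ : G.left ⟶ S), φ = ψ → (ψ.stalkMap x).hom.Flat → (φ.stalkMap x).hom.Flat := by
    intro φ ψ h; subst h; exact id
  exact key _ _ hw hGx

/-- If every point of `S` is the image of a field-valued point over which the base change of `u`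
is flat, then `u` is flat. -/
theorem flat_of_flat_field_points (u : G ⟶ H) [Flat G.hom] [LocallyOfFinitePresentation G.hom]
    [LocallyOfFinitePresentation H.hom]
    (h : ∀ s : S, ∃ (K : CommRingCat.{u}) (_ : IsField K) (sK : Spec K ⟶ S),
      s ∈ Set.range sK ∧ Flat ((Over.pullback sK).map u).left) :
    Flat u.left := by
  refine Flat.of_stalkMap _ fun x => ?_
  obtain ⟨K, hK, sK, ⟨pt, hpt⟩, hfl⟩ := h (G.hom x)
  obtain ⟨x', hx', -⟩ := Scheme.Pullback.exists_preimage_pullback x pt hpt.symm
  exact flat_stalkMap_of_field_point u x (Flat.stalkMap G.hom x) hK sK x' hx' (Flat.stalkMap _ x')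

end FieldPoints

end Groth.Agent.Lib.Helper14.FibreCrit
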