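import Groth.Agent.Lib.Helper14.FibreCritAlg
import Groth.Agent.Lib.Helper14.SmoothFibreRelScheme

/-!
# Fibre criterion for flatness, scheme form (helper14)

`f : X ⟶ Y` over `S`, with `Y` and `X` locally of finite presentation over `S`, `X` flat over `S`
at `x`; if the base change of `f` to the fibre over a field-valued point of `S` is flat at a point
over `x`, then `f` is flat at `x` (EGA IV 11.3.10).
-/

set_option autoImplicit false
universe u
open CategoryTheory CategoryTheory.Limits AlgebraicGeometry TopologicalSpace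

namespace Groth.Agent.Lib.Helper14.FibreCrit

set_option backward.isDefEq.respectTransparency.types false in
/-- **Critère de platitude par fibres** at a point, for a field-valued point of the base. -/
theorem flat_stalkMap_of_isPullback_field {X Y S YK XK : Scheme.{u}} {K : CommRingCat.{u}}
    (hK : IsField K) {f : X ⟶ Y} {g : Y ⟶ S} {sK : Spec K ⟶ S} {iY : YK ⟶ Y} {gK : YK ⟶ Spec K}
    (HY : IsPullback iY gK g sK) {iX : XK ⟶ X} {fK : XK ⟶ YK} (HX : IsPullback iX fK f iY)
    [LocallyOfFinitePresentation g] [LocallyOfFinitePresentation (f ≫ g)]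
    (x' : XK) (x : X) (hx : iX x' = x) (hflat : ((f ≫ g).stalkMap x).hom.Flat)
    (hx' : (fK.stalkMap x').hom.Flat) : (f.stalkMap x).hom.Flat := by
  subst hx
  obtain ⟨W, hW, hxW, -⟩ := Opens.isBasis_iff_nbhd.mp S.isBasis_affineOpens
    (Opens.mem_top (g (f (iX x'))))
  obtain ⟨V, hV, hxV, eV⟩ := Opens.isBasis_iff_nbhd.mp Y.isBasis_affineOpens
    (show f (iX x') ∈ g ⁻¹ᵁ W from hxW)
  obtain ⟨U, hU, hxU, eU⟩ := Opens.isBasis_iff_nbhd.mp X.isBasis_affineOpens
    (show iX x' ∈ f ⁻¹ᵁ V from hxV)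
  have hsub : Subsingleton (Spec K) := subsingleton_primeSpectrum_of_isField hK
  have hfi : f (iX x') = iY (fK x') := by
    rw [← Scheme.Hom.comp_apply, ← Scheme.Hom.comp_apply, HX.w]
  have hgs : sK (gK (fK x')) = g (f (iX x')) := by
    rw [hfi]
    have h1 : (gK ≫ sK) (fK x') = (iY ≫ g) (fK x') := by rw [HY.w]
    simpa only [Scheme.Hom.comp_apply] using h1
  let W' : (Spec K).Opens := ⊤
  have hW' : IsAffineOpen W' := isAffineOpen_top (Spec K)
  have eW' : W' ≤ sK ⁻¹ᵁ W := fun z _ => by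
    have : z = gK (fK x') := Subsingleton.elim _ _
    rw [this]
    show sK (gK (fK x')) ∈ W
    rw [hgs]; exact hxW
  -- chart on `YK`
  set VK : YK.Opens := iY ⁻¹ᵁ V ⊓ gK ⁻¹ᵁ W' with hVKdef
  have hyVK : fK x' ∈ VK := ⟨by show iY (fK x') ∈ V; rw [← hfi]; exact hxV, trivial⟩
  have eV1 : VK ≤ iY ⁻¹ᵁ V := inf_le_left
  have eV2 : VK ≤ gK ⁻¹ᵁ W' := inf_le_right
  have hisoY := isIso_pushoutSection_of_isAffineOpen HY eW' eV hVKdef hW hW' hV
  have hpushY := (isIso_pushoutSection_iff HY eW' eV hVKdef).mp hisoY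
  have hVK : IsAffineOpen VK := by
    have : IsAffine (Scheme.Opens.toScheme W) := hW
    have : IsAffine (Scheme.Opens.toScheme W') := hW'
    have : IsAffine (Scheme.Opens.toScheme V) := hV
    exact .of_isIso (Scheme.Hom.isPullback_resLE HY eW' eV hVKdef).isoPullback.hom
  -- chart on `XK`
  set UK : XK.Opens := iX ⁻¹ᵁ U ⊓ fK ⁻¹ᵁ VK with hUKdef
  have hxUK : x' ∈ UK := ⟨hxU, hyVK⟩
  have eU1 : UK ≤ iX ⁻¹ᵁ U := inf_le_left
  have eU2 : UK ≤ fK ⁻¹ᵁ VK := inf_le_right
  have hisoX := isIso_pushoutSection_of_isAffineOpen HX eV1 eU hUKdef hV hVK hU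
  have hpushX := (isIso_pushoutSection_iff HX eV1 eU hUKdef).mp hisoX
  have hUK : IsAffineOpen UK := by
    have : IsAffine (Scheme.Opens.toScheme V) := hV
    have : IsAffine (Scheme.Opens.toScheme VK) := hVK
    have : IsAffine (Scheme.Opens.toScheme U) := hU
    exact .of_isIso (Scheme.Hom.isPullback_resLE HX eV1 eU hUKdef).isoPullback.hom
  have hKW' : IsField Γ(Spec K, W') :=
    MulEquiv.isField hK (Scheme.ΓSpecIso K).commRingCatIsoToRingEquiv.toMulEquiv
  rw [flat_stalkMap_iff_flat_localization f V hV U hU eU (iX x') hxU]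
  rw [flat_stalkMap_iff_flat_localization fK VK hVK UK hUK eU2 x' hxUK] at hx'
  have eWU : U ≤ (f ≫ g) ⁻¹ᵁ W := fun z hz => eV (eU hz)
  rw [flat_stalkMap_iff_flat_localization (f ≫ g) W hW U hU eWU (iX x') hxU] at hflat
  have hcomp : ((f ≫ g).appLE W U eWU).hom = (f.appLE V U eU).hom.comp (g.appLE W V eV).hom := by
    rw [← CommRingCat.hom_comp, Scheme.Hom.appLE_comp_appLE]
  replace hflat := flat_localization_of_ringHom_eq _ _ hcomp _ hflat
  have hfpg : (g.appLE W V eV).hom.FinitePresentation := g.finitePresentation_appLE hW hV eV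
  have hfpfg : ((f.appLE V U eU).hom.comp (g.appLE W V eV).hom).FinitePresentation := by
    rw [← hcomp]
    exact (f ≫ g).finitePresentation_appLE hW hU eWU
  algebraize [(g.appLE W V eV).hom, (f.appLE V U eU).hom,
    ((f.appLE V U eU).hom.comp (g.appLE W V eV).hom),
    (sK.appLE W W' eW').hom, (iY.appLE V VK eV1).hom, (gK.appLE W' VK eV2).hom,
    ((iY.appLE V VK eV1).hom.comp (g.appLE W V eV).hom),
    (iX.appLE U UK eU1).hom, (fK.appLE VK UK eU2).hom,
    ((iX.appLE U UK eU1).hom.comp (f.appLE V U eU).hom)]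
  have : IsScalarTower Γ(S, W) Γ(Y, V) Γ(X, U) := .of_algebraMap_eq' rfl
  have : IsScalarTower Γ(S, W) Γ(Y, V) Γ(YK, VK) := .of_algebraMap_eq' rfl
  have : IsScalarTower Γ(S, W) Γ(Spec K, W') Γ(YK, VK) :=
    .of_algebraMap_eq' congr($(hpushY.w).hom)
  have hPY : Algebra.IsPushout Γ(S, W) Γ(Y, V) Γ(Spec K, W') Γ(YK, VK) :=
    CommRingCat.isPushout_iff_isPushout.mp hpushY
  have : IsScalarTower Γ(Y, V) Γ(X, U) Γ(XK, UK) := .of_algebraMap_eq' rfl
  have : IsScalarTower Γ(Y, V) Γ(YK, VK) Γ(XK, UK) :=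
    .of_algebraMap_eq' congr($(hpushX.w).hom)
  have hPX : Algebra.IsPushout Γ(Y, V) Γ(X, U) Γ(YK, VK) Γ(XK, UK) :=
    CommRingCat.isPushout_iff_isPushout.mp hpushX
  have hq2 := congr($(IsAffineOpen.comap_primeIdealOf_appLE U hU UK hUK eU1 hxUK).1)
  simp only [PrimeSpectrum.comap_asIdeal] at hq2
  have key : ∀ (I J : Ideal Γ(X, U)) [I.IsPrime] [J.IsPrime], I = J →
      Module.Flat Γ(S, W) (Localization.AtPrime I) →
      Module.Flat Γ(S, W) (Localization.AtPrime J) := by
    intro I J _ _ h; subst h; exact id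
  have key2 : ∀ (I J : Ideal Γ(X, U)) [I.IsPrime] [J.IsPrime], I = J →
      Module.Flat Γ(Y, V) (Localization.AtPrime I) →
      Module.Flat Γ(Y, V) (Localization.AtPrime J) := by
    intro I J _ _ h; subst h; exact id
  have main := flat_localization_of_isPushout_field (R := Γ(S, W)) (A := Γ(Y, V))
    (B := Γ(X, U)) (K := Γ(Spec K, W')) (AK := Γ(YK, VK)) (BK := Γ(XK, UK)) hKW'
    (hUK.primeIdealOf ⟨x', hxUK⟩).asIdeal
    (key _ _ hq2.symm hflat) hx'
  exact key2 _ _ hq2 main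

end Groth.Agent.Lib.Helper14.FibreCrit
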