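import Groth.Prelude.Def_SGA3x
import Groth.Prelude.Def_Red
import Groth.Prelude.Def_MoreMor
import Groth.Agent.Lib.Helper78.SectionComp
import Groth.Agent.Lib.Helper70.GrpConnD

/-!
# Base change of group schemes: points, units, products (helper14)

A small toolkit relating an `S`-group scheme `G` to its base change `F.obj G` along `f : S' ⟶ S`
(`F = Over.pullback f`), in particular to its fibres, and the set `SGA3x.neutralSet G`.
-/

set_option autoImplicit false
universe u
open CategoryTheory CategoryTheory.Limits MonoidalCategory CartesianMonoidalCategory MonObj GrpObj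
  AlgebraicGeometry

namespace Groth.Agent.Lib.Helper14.FibreGrpTop

variable {S S' : Scheme.{u}} (f : S' ⟶ S) (G : Over S) [GrpObj G]

/-- the projection `G ×_S S' ⟶ G`. -/
noncomputable abbrev pr : ((Over.pullback f).obj G).left ⟶ G.left := pullback.fst G.hom f

/-- the unit section of the base change lies over the unit section. -/
theorem unit_pr : η[(Over.pullback f).obj G].left ≫ pr f G = f ≫ η[G].left := by
  rw [Functor.obj.η_def, Over.comp_left, Category.assoc]
  have h1 : ((Over.pullback f).map η[G]).left ≫ pr f G =
      pullback.fst (𝟙_ (Over S)).hom f ≫ η[G].left := by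
    dsimp [pr]
    exact pullback.lift_fst _ _ _
  rw [h1, ← Category.assoc]
  congr 1
  rw [Over.ε_pullback_left, IsIso.inv_comp_eq]
  have := pullback.condition (f := (𝟙_ (Over S)).hom) (g := f)
  exact (Category.comp_id _).symm.trans this

/-- the comparison map `(G' ×_{S'} G') ⟶ (G ×_S G)` for `G' = G ×_S S'`. -/
noncomputable abbrev pm :
    ((Over.pullback f).obj G ⊗ (Over.pullback f).obj G).left ⟶ (G ⊗ G).left :=
  (Functor.LaxMonoidal.μ (Over.pullback f) G G).left ≫ pullback.fst (G ⊗ G).hom f

omit [GrpObj G] in
theorem pm_fst : pm f G ≫ (fst G G).left =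
    (fst ((Over.pullback f).obj G) ((Over.pullback f).obj G)).left ≫ pr f G := by
  rw [Over.fst_left, Over.fst_left, Category.assoc]
  exact Over.μ_pullback_left_fst_fst G G

omit [GrpObj G] in
theorem pm_snd : pm f G ≫ (snd G G).left =
    (snd ((Over.pullback f).obj G) ((Over.pullback f).obj G)).left ≫ pr f G := by
  rw [Over.snd_left, Over.snd_left, Category.assoc]
  exact Over.μ_pullback_left_fst_snd G G

theorem pm_mul : pm f G ≫ μ[G].left = μ[(Over.pullback f).obj G].left ≫ pr f G := by
  rw [Functor.obj.μ_def, Over.comp_left, Category.assoc, Category.assoc]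
  congr 1
  dsimp [pr]
  exact (pullback.lift_fst _ _ _).symm

/-- the unit section is a section of the structure morphism. -/
theorem unit_hom : (η[G].left : S ⟶ G.left) ≫ G.hom = 𝟙 S := Over.w η[G]

theorem unit_hom_apply (s : S) : G.hom ((η[G].left : S ⟶ G.left) s) = s := by
  have := congr($(unit_hom G) s)
  rw [Scheme.Hom.comp_apply] at this
  exact this

/-- membership in the union of the neutral components of the fibres. -/
theorem mem_neutralSet_iff (x : G.left) :
    x ∈ SGA3x.neutralSet G ↔
      x ∈ connectedComponentIn (G.hom ⁻¹' {G.hom x}) ((η[G].left : S ⟶ G.left) (G.hom x)) := by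
  unfold SGA3x.neutralSet
  rw [Set.mem_iUnion]
  constructor
  · rintro ⟨p, hp⟩
    have h1 : x ∈ G.hom ⁻¹' {(𝟙_ (Over S)).hom p} := connectedComponentIn_subset _ _ hp
    have h2 : G.hom x = p := h1
    rw [h2]
    exact hp
  · intro h
    exact ⟨G.hom x, h⟩

theorem neutralSet_eq_sectionComponents :
    SGA3x.neutralSet G = MoreMor.sectionComponents G.hom (η[G].left : S ⟶ G.left) := by
  ext x
  rw [mem_neutralSet_iff]
  rfl

/-- the fibre of `G` at `s`, as a group scheme over the residue field. -/
noncomputable abbrev Gs (s : S) : Over (Spec (CommRingCat.of (S.residueField s))) :=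
  (Over.pullback (S.fromSpecResidueField s)).obj G

open Groth.Agent.Lib.Helper70.GrpConnA in
/-- the unit point of the fibre. -/
noncomputable def eptF (s : S) : G.hom.fiber s := ept (Gs G s)

open Groth.Agent.Lib.Helper70.GrpConnA in
theorem fiberι_eptF (s : S) :
    G.hom.fiberι s (eptF G s) = (η[G].left : S ⟶ G.left) s := by
  have h := unit_pr (S.fromSpecResidueField s) G
  let pt : ↥(Spec (S.residueField s)) := IsLocalRing.closedPoint (S.residueField s)
  have h2 := congr($(h) pt)
  have h3 : (S.fromSpecResidueField s ≫ (η[G].left : S ⟶ G.left)) pt =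
      (η[G].left : S ⟶ G.left) s := by
    rw [Scheme.Hom.comp_apply, Scheme.fromSpecResidueField_apply]
  exact h2.trans h3

/-- the neutral component of the fibre over `s`, inside `G`. -/
theorem neutralSet_inter_fibre (s : S) :
    SGA3x.neutralSet G ∩ G.hom ⁻¹' {s} =
      G.hom.fiberι s '' connectedComponent (eptF G s) := by
  rw [← Groth.Agent.Lib.Helper78.SectionComp.connectedComponentIn_fibre_eq_image, fiberι_eptF]
  ext x
  constructor
  · rintro ⟨hx, hxs⟩
    have hxs' : G.hom x = s := hxs
    subst hxs'
    exact (mem_neutralSet_iff G x).mp hx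
  · intro hx
    have h1 : x ∈ G.hom ⁻¹' {s} := connectedComponentIn_subset _ _ hx
    have h2 : G.hom x = s := h1
    refine ⟨?_, h1⟩
    rw [mem_neutralSet_iff, h2]
    exact hx

end Groth.Agent.Lib.Helper14.FibreGrpTop
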