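import Mathlib
import Groth.Prelude.Def_AlgGrp
import Groth.Agent.Lib.Helper14.GroupFibreLoci3

/-!
# Homogeneity for orbit maps of group scheme actions
-/

set_option autoImplicit false
universe u
open CategoryTheory CategoryTheory.Limits MonoidalCategory CartesianMonoidalCategory MonObj GrpObj
  AlgebraicGeometry

namespace Groth.Agent.Lib.Helper14

section Action

variable {S : Scheme.{u}} {G X : Over S} [GrpObj G] (a : AlgGrp.Action G X)

theorem act_one {T : Over S} (x : T ⟶ X) : lift (1 : T ⟶ G) x ≫ a.act = x := by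
  have h : lift (1 : T ⟶ G) x = lift (toUnit T) x ≫ (η[G] ▷ X) := by
    apply CartesianMonoidalCategory.hom_ext
    · simp [Hom.one_def]
    · simp
  rw [h, Category.assoc, a.one_act]
  simp

theorem act_mul {T : Over S} (g h : T ⟶ G) (x : T ⟶ X) :
    lift (g * h) x ≫ a.act = lift g (lift h x ≫ a.act) ≫ a.act := by
  have h1 : lift (g * h) x = lift (lift g h) x ≫ (μ[G] ▷ X) := by
    apply CartesianMonoidalCategory.hom_ext
    · simp [Hom.mul_def]
    · simp
  have h2 : lift (lift g h) x ≫ (α_ G G X).hom ≫ (G ◁ a.act) = lift g (lift h x ≫ a.act) := by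
    apply CartesianMonoidalCategory.hom_ext
    · simp
    · simp
  rw [h1, Category.assoc, a.mul_act, ← h2]
  simp only [Category.assoc]

/-- The shear automorphism `(g, x) ↦ (g, g x)` of `G ⊗ X`. -/
noncomputable def actShearIso : G ⊗ X ≅ G ⊗ X where
  hom := lift (fst G X) a.act
  inv := lift (fst G X) (lift ((fst G X)⁻¹) (snd G X) ≫ a.act)
  hom_inv_id := by
    apply CartesianMonoidalCategory.hom_ext
    · simp
    · rw [Category.id_comp, Category.assoc, lift_snd, ← Category.assoc, comp_lift, GrpObj.comp_inv,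
        lift_fst, lift_snd]
      have h0 := act_mul a ((fst G X)⁻¹) (fst G X) (snd G X)
      rw [lift_fst_snd, Category.id_comp] at h0
      rw [← h0, inv_mul_cancel, act_one]
  inv_hom_id := by
    apply CartesianMonoidalCategory.hom_ext
    · simp
    · rw [Category.id_comp, Category.assoc, lift_snd]
      have h0 : lift (fst G X) (lift ((fst G X)⁻¹) (snd G X) ≫ a.act) ≫ a.act =
          lift ((fst G X) * (fst G X)⁻¹) (snd G X) ≫ a.act := (act_mul a _ _ _).symm
      rw [h0, mul_inv_cancel, act_one]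

theorem comp_orbitMap {T : Over S} (s₀ : 𝟙_ (Over S) ⟶ X) (g : T ⟶ G) :
    g ≫ a.orbitMap s₀ = lift g (toUnit T ≫ s₀) ≫ a.act := by
  rw [AlgGrp.Action.orbitMap, ← Category.assoc, comp_lift, Category.comp_id, ← Category.assoc]
  congr 3
  exact toUnit_unique _ _

theorem whiskerLeft_orbitMap_actShear (s₀ : 𝟙_ (Over S) ⟶ X) :
    (G ◁ a.orbitMap s₀) ≫ (actShearIso a).hom =
      (shearIso (𝟙 G)).hom ≫ (G ◁ a.orbitMap s₀) := by
  apply CartesianMonoidalCategory.hom_ext
  · simp [actShearIso, shearIso]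
  · simp only [actShearIso, shearIso, Category.assoc, lift_snd, whiskerLeft_snd, lift_snd_assoc,
      Category.comp_id]
    rw [comp_orbitMap]
    have h1 : (G ◁ a.orbitMap s₀) = lift (fst G G) (snd G G ≫ a.orbitMap s₀) := by
      apply CartesianMonoidalCategory.hom_ext <;> simp
    rw [h1, comp_orbitMap, ← act_mul]

end Action

section Homogeneity

variable {S : Scheme.{u}} {G X : Over S} [GrpObj G]

/-- Homogeneity principle for morphisms equivariant with respect to a shear automorphism. -/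
theorem mem_locus_iff_unit_mem_of_shear (φ : G ⟶ X) (σ : G ⊗ X ≅ G ⊗ X)
    (hσ : (G ◁ φ) ≫ σ.hom = (shearIso (𝟙 G)).hom ≫ (G ◁ φ))
    (L : ∀ {X Y : Scheme.{u}}, (X ⟶ Y) → Set X)
    (h1 : ∀ {X' X Y : Scheme.{u}} (e : X' ⟶ X) [IsIso e] (f : X ⟶ Y) (x' : X'),
      x' ∈ L (e ≫ f) ↔ e x' ∈ L f)
    (h2 : ∀ {X Y Y' : Scheme.{u}} (f : X ⟶ Y) (e : Y ⟶ Y') [IsIso e] (x : X),
      x ∈ L (f ≫ e) ↔ x ∈ L f)
    (h3 : ∀ p : (G ⊗ G).left, p ∈ L (G ◁ φ).left ↔ (snd G G).left p ∈ L φ.left)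
    (x : G.left) : x ∈ L φ.left ↔ η[G].left (G.hom x) ∈ L φ.left := by
  let τ : (G ⊗ G).left ⟶ (G ⊗ G).left := (shearIso (𝟙 G)).hom.left
  let τH : (G ⊗ X).left ⟶ (G ⊗ X).left := σ.hom.left
  have hτ : IsIso τ := inferInstanceAs (IsIso ((Over.forget S).map (shearIso (𝟙 G)).hom))
  have hτH : IsIso τH := inferInstanceAs (IsIso ((Over.forget S).map σ.hom))
  let j : G.left ⟶ (G ⊗ G).left := (lift (𝟙 G) (1 : G ⟶ G)).left
  have hc : (G ◁ φ).left ≫ τH = τ ≫ (G ◁ φ).left := by
    show ((G ◁ φ) ≫ σ.hom).left = ((shearIso (𝟙 G)).hom ≫ (G ◁ φ)).left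
    rw [hσ]
  have key : j x ∈ L (G ◁ φ).left ↔ τ (j x) ∈ L (G ◁ φ).left := by
    rw [← h1 τ, ← hc, h2]
  rw [h3, h3] at key
  have e1 : (snd G G).left (j x) = η[G].left (G.hom x) := by
    have : j ≫ (snd G G).left = G.hom ≫ η[G].left := by
      show (lift (𝟙 G) (1 : G ⟶ G) ≫ snd G G).left = ((toUnit G) ≫ η[G]).left
      rw [lift_snd, Hom.one_def]
    rw [← Scheme.Hom.comp_apply, this, Scheme.Hom.comp_apply]
  have e2 : (snd G G).left (τ (j x)) = x := by
    have : j ≫ τ ≫ (snd G G).left = 𝟙 G.left := by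
      show (lift (𝟙 G) (1 : G ⟶ G) ≫ (shearIso (𝟙 G)).hom ≫ snd G G).left = (𝟙 G : G ⟶ G).left
      rw [lift_id_one_shear_snd]
    rw [← Scheme.Hom.comp_apply, ← Scheme.Hom.comp_apply, this]
    rfl
  rw [e1, e2] at key
  exact key.symm

/-- Homogeneity of the flat locus of a shear-equivariant morphism out of a flat group scheme. -/
theorem flat_stalkMap_iff_unit_of_shear (φ : G ⟶ X) (σ : G ⊗ X ≅ G ⊗ X)
    (hσ : (G ◁ φ) ≫ σ.hom = (shearIso (𝟙 G)).hom ≫ (G ◁ φ)) [Flat G.hom] (x : G.left) :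
    (φ.left.stalkMap x).hom.Flat ↔ (φ.left.stalkMap (η[G].left (G.hom x))).hom.Flat := by
  refine mem_locus_iff_unit_mem_of_shear φ σ hσ (fun f => {x | (f.stalkMap x).hom.Flat})
    (fun e _ f x' => stalkMap_iso_comp_iff RingHom.Flat.respectsIso e f x')
    (fun f e _ x => stalkMap_comp_iso_iff RingHom.Flat.respectsIso f e x)
    (fun p => ?_) x
  have Hsq := isPullback_whiskerLeft_left φ
  have hfl : Flat (snd G X).left := inferInstanceAs (Flat (pullback.snd G.hom X.hom))
  have hfl' : Flat (snd G G).left := inferInstanceAs (Flat (pullback.snd G.hom G.hom))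
  constructor
  · intro hp
    exact flat_stalkMap_of_commSq Hsq.w p (Flat.stalkMap _ _) hp (Flat.stalkMap _ _)
  · intro hp
    exact flat_stalkMap_fst_of_isPullback Hsq.flip p hp

theorem flat_orbitMap_of_flat_stalkMap_of_subsingleton [Subsingleton S] (a : AlgGrp.Action G X)
    (s₀ : 𝟙_ (Over S) ⟶ X) [Flat G.hom]
    (h : ∃ x : G.left, ((a.orbitMap s₀).left.stalkMap x).hom.Flat) :
    Flat (a.orbitMap s₀).left := by
  obtain ⟨x₀, hx₀⟩ := h
  refine Flat.of_stalkMap _ fun x => ?_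
  rw [flat_stalkMap_iff_unit_of_shear _ (actShearIso a) (whiskerLeft_orbitMap_actShear a s₀)]
    at hx₀ ⊢
  rw [Subsingleton.elim (G.hom x) (G.hom x₀)]
  exact hx₀

end Homogeneity

end Groth.Agent.Lib.Helper14
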