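import Mathlib
import Groth.Agent.S7517
import Groth.Agent.Lib.Helper70.GrpConnC
import Groth.Agent.Lib.Helper14.GroupAction

/-!
# Group schemes with connected fibres: geometric irreducibility, and point calculus for actions

* `geometricallyIrreducible_of_connected_fibres` : an `S`-group scheme whose fibres are connected is
  geometrically irreducible over `S` (no finiteness hypothesis).
* point calculus for an action `a : AlgGrp.Action G X` on `G ⊗ (X ⊗ X)`.
-/

set_option autoImplicit false
universe u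
open CategoryTheory CategoryTheory.Limits MonoidalCategory CartesianMonoidalCategory MonObj GrpObj
  AlgebraicGeometry

namespace Groth.Agent.Lib.Helper14.GrpSepQC

/-- A group scheme with connected fibres is geometrically irreducible over its base. -/
theorem geometricallyIrreducible_of_connected_fibres {S : Scheme.{u}} (G : Over S) [GrpObj G]
    (hconn : ∀ s : S, _root_.IsConnected (G.hom ⁻¹' {s})) : GeometricallyIrreducible G.hom := by
  rw [GeometricallyIrreducible.iff_geometricallyIrreducible_fiber]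
  intro s
  let Gs : Over (Spec (CommRingCat.of (S.residueField s))) :=
    (Over.pullback (S.fromSpecResidueField s)).obj G
  have hc : ConnectedSpace Gs.left := by
    have h1 : ConnectedSpace ↥(G.hom ⁻¹' {s}) := isConnected_iff_connectedSpace.mp (hconn s)
    exact (G.hom.fiberHomeo s).symm.surjective.connectedSpace (G.hom.fiberHomeo s).symm.continuous
  have hi : IrreducibleSpace Gs.left :=
    Groth.Agent.Lib.Helper70.GrpConnC.irreducibleSpace_of_connectedSpace Gs
  have := Groth.Agent.S7517.result (S.residueField s) Gs Gs.left (𝟙 _)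
    (by
      rw [show Set.range ⇑(𝟙 Gs.left : Gs.left ⟶ Gs.left) = Set.univ from by
        ext x; simp]
      refine ⟨IrreducibleSpace.isIrreducible_univ _, fun t _ _ => Set.subset_univ t⟩)
    (by simp)
  rw [Category.id_comp] at this
  exact this


open Groth.Agent.Lib.Helper14

variable {S : Scheme.{u}} {G X : Over S} [GrpObj G] (a : AlgGrp.Action G X)

/-- `(h, y, x) ↦ h y`. -/
noncomputable abbrev actFst : G ⊗ (X ⊗ X) ⟶ X := (G ◁ fst X X) ≫ a.act

/-- `(h, y, x) ↦ h x`. -/
noncomputable abbrev actSnd : G ⊗ (X ⊗ X) ⟶ X := (G ◁ snd X X) ≫ a.act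

theorem lift_comp_actFst {T : Over S} (h : T ⟶ G) (y x : T ⟶ X) :
    lift h (lift y x) ≫ actFst a = lift h y ≫ a.act := by
  rw [actFst, ← Category.assoc]
  congr 1
  apply CartesianMonoidalCategory.hom_ext <;> simp

theorem lift_comp_actSnd {T : Over S} (h : T ⟶ G) (y x : T ⟶ X) :
    lift h (lift y x) ≫ actSnd a = lift h x ≫ a.act := by
  rw [actSnd, ← Category.assoc]
  congr 1
  apply CartesianMonoidalCategory.hom_ext <;> simp

/-- the point `(e, y, x)` lies over `(y, x)` and `e x = x`. -/
theorem unit_actSnd :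
    lift (toUnit (X ⊗ X) ≫ η[G]) (𝟙 (X ⊗ X)) ≫ actSnd a = snd X X := by
  have h : (𝟙 (X ⊗ X)) = lift (fst X X) (snd X X) := by simp
  rw [h, lift_comp_actSnd, ← Hom.one_def, act_one]

/-- the point `(g⁻¹, g x, x)` lies over `(g x, x)` and `g⁻¹ (g x) = x`. -/
theorem rho_actFst :
    lift (fst G X ≫ ι[G]) (lift a.act (snd G X)) ≫ actFst a = snd G X := by
  rw [lift_comp_actFst]
  have h1 : a.act = lift (fst G X) (snd G X) ≫ a.act := by simp
  have h2 : fst G X ≫ ι[G] = (fst G X)⁻¹ := (Hom.inv_def _).symm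
  have h3 : lift (fst G X)⁻¹ (lift (fst G X) (snd G X) ≫ a.act) ≫ a.act = snd G X := by
    rw [← act_mul, inv_mul_cancel, act_one]
  rw [h2]
  refine Eq.trans ?_ h3
  rw [← h1]

theorem sigma_actFst_eq_actSnd :
    (G ◁ lift (𝟙 X) (𝟙 X)) ≫ actFst a = (G ◁ lift (𝟙 X) (𝟙 X)) ≫ actSnd a := by
  have h : (G ◁ lift (𝟙 X) (𝟙 X)) = lift (fst G X) (lift (snd G X) (snd G X)) := by
    apply CartesianMonoidalCategory.hom_ext
    · simp
    · apply CartesianMonoidalCategory.hom_ext <;> simp
  rw [h, lift_comp_actFst, lift_comp_actSnd]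

/-- if `h y = h x` then `(y, x)` lies on the diagonal. -/
theorem snd_eq_of_actFst_eq_actSnd {T : Over S} (τ : T ⟶ G ⊗ (X ⊗ X))
    (h : τ ≫ actFst a = τ ≫ actSnd a) :
    τ ≫ snd G (X ⊗ X) = (τ ≫ snd G (X ⊗ X) ≫ snd X X) ≫ lift (𝟙 X) (𝟙 X) := by
  set g : T ⟶ G := τ ≫ fst G (X ⊗ X) with hg
  set y : T ⟶ X := τ ≫ snd G (X ⊗ X) ≫ fst X X with hy
  set x : T ⟶ X := τ ≫ snd G (X ⊗ X) ≫ snd X X with hx
  have hτ : τ = lift g (lift y x) := by
    apply CartesianMonoidalCategory.hom_ext
    · simp [hg]
    · apply CartesianMonoidalCategory.hom_ext <;> simp [hy, hx]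
  have h' : lift g y ≫ a.act = lift g x ≫ a.act := by
    rw [← lift_comp_actFst a g y x, ← lift_comp_actSnd a g y x, ← hτ]
    exact h
  have hyx : y = x := by
    have e1 : lift g⁻¹ (lift g y ≫ a.act) ≫ a.act = y := by
      rw [← act_mul, inv_mul_cancel, act_one]
    have e2 : lift g⁻¹ (lift g x ≫ a.act) ≫ a.act = x := by
      rw [← act_mul, inv_mul_cancel, act_one]
    rw [← e1, h', e2]
  apply CartesianMonoidalCategory.hom_ext
  · simp only [Category.assoc, lift_fst, Category.comp_id]
    exact hyx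
  · simp only [Category.assoc, lift_snd, Category.comp_id]
    rfl

end Groth.Agent.Lib.Helper14.GrpSepQC
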