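import Groth.Agent.S0419
import Groth.Agent.H8.GC.ConsLevel
import Groth.Agent.Lib.Helper23.LimConstructible

/-!
# Geometric connectedness of fibres descends to a stage of a limit (helper14)
-/

set_option autoImplicit false
universe u

open CategoryTheory CategoryTheory.Limits AlgebraicGeometry Topology
open Groth.Agent.H8.GC

namespace Groth.Agent.Lib.Helper14.GeomConnLim

/-- Over a point outside the image of `f`, or with geometrically connected fibre, every geometric
fibre is preconnected. -/
theorem preconnectedSpace_pullback_of_mem {X Y : Scheme.{u}} (f : X ⟶ Y) {Ω : Type u} [Field Ω]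
    (t : Spec (CommRingCat.of Ω) ⟶ Y)
    (h : t (IsLocalRing.closedPoint Ω) ∈ (Set.range f)ᶜ ∪ Econn f) :
    PreconnectedSpace ↥(pullback f t) := by
  rcases h with h | h
  · have hemp : IsEmpty ↥(pullback f t) := by
      refine ⟨fun z => h ⟨pullback.fst f t z, ?_⟩⟩
      have h1 : f (pullback.fst f t z) = t (pullback.snd f t z) := by
        rw [← Scheme.Hom.comp_apply, pullback.condition, Scheme.Hom.comp_apply]
      rw [h1]
      congr 1
      exact Subsingleton.elim (α := PrimeSpectrum Ω) _ _
    exact ⟨by rw [Set.univ_eq_empty_iff.mpr hemp]; exact isPreconnected_empty⟩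
  · have hsq : IsPullback (pullback.fst f t) (pullback.snd f t) f t := IsPullback.of_hasPullback f t
    have hgc : GeometricallyConnected (pullback.snd f t) := by
      rw [GeometricallyConnected.iff_geometricallyConnected_fiber]
      intro y'
      have h2 : t y' ∈ Econn f := by
        rwa [Subsingleton.elim (α := PrimeSpectrum Ω) y' (IsLocalRing.closedPoint Ω)]
      exact (mem_Econn_iff_of_isPullback hsq y').mpr h2
    have hsub : Subsingleton ↥(Spec (CommRingCat.of Ω)) :=
      inferInstanceAs (Subsingleton (PrimeSpectrum Ω))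
    have hne : Nonempty ↥(Spec (CommRingCat.of Ω)) := ⟨IsLocalRing.closedPoint Ω⟩
    have hconn : ConnectedSpace ↥(pullback f t) :=
      GeometricallyConnected.connectedSpace_of_subsingleton (pullback.snd f t)
    infer_instance

/-- If all geometric fibres (over algebraically closed fields) are preconnected, the fibre over a
point of the image is geometrically connected. -/
theorem mem_Econn_of_forall_preconnected {X S : Scheme.{u}} (f : X ⟶ S)
    (hconn : ∀ (Ω : Type u) [Field Ω] [IsAlgClosed Ω] (t : Spec (CommRingCat.of Ω) ⟶ S),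
      PreconnectedSpace ↥(pullback f t))
    (s : S) (hs : s ∈ Set.range f) : s ∈ Econn f := by
  show GeometricallyConnected (f.fiberToSpecResidueField s)
  let K := AlgebraicClosure (S.residueField s)
  let φ : CommRingCat.of (S.residueField s) ⟶ CommRingCat.of K :=
    CommRingCat.ofHom (algebraMap (S.residueField s) K)
  let p := f.fiberToSpecResidueField s
  let pK : pullback p (Spec.map φ) ⟶ Spec (CommRingCat.of K) := pullback.snd p (Spec.map φ)
  have hpb : IsPullback (pullback.fst p (Spec.map φ)) pK p (Spec.map φ) :=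
    IsPullback.of_hasPullback _ _
  have hfib : Nonempty ↥(f.fiber s) := by
    obtain ⟨x, hx⟩ := hs
    exact ⟨f.asFiber x |> (hx ▸ ·)⟩
  have hK : Nonempty ↥(Spec (CommRingCat.of K)) := ⟨IsLocalRing.closedPoint K⟩
  have hsub : Subsingleton ↥(Spec (CommRingCat.of (S.residueField s))) :=
    inferInstanceAs (Subsingleton (PrimeSpectrum (S.residueField s)))
  have hne : Nonempty ↥(pullback p (Spec.map φ)) := inferInstance
  have hpre : PreconnectedSpace ↥(pullback p (Spec.map φ)) := by
    have e := pullbackLeftPullbackSndIso f (S.fromSpecResidueField s) (Spec.map φ)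
    have h1 := hconn K (Spec.map φ ≫ S.fromSpecResidueField s)
    refine ⟨?_⟩
    have h2 := (isPreconnected_univ (α := ↥(pullback f (Spec.map φ ≫ S.fromSpecResidueField s)))).image
      e.hom.homeomorph.symm e.hom.homeomorph.symm.continuous.continuousOn
    rwa [Set.image_univ, e.hom.homeomorph.symm.surjective.range_eq] at h2
  have hcs : ConnectedSpace ↥(pullback p (Spec.map φ)) :=
    { toPreconnectedSpace := hpre, toNonempty := hne }
  have hKgc : GeometricallyConnected pK := geometricallyConnected_of_isSepClosed pK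
  rw [geometricallyConnected_iff] at hKgc ⊢
  refine Groth.Agent.Lib.Helper51.geometrically_of_fieldExt (P := (ConnectedSpace ·)) ?_ φ p pK
    (pullback.fst p (Spec.map φ)) hpb hKgc
  intro Z' Z q _ _ _ h
  have : ConnectedSpace Z' := h
  exact (q.surjective).connectedSpace q.continuous

/-- Geometric connectedness of the fibres descends from the limit to a stage. -/
theorem exists_stage {I : Type u} [SmallCategory I] [IsCofiltered I]
    (D : I ⥤ Scheme.{u}) (c : Cone D) (hc : IsLimit c)
    [∀ (i j : I) (a : i ⟶ j), IsAffineHom (D.map a)]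
    [∀ i : I, AlgebraicGeometry.IsNoetherian (D.obj i)]
    (i₀ : I) {X₀ : Scheme.{u}} (f₀ : X₀ ⟶ D.obj i₀) [QuasiCompact f₀] [LocallyOfFiniteType f₀]
    {X : Scheme.{u}} (f : X ⟶ c.pt) (q : X ⟶ X₀) (hX : IsPullback q f f₀ (c.π.app i₀))
    (hconn : ∀ (Ω : Type u) [Field Ω] [IsAlgClosed Ω] (t : Spec (CommRingCat.of Ω) ⟶ c.pt),
      PreconnectedSpace ↥(pullback f t)) :
    ∃ (i : I) (a : i ⟶ i₀), ∀ (Ω : Type u) [Field Ω] [IsAlgClosed Ω]
      (t : Spec (CommRingCat.of Ω) ⟶ D.obj i), PreconnectedSpace ↥(pullback f₀ (t ≫ D.map a)) := by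
  have hinst : ∀ {i j : I} (a : i ⟶ j), IsAffineHom (D.map a) := fun a => inferInstance
  have hnoe : AlgebraicGeometry.IsNoetherian (D.obj i₀) := inferInstance
  let E : Set (D.obj i₀) := (Set.range f₀)ᶜ ∪ Econn f₀
  have hH420 : H420.{u} := H420_of_H419 (fun f _ _ _ h => Groth.Agent.S0419.result f h)
  have hlfp : LocallyOfFinitePresentation f₀ :=
    LocallyOfFinitePresentation.iff_locallyOfFiniteType.mpr inferInstance
  have hEcons : IsConstructible E := by
    refine IsConstructible.union ?_ (isConstructible_Econn hH420 f₀)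
    refine IsConstructible.compl ?_
    rw [← Set.image_univ]
    exact f₀.isConstructible_image IsConstructible.univ
  have hEall : ∀ s : c.pt, c.π.app i₀ s ∈ E := by
    intro s
    by_cases hs : c.π.app i₀ s ∈ Set.range f₀
    · right
      obtain ⟨x₀, hx₀⟩ := hs
      obtain ⟨x, hx⟩ : ∃ x : X, f x = s := by
        obtain ⟨z, -, hz2⟩ := Scheme.Pullback.exists_preimage_pullback (f := f₀)
          (g := c.π.app i₀) x₀ s hx₀
        refine ⟨hX.isoPullback.inv z, ?_⟩
        rw [← Scheme.Hom.comp_apply, hX.isoPullback_inv_snd]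
        exact hz2
      have h1 : s ∈ Econn f := mem_Econn_of_forall_preconnected f hconn s ⟨x, hx⟩
      exact (mem_Econn_iff_of_isPullback hX s).mp h1
    · left
      exact hs
  have hcompact : IsCompact ((⊤ : (D.obj i₀).Opens) : Set (D.obj i₀)) := by
    rw [TopologicalSpace.Opens.coe_top]
    exact isCompact_univ
  obtain ⟨j, φ, hj⟩ := Groth.Agent.Lib.Helper23.exists_map_preimage_subset_of_isConstructible
    D c hc Eᶜ hEcons.compl ⊤ hcompact ⊥ (by
      intro s hs
      exact absurd (hEall s) hs.1)
  refine ⟨j, φ, fun Ω _ _ t => ?_⟩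
  have hmem : (t ≫ D.map φ) (IsLocalRing.closedPoint Ω) ∈ E := by
    by_contra hne
    have h1 : t (IsLocalRing.closedPoint Ω) ∈
        D.map φ ⁻¹' (Eᶜ ∩ ((⊤ : (D.obj i₀).Opens) : Set (D.obj i₀))) := ⟨hne, trivial⟩
    exact (hj h1).elim
  exact preconnectedSpace_pullback_of_mem f₀ (t ≫ D.map φ) hmem

end Groth.Agent.Lib.Helper14.GeomConnLim
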