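import Groth.Agent.Lib.Helper14.SchImageGroup
import Groth.Agent.Lib.Helper14.GroupFibreLoci
import Groth.Agent.Lib.Helper19.Subscheme
import Groth.Agent.S11936

/-!
# Quasi-compact monomorphisms of group schemes over a local artinian ring are closed immersions

(SGA3 VI_B 1.4.2.)  The key steps: over a perfect field the reduced subscheme `G_red` is a subgroup
scheme; the morphism from `G_red` to the (reduced) schematic image of `G_red → H` is a flat
monomorphism, hence an open immersion, and it is surjective, hence an isomorphism.  So `G_red → H`
is a closed immersion and `u` is universally closed.  Universal closedness descends from an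
algebraic closure and passes through the thickening `Spec k → Spec A`.
-/

set_option autoImplicit false
universe u
open CategoryTheory CategoryTheory.Limits MonoidalCategory CartesianMonoidalCategory MonObj GrpObj
  AlgebraicGeometry

namespace Groth.Agent.Lib.Helper14

section Reduced

variable {S : Scheme.{u}} (G : Over S)

/-- The reduced closed subscheme of an `S`-scheme, as an object over `S`. -/
noncomputable def redObj : Over S :=
  Over.mk ((Scheme.IdealSheafData.vanishingIdeal (⊤ : TopologicalSpace.Closeds G.left)).subschemeι
    ≫ G.hom)

/-- The inclusion of the reduced closed subscheme. -/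
noncomputable def redι : redObj G ⟶ G :=
  Over.homMk (Scheme.IdealSheafData.vanishingIdeal (⊤ : TopologicalSpace.Closeds G.left)).subschemeι
    rfl

instance : IsClosedImmersion (redι G).left :=
  inferInstanceAs (IsClosedImmersion
    (Scheme.IdealSheafData.vanishingIdeal (⊤ : TopologicalSpace.Closeds G.left)).subschemeι)

instance : Surjective (redι G).left := by
  refine ⟨?_⟩
  rw [← Set.range_eq_univ]
  show Set.range
    (Scheme.IdealSheafData.vanishingIdeal (⊤ : TopologicalSpace.Closeds G.left)).subschemeι = _
  rw [Scheme.IdealSheafData.range_subschemeι, Scheme.IdealSheafData.coe_support_vanishingIdeal]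
  rfl

instance : IsReduced (redObj G).left :=
  Groth.Agent.Lib.Helper19.isReduced_subscheme_vanishingIdeal _

instance : Mono (redι G) := by
  have : Mono ((Over.forget S).map (redι G)) := inferInstanceAs (Mono
    (Scheme.IdealSheafData.vanishingIdeal (⊤ : TopologicalSpace.Closeds G.left)).subschemeι)
  exact (Over.forget S).mono_of_mono_map this

end Reduced

section Perfect

variable {k : Type u} [Field k] {G H : Over (Spec (CommRingCat.of k))} [GrpObj G] [GrpObj H]

/-- Over a perfect field, a quasi-compact monomorphic homomorphism of group schemes locally of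
finite type is universally closed. -/
theorem universallyClosed_of_mono_of_perfectField [PerfectField k]
    [LocallyOfFiniteType G.hom] [LocallyOfFiniteType H.hom]
    (u : G ⟶ H) [IsMonHom u] [Mono u] [QuasiCompact u.left] : UniversallyClosed u.left := by
  obtain ⟨⟨m, hm⟩, ⟨v, hv⟩, ⟨e, he⟩⟩ := Groth.Agent.S11936.result k G (redObj G) (redι G)
  let inst : GrpObj (redObj G) := grpObjOfMono (redι G) m hm e he v hv
  have hj : IsMonHom (redι G) := isMonHom_of_grpObjOfMono (redι G) m hm e he v hv
  have hu'mon : IsMonHom (redι G ≫ u) := inferInstance
  have hu'mono : Mono (redι G ≫ u) := mono_comp _ _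
  have hu'qc : QuasiCompact (redι G ≫ u).left := by
    rw [Over.comp_left]; infer_instance
  obtain ⟨Z, instZ, iZ, f', hiZ, hf', hfac, hcl, hdom, hqc', hsurj, -⟩ :=
    exists_grpObj_image (redι G ≫ u)
  have hredZ : IsReduced Z.left := IsSchemeTheoreticallyDominant.isReduced f'.left
  have hflat : Flat f'.left := flat_of_denseRange_grpHom f' f'.left.surjective.denseRange
  have hmono' : Mono f' := by
    have : Mono (f' ≫ iZ) := by rw [hfac]; exact hu'mono
    exact mono_of_mono f' iZ
  have hmonoL : Mono f'.left := inferInstance
  have hlftG : LocallyOfFiniteType (redObj G).hom := by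
    rw [← Over.w (redι G)]; infer_instance
  have hlftZ : LocallyOfFiniteType Z.hom := by
    rw [← Over.w iZ]; infer_instance
  have hlft' : LocallyOfFiniteType f'.left := by
    have : LocallyOfFiniteType (f'.left ≫ Z.hom) := by rw [Over.w f']; exact hlftG
    exact locallyOfFiniteType_of_comp f'.left Z.hom
  have hnoeth : IsLocallyNoetherian Z.left := LocallyOfFiniteType.isLocallyNoetherian Z.hom
  have hlfp : LocallyOfFinitePresentation f'.left := inferInstance
  have hopen : IsOpenImmersion f'.left := IsOpenImmersion.of_flat_of_mono f'.left
  have hiso : IsIso f'.left := (isIso_iff_isOpenImmersion_and_surjective f'.left).mpr ⟨hopen, hsurj⟩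
  have hclu : IsClosedImmersion (redι G ≫ u).left := by
    rw [← hfac, Over.comp_left]; infer_instance
  have huc : UniversallyClosed ((redι G).left ≫ u.left) := by
    rw [← Over.comp_left]; infer_instance
  exact UniversallyClosed.of_comp_surjective (redι G).left u.left

end Perfect

section BaseChange

variable {S T : Scheme.{u}} (φ : T ⟶ S) {G H : Over S} [GrpObj G] [GrpObj H]

/-- the group structure on the base change -/
noncomputable instance grpObjPullbackObj (G : Over S) [GrpObj G] :
    GrpObj ((Over.pullback φ).obj G) :=
  Functor.grpObjObj

instance isMonHomPullbackMap (u : G ⟶ H) [IsMonHom u] : IsMonHom ((Over.pullback φ).map u) :=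
  Functor.map.instIsMonHom (F := Over.pullback φ) G H u

instance monoPullbackMap (u : G ⟶ H) [Mono u] : Mono ((Over.pullback φ).map u) :=
  inferInstance

omit [GrpObj G] [GrpObj H] in
theorem quasiCompact_pullbackMap_left (u : G ⟶ H) [QuasiCompact u.left] :
    QuasiCompact ((Over.pullback φ).map u).left :=
  MorphismProperty.of_isPullback (P := @QuasiCompact) (isPullback_overPullback_map_left u φ)
    inferInstance

end BaseChange

section Field

variable {k : Type u} [Field k] {G H : Over (Spec (CommRingCat.of k))} [GrpObj G] [GrpObj H]

/-- Over a field, a quasi-compact monomorphic homomorphism of group schemes locally of finite type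
is universally closed. -/
theorem universallyClosed_of_mono_of_field
    [LocallyOfFiniteType G.hom] [LocallyOfFiniteType H.hom]
    (u : G ⟶ H) [IsMonHom u] [Mono u] [QuasiCompact u.left] : UniversallyClosed u.left := by
  let K := AlgebraicClosure k
  let ψ : Spec (CommRingCat.of K) ⟶ Spec (CommRingCat.of k) :=
    Spec.map (CommRingCat.ofHom (algebraMap k K))
  have hqc := quasiCompact_pullbackMap_left ψ u
  have h1 : LocallyOfFiniteType ((Over.pullback ψ).obj G).hom :=
    inferInstanceAs (LocallyOfFiniteType (pullback.snd G.hom ψ))
  have h2 : LocallyOfFiniteType ((Over.pullback ψ).obj H).hom :=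
    inferInstanceAs (LocallyOfFiniteType (pullback.snd H.hom ψ))
  have huc : UniversallyClosed ((Over.pullback ψ).map u).left :=
    universallyClosed_of_mono_of_perfectField ((Over.pullback ψ).map u)
  have hψflat : Flat ψ := by
    rw [HasRingHomProperty.Spec_iff (P := @Flat)]
    exact (RingHom.flat_algebraMap_iff).mpr inferInstance
  have hψsurj : Surjective ψ := by
    have : Subsingleton (Spec (CommRingCat.of k)) :=
      inferInstanceAs (Subsingleton (PrimeSpectrum k))
    have : Nonempty (Spec (CommRingCat.of K)) := inferInstanceAs (Nonempty (PrimeSpectrum K))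
    exact ⟨fun x => ⟨Classical.arbitrary _, Subsingleton.elim _ _⟩⟩
  have hQ : (@Surjective ⊓ @Flat ⊓ @QuasiCompact : MorphismProperty Scheme.{u})
      (pullback.fst H.hom ψ) := ⟨⟨inferInstance, inferInstance⟩, inferInstance⟩
  exact MorphismProperty.of_isPullback_of_descendsAlong (P := @UniversallyClosed)
    (Q := @Surjective ⊓ @Flat ⊓ @QuasiCompact) (isPullback_overPullback_map_left u ψ).flip hQ huc

end Field

section Artinian

variable {A : Type u} [CommRing A] [IsArtinianRing A] [IsLocalRing A]
  {G H : Over (Spec (CommRingCat.of A))} [GrpObj G] [GrpObj H]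

/-- Over a local artinian ring, a quasi-compact monomorphic homomorphism of group schemes locally
of finite type is universally closed. -/
theorem universallyClosed_of_mono_of_artinian
    [LocallyOfFiniteType G.hom] [LocallyOfFiniteType H.hom]
    (u : G ⟶ H) [IsMonHom u] [Mono u] [QuasiCompact u.left] : UniversallyClosed u.left := by
  let κ := IsLocalRing.ResidueField A
  let φ : Spec (CommRingCat.of κ) ⟶ Spec (CommRingCat.of A) :=
    Spec.map (CommRingCat.ofHom (IsLocalRing.residue A))
  have hφcl : IsClosedImmersion φ :=
    IsClosedImmersion.spec_of_surjective _ IsLocalRing.residue_surjective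
  have hφsurj : Surjective φ := by
    have : Subsingleton (Spec (CommRingCat.of A)) := by
      show Subsingleton (PrimeSpectrum A)
      refine ⟨fun p q => ?_⟩
      have hp : p.asIdeal.IsMaximal := IsArtinianRing.isMaximal_of_isPrime p.asIdeal
      have hq : q.asIdeal.IsMaximal := IsArtinianRing.isMaximal_of_isPrime q.asIdeal
      ext1
      rw [IsLocalRing.eq_maximalIdeal hp, IsLocalRing.eq_maximalIdeal hq]
    have : Nonempty (Spec (CommRingCat.of κ)) := inferInstanceAs (Nonempty (PrimeSpectrum κ))
    exact ⟨fun x => ⟨Classical.arbitrary _, Subsingleton.elim _ _⟩⟩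
  have hqc := quasiCompact_pullbackMap_left φ u
  have h1 : LocallyOfFiniteType ((Over.pullback φ).obj G).hom :=
    inferInstanceAs (LocallyOfFiniteType (pullback.snd G.hom φ))
  have h2 : LocallyOfFiniteType ((Over.pullback φ).obj H).hom :=
    inferInstanceAs (LocallyOfFiniteType (pullback.snd H.hom φ))
  have huc : UniversallyClosed ((Over.pullback φ).map u).left :=
    universallyClosed_of_mono_of_field ((Over.pullback φ).map u)
  have sq := isPullback_overPullback_map_left u φ
  have huc2 : UniversallyClosed (pullback.fst G.hom φ ≫ u.left) := by
    rw [sq.w]; infer_instance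
  exact UniversallyClosed.of_comp_surjective (pullback.fst G.hom φ) u.left

/-- SGA3 VI_B 1.4.2: over a local artinian ring, a quasi-compact monomorphic homomorphism of group
schemes locally of finite type is a closed immersion. -/
theorem isClosedImmersion_of_mono_of_artinian
    [LocallyOfFiniteType G.hom] [LocallyOfFiniteType H.hom]
    (u : G ⟶ H) [IsMonHom u] [Mono u] [QuasiCompact u.left] : IsClosedImmersion u.left := by
  have huc := universallyClosed_of_mono_of_artinian u
  have hmono : Mono u.left := inferInstance
  have hlft : LocallyOfFiniteType u.left := by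
    have : LocallyOfFiniteType (u.left ≫ H.hom) := by rw [Over.w u]; infer_instance
    exact locallyOfFiniteType_of_comp u.left H.hom
  have hprop : IsProper u.left := {}
  exact (IsClosedImmersion.iff_isProper_and_mono (f := u.left)).mpr ⟨hprop, hmono⟩

end Artinian

end Groth.Agent.Lib.Helper14
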