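import Groth.Agent.S7609
import Groth.Agent.Lib.Helper73.CMFibre1
import Groth.Agent.Lib.Helper22.BirationalBC
import Groth.Agent.Lib.Helper14.MonoClosedImm

/-!
# Local rings of group schemes locally of finite type over a field are Cohen–Macaulay (helper14)

* `exists_iso_comp_eq`: in a cartesian monoidal category, for two points `a b : 𝟙 ⟶ G` of a group
  object there is an automorphism of `G` (a translation) carrying `a` to `b`.
* `isCohenMacaulay_stalk_of_rational_points`: two `K`-points of a `k`-group scheme have
  simultaneously Cohen–Macaulay local rings (at their images).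
* `isCohenMacaulay_stalk_grp`: SGA3 VI_B 1.? — all local rings of a group scheme l.f.t. over a field
  are CM.
-/

set_option autoImplicit false
universe u
open CategoryTheory Limits MonoidalCategory CartesianMonoidalCategory MonObj GrpObj AlgebraicGeometry

namespace Groth.Agent.Lib.Helper14

section Translation

variable {C : Type*} [Category C] [CartesianMonoidalCategory C] {G : C} [GrpObj G]

/-- For two points of a group object there is an automorphism (translation) carrying one to the
other. -/
theorem exists_iso_comp_eq (a b : 𝟙_ C ⟶ G) : ∃ τ : G ≅ G, a ≫ τ.hom = b := by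
  let t : (𝟙_ C ⟶ G) → (G ⟶ G) := fun c => (toUnit G ≫ c) * 𝟙 G
  have hpt : ∀ (c d : 𝟙_ C ⟶ G), d ≫ t c = c * d := by
    intro c d
    simp only [t]
    rw [MonObj.comp_mul, Category.comp_id, ← Category.assoc,
      toUnit_unique (d ≫ toUnit G) (𝟙 _), Category.id_comp]
  have hcomp : ∀ c d : 𝟙_ C ⟶ G, t c ≫ t d = t (d * c) := by
    intro c d
    simp only [t]
    rw [MonObj.comp_mul _ (toUnit G ≫ d) (𝟙 G), Category.comp_id, ← Category.assoc,
      toUnit_unique (_ ≫ toUnit G) (toUnit G), MonObj.comp_mul (toUnit G) d c, _root_.mul_assoc]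
  have hone : t 1 = 𝟙 G := by
    simp only [t]; rw [MonObj.comp_one, _root_.one_mul]
  refine ⟨⟨t (b * a⁻¹), t (a * b⁻¹), ?_, ?_⟩, ?_⟩
  · rw [hcomp, ← hone]; congr 1; group
  · rw [hcomp, ← hone]; congr 1; group
  · show a ≫ t (b * a⁻¹) = b
    rw [hpt, inv_mul_cancel_right]

end Translation

theorem isCohenMacaulay_stalk_iff_of_iso {X : Scheme.{u}} (τ : X ≅ X) (x y : X)
    (h : τ.hom x = y) :
    LocCoh.IsCohenMacaulayLocalRing (X.presheaf.stalk y) ↔
      LocCoh.IsCohenMacaulayLocalRing (X.presheaf.stalk x) := by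
  subst h
  exact Groth.Agent.Lib.Helper24.isCohenMacaulayLocalRing_iff_of_ringEquiv
    (asIso (τ.hom.stalkMap x)).commRingCatIsoToRingEquiv

/-- Two `K`-points of a group scheme over `k` have simultaneously Cohen–Macaulay local rings. -/
theorem isCohenMacaulay_stalk_of_rational_points {k K : Type u} [Field k] [Field K] [Algebra k K]
    (G : Over (Spec (CommRingCat.of k))) [GrpObj G] [LocallyOfFiniteType G.hom]
    (a b : Spec (CommRingCat.of K) ⟶ G.left)
    (ha : a ≫ G.hom = Spec.map (CommRingCat.ofHom (algebraMap k K)))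
    (hb : b ≫ G.hom = Spec.map (CommRingCat.ofHom (algebraMap k K)))
    (p : Spec (CommRingCat.of K)) (x y : G.left) (hx : a p = x) (hy : b p = y)
    (h : LocCoh.IsCohenMacaulayLocalRing (G.left.presheaf.stalk x)) :
    LocCoh.IsCohenMacaulayLocalRing (G.left.presheaf.stalk y) := by
  subst hx hy
  let _ : G.left.Over (Spec (CommRingCat.of k)) := ⟨G.hom⟩
  have hlft : LocallyOfFiniteType (G.left ↘ Spec (CommRingCat.of k)) :=
    ‹LocallyOfFiniteType G.hom›
  let φ : Spec (CommRingCat.of K) ⟶ Spec (CommRingCat.of k) :=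
    Spec.map (CommRingCat.ofHom (algebraMap k K))
  let G' : Over (Spec (CommRingCat.of K)) := (Over.pullback φ).obj G
  let a' : 𝟙_ (Over (Spec (CommRingCat.of K))) ⟶ G' :=
    Over.homMk (pullback.lift a (𝟙 _) (by rw [ha]; simp [φ])) (pullback.lift_snd _ _ _)
  let b' : 𝟙_ (Over (Spec (CommRingCat.of K))) ⟶ G' :=
    Over.homMk (pullback.lift b (𝟙 _) (by rw [hb]; simp [φ])) (pullback.lift_snd _ _ _)
  obtain ⟨τ, hτ⟩ := exists_iso_comp_eq a' b'
  have hτ' : a'.left ≫ τ.hom.left = b'.left := by rw [← Over.comp_left, hτ]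
  have e1 := Groth.Agent.S7609.result k G.left K (a'.left p)
  have e2 := Groth.Agent.S7609.result k G.left K (b'.left p)
  have f0 : a'.left ≫ pullback.fst G.hom φ = a := pullback.lift_fst _ _ _
  have f0' : b'.left ≫ pullback.fst G.hom φ = b := pullback.lift_fst _ _ _
  have f1 : Curv2.bcFst k G.left K (a'.left p) = a p := by
    have := congrArg (fun f : Spec (CommRingCat.of K) ⟶ G.left => f p) f0
    simp only [Scheme.Hom.comp_apply] at this
    exact this
  have f2 : Curv2.bcFst k G.left K (b'.left p) = b p := by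
    have := congrArg (fun f : Spec (CommRingCat.of K) ⟶ G.left => f p) f0'
    simp only [Scheme.Hom.comp_apply] at this
    exact this
  rw [f1] at e1
  rw [f2] at e2
  have e3 := isCohenMacaulay_stalk_iff_of_iso ((Over.forget _).mapIso τ) (a'.left p) (b'.left p)
    (by
      show τ.hom.left (a'.left p) = b'.left p
      rw [← Scheme.Hom.comp_apply, hτ'])
  exact e2.mpr (e3.mpr (e1.mp h))

/-- SGA3 VI_B: all local rings of a group scheme locally of finite type over a field are
Cohen–Macaulay. -/
theorem isCohenMacaulay_stalk_grp (k : Type u) [Field k] (G : Over (Spec (CommRingCat.of k)))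
    [GrpObj G] [LocallyOfFiniteType G.hom] (x : G.left) :
    LocCoh.IsCohenMacaulayLocalRing (G.left.presheaf.stalk x) := by
  have hnoeth : IsLocallyNoetherian G.left := LocallyOfFiniteType.isLocallyNoetherian G.hom
  obtain ⟨ξ, hξ⟩ : (genericPoints G.left).Nonempty := by
    by_contra hcon
    rw [Set.not_nonempty_iff_eq_empty] at hcon
    have h1 := genericPoints.closure (α := G.left)
    rw [hcon, closure_empty] at h1
    exact (Set.mem_empty_iff_false x).mp (h1 ▸ Set.mem_univ x)
  have hCMξ : LocCoh.IsCohenMacaulayLocalRing (G.left.presheaf.stalk ξ) := by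
    have hsub := Groth.Agent.Lib.Helper22.Birational.subsingleton_spec_stalk_of_mem_genericPoints hξ
    have hdim : Ring.KrullDimLE 0 (G.left.presheaf.stalk ξ) := by
      rw [Ring.krullDimLE_zero_iff]
      intro I hI
      have h1 : (⟨I, hI⟩ : PrimeSpectrum (G.left.presheaf.stalk ξ)) =
          IsLocalRing.closedPoint (G.left.presheaf.stalk ξ) := hsub.elim _ _
      have h2 : I = IsLocalRing.maximalIdeal (G.left.presheaf.stalk ξ) :=
        congrArg PrimeSpectrum.asIdeal h1
      rw [h2]; infer_instance
    have hart : IsArtinianRing (G.left.presheaf.stalk ξ) :=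
      IsNoetherianRing.isArtinianRing_of_krullDimLE_zero
    exact Groth.Agent.Lib.Helper73.CMFibre.isCohenMacaulayLocalRing_of_isArtinianRing _
  have hss : Subsingleton ↥(Spec (CommRingCat.of k)) :=
    inferInstanceAs (Subsingleton (PrimeSpectrum k))
  obtain ⟨w, hw1, hw2⟩ := Scheme.Pullback.exists_preimage_pullback (f := G.hom) (g := G.hom) ξ x
    (hss.elim _ _)
  let s : Spec ((pullback G.hom G.hom).residueField w) ⟶ Spec (CommRingCat.of k) :=
    (pullback G.hom G.hom).fromSpecResidueField w ≫ pullback.fst _ _ ≫ G.hom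
  let _ : Algebra k ((pullback G.hom G.hom).residueField w) := (Spec.preimage s).hom.toAlgebra
  have hφ : Spec.map (CommRingCat.ofHom (algebraMap k ((pullback G.hom G.hom).residueField w))) =
      s := Spec.map_preimage s
  have e1 : ∀ p : Spec ((pullback G.hom G.hom).residueField w),
      ((pullback G.hom G.hom).fromSpecResidueField w ≫ pullback.fst _ _) p = ξ := by
    intro p; rw [Scheme.Hom.comp_apply, Scheme.fromSpecResidueField_apply, hw1]
  have e2 : ∀ p : Spec ((pullback G.hom G.hom).residueField w),
      ((pullback G.hom G.hom).fromSpecResidueField w ≫ pullback.snd _ _) p = x := by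
    intro p; rw [Scheme.Hom.comp_apply, Scheme.fromSpecResidueField_apply, hw2]
  exact isCohenMacaulay_stalk_of_rational_points (K := (pullback G.hom G.hom).residueField w) G
    ((pullback G.hom G.hom).fromSpecResidueField w ≫ pullback.fst _ _)
    ((pullback G.hom G.hom).fromSpecResidueField w ≫ pullback.snd _ _)
    (by rw [Category.assoc]; exact hφ.symm)
    (by rw [Category.assoc, ← pullback.condition]; exact hφ.symm)
    (IsLocalRing.closedPoint _) ξ x (e1 _) (e2 _) hCMξ

end Groth.Agent.Lib.Helper14
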