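import Groth.Agent.S0402
import Groth.Agent.S9355
import Groth.Agent.Lib.Helper55.GroupLocalDim
import Groth.Agent.Lib.Helper14.MonoClosedImm

/-!
# The dimension of the fibres of a group scheme (SGA3 VI_B 4.1) (helper14)

* `fibreDimAt_eq_dim_fibre`: for an `S`-group scheme `G` locally of finite type, the local dimension of
  the fibre at any point `x` is the dimension of the whole fibre through `x`.
* `upperSemicontinuous_dim_fibre`: `s ↦ dim G_s` is upper semicontinuous.
-/

set_option autoImplicit false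
universe u
open CategoryTheory CategoryTheory.Limits MonoidalCategory CartesianMonoidalCategory MonObj GrpObj
  AlgebraicGeometry

namespace Groth.Agent.Lib.Helper14

section FibreDim

variable {S : Scheme.{u}} (G : Over S) [GrpObj G] [LocallyOfFiniteType G.hom]

/-- The fibre of a group scheme at a point, as a group scheme over the residue field. -/
noncomputable abbrev fibreGrp (s : S) : Over (Spec (CommRingCat.of (S.residueField s))) :=
  (Over.pullback (S.fromSpecResidueField s)).obj G

instance (s : S) : LocallyOfFiniteType (fibreGrp G s).hom :=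
  inferInstanceAs (LocallyOfFiniteType (pullback.snd G.hom (S.fromSpecResidueField s)))

omit [GrpObj G] in
theorem exists_fibreDimAt_eq_natCast (x : G.left) :
    ∃ n : ℕ, FlatMor.fibreDimAt G.hom x = n :=
  Groth.Agent.Lib.Helper55.exists_localDim_eq_natCast (k := S.residueField (G.hom x))
    (fibreGrp G (G.hom x)).hom (G.hom.asFiber x)

/-- In a group scheme locally of finite type the local dimension of the fibre at any point equals
the dimension of the fibre. -/
theorem fibreDimAt_eq_dim_fibre (x : G.left) :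
    FlatMor.fibreDimAt G.hom x = topologicalKrullDim ↥(G.hom ⁻¹' {G.hom x}) := by
  have h1 := Groth.Agent.Lib.Helper55.localDim_eq_topologicalKrullDim_of_grpObj
    (k := S.residueField (G.hom x)) (fibreGrp G (G.hom x)) (G.hom.asFiber x)
  have h2 : topologicalKrullDim ↥(G.hom.fiber (G.hom x)) =
      topologicalKrullDim ↥(G.hom ⁻¹' {G.hom x}) :=
    IsHomeomorph.topologicalKrullDim_eq _ (G.hom.fiberHomeo (G.hom x)).isHomeomorph
  exact h1.trans h2

omit [LocallyOfFiniteType G.hom] in
theorem unit_hom_apply (s : S) : G.hom ((η[G] : 𝟙_ (Over S) ⟶ G).left s) = s := by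
  have h : (η[G] : 𝟙_ (Over S) ⟶ G).left ≫ G.hom = 𝟙 S := Over.w η[G]
  have := congr($(h) s)
  rw [Scheme.Hom.comp_apply] at this
  exact this

/-- `dim G_s` is the local fibre dimension at the unit point. -/
theorem dim_fibre_eq_fibreDimAt_unit (s : S) :
    topologicalKrullDim ↥(G.hom ⁻¹' {s}) =
      FlatMor.fibreDimAt G.hom ((η[G] : 𝟙_ (Over S) ⟶ G).left s) := by
  rw [fibreDimAt_eq_dim_fibre, unit_hom_apply]

/-- SGA3 VI_B 4.1 (i): `s ↦ dim G_s` is upper semicontinuous. -/
theorem upperSemicontinuous_dim_fibre :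
    UpperSemicontinuous (fun s : S => topologicalKrullDim ↥(G.hom ⁻¹' {s})) := by
  intro s y hy
  obtain ⟨n, hn⟩ := exists_fibreDimAt_eq_natCast G ((η[G] : 𝟙_ (Over S) ⟶ G).left s)
  have hopen : IsOpen {x : G.left | FlatMor.fibreDimAt G.hom x ≤ n} :=
    Groth.Agent.S0402.result G.hom n
  have hmem : s ∈ (η[G] : 𝟙_ (Over S) ⟶ G).left ⁻¹' {x : G.left | FlatMor.fibreDimAt G.hom x ≤ n} := by
    show FlatMor.fibreDimAt G.hom ((η[G] : 𝟙_ (Over S) ⟶ G).left s) ≤ n
    rw [hn]
  have hnhds := (hopen.preimage (η[G] : 𝟙_ (Over S) ⟶ G).left.continuous).mem_nhds hmem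
  refine Filter.mem_of_superset hnhds ?_
  intro t ht
  show topologicalKrullDim ↥(G.hom ⁻¹' {t}) < y
  rw [dim_fibre_eq_fibreDimAt_unit]
  refine lt_of_le_of_lt ht ?_
  rw [← hn, ← dim_fibre_eq_fibreDimAt_unit]
  exact hy

/-- SGA3 VI_B 4.1 (ii): for `G` locally of finite presentation, `s ↦ dim G_s` is locally
constructible. -/
theorem exists_opens_dim_fibre_constructible [LocallyOfFinitePresentation G.hom] (s : S) :
    ∃ V : S.Opens, s ∈ V ∧
      ((fun t : S => topologicalKrullDim ↥(G.hom ⁻¹' {t})) '' (V : Set S)).Finite ∧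
      ∀ d : WithBot ℕ∞, Topology.IsConstructible
        {t : V | topologicalKrullDim ↥(G.hom ⁻¹' {(t : S)}) = d} := by
  let e : S ⟶ G.left := (η[G] : 𝟙_ (Over S) ⟶ G).left
  have hd : ∀ t : S, topologicalKrullDim ↥(G.hom ⁻¹' {t}) = FlatMor.fibreDimAt G.hom (e t) :=
    fun t => dim_fibre_eq_fibreDimAt_unit G t
  obtain ⟨W, hW, hsW, -⟩ := exists_isAffineOpen_mem_and_subset (x := e s) (U := ⊤) trivial
  obtain ⟨V, hV, hsV, hVW⟩ := exists_isAffineOpen_mem_and_subset (x := s) (U := e ⁻¹ᵁ W) hsW
  let F : ℕ → Set G.left := fun n => {x : G.left | FlatMor.fibreDimAt G.hom x ≤ n}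
  have hFo : ∀ n, IsOpen (F n) := fun n => Groth.Agent.S0402.result G.hom n
  have hFr : ∀ n, IsRetrocompact (F n) := fun n => Groth.Agent.S9355.result G.hom n
  have hFmono : Monotone F := by
    intro a b hab x hx
    exact le_trans (show FlatMor.fibreDimAt G.hom x ≤ a from hx) (by exact_mod_cast hab)
  -- a uniform bound on `W`
  obtain ⟨N, hN⟩ : ∃ N, (W : Set G.left) ⊆ F N := by
    refine hW.isCompact.elim_directed_cover F hFo ?_ (directed_of_isDirected_le hFmono)
    intro x _
    obtain ⟨n, hn⟩ := exists_fibreDimAt_eq_natCast G x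
    exact Set.mem_iUnion.mpr ⟨n, hn.le⟩
  have hnat : ∀ t : S, t ∈ V → ∃ m : ℕ, m ≤ N ∧ topologicalKrullDim ↥(G.hom ⁻¹' {t}) = m := by
    intro t ht
    obtain ⟨m, hm⟩ := exists_fibreDimAt_eq_natCast G (e t)
    have hle : FlatMor.fibreDimAt G.hom (e t) ≤ N := hN (hVW ht)
    rw [hm] at hle
    exact ⟨m, by exact_mod_cast hle, (hd t).trans hm⟩
  refine ⟨V, hsV, ?_, ?_⟩
  · refine Set.Finite.subset ((Set.finite_le_nat N).image (fun m : ℕ => (m : WithBot ℕ∞))) ?_
    rintro _ ⟨t, ht, rfl⟩
    obtain ⟨m, hmN, hm⟩ := hnat t ht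
    exact ⟨m, hmN, hm.symm⟩
  · -- the scheme morphism `V ⟶ W` induced by the unit section
    have hrange : Set.range (V.ι ≫ e) ⊆ Set.range W.ι := by
      rintro _ ⟨t, rfl⟩
      rw [Scheme.Opens.range_ι]
      exact hVW t.2
    let f : (V : Scheme.{u}) ⟶ (W : Scheme.{u}) := IsOpenImmersion.lift W.ι (V.ι ≫ e) hrange
    have hf : f ≫ W.ι = V.ι ≫ e := IsOpenImmersion.lift_fac _ _ _
    have hfapp : ∀ t : V, (W.ι (f t) : G.left) = e (t : S) := by
      intro t
      have := congrArg (fun g : (V : Scheme.{u}) ⟶ G.left => g t) hf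
      exact this
    have hVaff : IsAffine (V : Scheme.{u}) := hV
    have hWaff : IsAffine (W : Scheme.{u}) := hW
    have hqc : QuasiCompact f := inferInstance
    let A : ℕ → Set V := fun n => {t : V | FlatMor.fibreDimAt G.hom (e (t : S)) ≤ n}
    have hA : ∀ n, Topology.IsConstructible (A n) := by
      intro n
      have hB : IsRetrocompact (W.ι ⁻¹' F n) :=
        (hFr n).preimage_of_isOpenEmbedding W.ι.isOpenEmbedding
      have hBc : IsCompact (W.ι ⁻¹' F n) := hB.isCompact
      have hBo : IsOpen (W.ι ⁻¹' F n) := (hFo n).preimage W.ι.continuous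
      have hAeq : A n = f ⁻¹' (W.ι ⁻¹' F n) := by
        ext t
        exact Iff.of_eq (congrArg (fun y => FlatMor.fibreDimAt G.hom y ≤ (n : WithBot ℕ∞))
          (hfapp t).symm)
      have hAc : IsCompact (A n) := by
        rw [hAeq]; exact QuasiCompact.isCompact_preimage _ hBo hBc
      have hAo : IsOpen (A n) := by
        rw [hAeq]; exact hBo.preimage f.continuous
      exact hAc.isConstructible hAo
    intro d
    by_cases hdn : ∃ m : ℕ, d = m
    · obtain ⟨m, rfl⟩ := hdn
      have heq : {t : V | topologicalKrullDim ↥(G.hom ⁻¹' {(t : S)}) = (m : WithBot ℕ∞)} =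
          A m \ ⋃ j ∈ {j : ℕ | j < m}, A j := by
        ext t
        obtain ⟨r, hr⟩ := exists_fibreDimAt_eq_natCast G (e t.1)
        have hmemA : ∀ j : ℕ, t ∈ A j ↔ r ≤ j := by
          intro j
          show FlatMor.fibreDimAt G.hom (e t.1) ≤ j ↔ r ≤ j
          rw [hr]; exact Nat.cast_le
        have hleft : t ∈ {t : V | topologicalKrullDim ↥(G.hom ⁻¹' {(t : S)}) = (m : WithBot ℕ∞)} ↔
            r = m := by
          show topologicalKrullDim ↥(G.hom ⁻¹' {t.1}) = (m : WithBot ℕ∞) ↔ r = m
          rw [hd, hr]; exact Nat.cast_inj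
        rw [hleft]
        constructor
        · rintro rfl
          refine ⟨(hmemA r).mpr le_rfl, ?_⟩
          intro hmem
          obtain ⟨j, hj, hjA⟩ := Set.mem_iUnion₂.mp hmem
          exact absurd hj (not_lt.mpr ((hmemA j).mp hjA))
        · rintro ⟨h1, h2⟩
          have h1' := (hmemA m).mp h1
          by_contra hne
          exact h2 (Set.mem_iUnion₂.mpr ⟨r, lt_of_le_of_ne h1' hne, (hmemA r).mpr le_rfl⟩)
      rw [heq]
      exact (hA m).sdiff (Topology.IsConstructible.biUnion (Set.finite_lt_nat m) fun j _ => hA j)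
    · have heq : {t : V | topologicalKrullDim ↥(G.hom ⁻¹' {(t : S)}) = d} = ∅ := by
        ext t
        simp only [Set.mem_ofPred_eq, Set.mem_empty_iff_false, iff_false]
        intro h
        obtain ⟨m, -, hm⟩ := hnat t t.2
        exact hdn ⟨m, h.symm.trans hm⟩
      rw [heq]
      exact Topology.IsConstructible.empty

end FibreDim

end Groth.Agent.Lib.Helper14
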