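import Groth.Agent.Lib.Helper14.GroupFibreLoci

set_option autoImplicit false
universe u
open CategoryTheory CategoryTheory.Limits MonoidalCategory CartesianMonoidalCategory MonObj GrpObj
  AlgebraicGeometry

namespace Groth.Agent.Lib.Helper14

section GroupFibre2

/-- A formally unramified morphism locally of finite type which is universally injective is a
monomorphism. -/
theorem mono_of_universallyInjective_of_formallyUnramified {X Y : Scheme.{u}} (f : X ⟶ Y)
    [UniversallyInjective f] [LocallyOfFiniteType f] [FormallyUnramified f] : Mono f := by
  have hsurj : Surjective (pullback.diagonal f) :=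
    (UniversallyInjective.iff_diagonal f).mp inferInstance
  have hopen : IsOpenImmersion (pullback.diagonal f) := inferInstance
  have hiso : IsIso (pullback.diagonal f) :=
    (isIso_iff_isOpenImmersion_and_epi_base _).mpr
      ⟨hopen, (TopCat.epi_iff_surjective _).mpr hsurj.surj⟩
  exact (pullback.isIso_diagonal_iff f).mp hiso

theorem isOpenImmersion_iff_etale_of_universallyInjective {X Y : Scheme.{u}} (f : X ⟶ Y)
    [UniversallyInjective f] : IsOpenImmersion f ↔ Etale f := by
  constructor
  · intro h
    infer_instance
  · intro h
    have : Mono f := mono_of_universallyInjective_of_formallyUnramified f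
    have : Flat f := inferInstance
    exact IsOpenImmersion.of_flat_of_mono f

/-- A morphism is étale on an open all of whose points are smooth and unramified points. -/
theorem etale_ι_comp_of_forall_mem {X Y : Scheme.{u}} (f : X ⟶ Y)
    [LocallyOfFinitePresentation f] (V : X.Opens)
    (h : ∀ x ∈ V, x ∈ f.smoothLocus ∧ (f.stalkMap x).hom.FormallyUnramified) :
    Etale (V.ι ≫ f) := by
  rw [etale_iff_smooth_and_formallyUnramified]
  constructor
  · rw [← Scheme.Hom.smoothLocus_eq_top_iff, ← Scheme.Hom.preimage_smoothLocus_eq]
    refine eq_top_iff.mpr fun z _ => ?_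
    exact (h z.1 z.2).1
  · refine formallyUnramified_of_stalkMap _ fun z => ?_
    rw [stalkMap_iso_comp_iff RingHom.FormallyUnramified.respectsIso]
    exact (h z.1 z.2).2

variable {S : Scheme.{u}} {G H : Over S} [GrpObj G] [GrpObj H]

/-- SGA 3 VI_B 2.6: open immersion locus for a universally injective homomorphism. -/
theorem isOpen_setOf_isOpenImmersion_fibre_and (u : G ⟶ H) [IsMonHom u]
    [UniversallyInjective u.left] [Flat G.hom] [LocallyOfFinitePresentation u.left] :
    IsOpen {s : S | IsOpenImmersion ((Over.pullback (S.fromSpecResidueField s)).map u).left} ∧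
    ∀ W : S.Opens, (W : Set S) ⊆ {s : S | IsOpenImmersion
        ((Over.pullback (S.fromSpecResidueField s)).map u).left} →
      IsOpenImmersion ((G.hom ⁻¹ᵁ W).ι ≫ u.left) := by
  have hiff : ∀ s : S, IsOpenImmersion ((Over.pullback (S.fromSpecResidueField s)).map u).left ↔
      Etale ((Over.pullback (S.fromSpecResidueField s)).map u).left := by
    intro s
    have HX := isPullback_overPullback_map_left u (S.fromSpecResidueField s)
    have : UniversallyInjective ((Over.pullback (S.fromSpecResidueField s)).map u).left :=
      MorphismProperty.of_isPullback (P := @UniversallyInjective) HX inferInstance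
    exact isOpenImmersion_iff_etale_of_universallyInjective _
  have hset : {s : S | IsOpenImmersion ((Over.pullback (S.fromSpecResidueField s)).map u).left} =
      {s : S | Etale ((Over.pullback (S.fromSpecResidueField s)).map u).left} := by
    ext s
    exact hiff s
  refine ⟨?_, ?_⟩
  · rw [hset]
    exact (isOpen_setOf_etale_fibre_and_eq u).1
  · intro W hW
    have het : Etale ((G.hom ⁻¹ᵁ W).ι ≫ u.left) := by
      refine etale_ι_comp_of_forall_mem u.left _ fun x hx => ?_
      have h1 : Etale ((Over.pullback (S.fromSpecResidueField (G.hom x))).map u).left :=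
        (hiff _).mp (hW hx)
      rw [etale_iff_smooth_and_formallyUnramified, smooth_fibre_iff_unit_mem_smoothLocus,
        formallyUnramified_fibre_iff_unit] at h1
      rw [mem_smoothLocus_iff_unit_mem, formallyUnramified_stalkMap_iff_unit]
      exact h1
    have : UniversallyInjective ((G.hom ⁻¹ᵁ W).ι ≫ u.left) :=
      MorphismProperty.comp_mem _ _ _ inferInstance inferInstance
    exact (isOpenImmersion_iff_etale_of_universallyInjective _).mpr het

end GroupFibre2

end Groth.Agent.Lib.Helper14
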