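import Groth.Agent.Lib.Helper14.GroupFibreLoci3


set_option autoImplicit false
universe u
open CategoryTheory CategoryTheory.Limits MonoidalCategory CartesianMonoidalCategory MonObj GrpObj
  AlgebraicGeometry

namespace Groth.Agent.Lib.Helper14

section GroupFibre4

variable {S : Scheme.{u}} {G H : Over S} [GrpObj G] [GrpObj H]

theorem formallyUnramified_iff_forall_unit (u : G ⟶ H) [IsMonHom u] [LocallyOfFiniteType u.left] :
    FormallyUnramified u.left ↔
      ∀ s : S, (u.left.stalkMap (η[G].left s)).hom.FormallyUnramified := by
  constructor
  · intro h s
    exact FormallyUnramified.stalkMap _ _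
  · intro h
    refine formallyUnramified_of_stalkMap _ fun x => ?_
    rw [formallyUnramified_stalkMap_iff_unit]
    exact h _

theorem formallyUnramified_iff_forall_fibre (u : G ⟶ H) [IsMonHom u]
    [LocallyOfFiniteType u.left] :
    FormallyUnramified u.left ↔ ∀ s : S, FormallyUnramified
      ((Over.pullback (S.fromSpecResidueField s)).map u).left := by
  rw [formallyUnramified_iff_forall_unit]
  exact forall_congr' fun s => (formallyUnramified_fibre_iff_unit u s).symm

/-- The unit section of a group scheme locally of finite type is an open immersion iff the group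
scheme is unramified. -/
theorem isOpenImmersion_unit_iff_formallyUnramified (K : Over S) [GrpObj K]
    [LocallyOfFinitePresentation K.hom] :
    IsOpenImmersion η[K].left ↔ FormallyUnramified K.hom := by
  have hw : η[K].left ≫ K.hom = 𝟙 S := Over.w η[K]
  constructor
  · intro h
    have hu : FormallyUnramified (η[K].left ≫ K.hom) := by
      rw [hw]; exact inferInstanceAs (FormallyUnramified (𝟙 S))
    have hlft : LocallyOfFiniteType (toUnit K).left := inferInstanceAs (LocallyOfFiniteType K.hom)
    refine formallyUnramified_of_stalkMap _ fun x => ?_
    have h1 := formallyUnramified_stalkMap_iff_unit (toUnit K) x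
    refine h1.mpr ?_
    have h2 := FormallyUnramified.stalkMap (η[K].left ≫ K.hom) (K.hom x)
    rw [stalkMap_iso_comp_iff RingHom.FormallyUnramified.respectsIso] at h2
    exact h2
  · intro h
    have het : Etale (η[K].left ≫ K.hom) := by
      rw [hw]; exact inferInstanceAs (Etale (𝟙 S))
    have : Etale η[K].left := Etale.of_comp η[K].left K.hom
    have hmono : Mono (η[K].left ≫ K.hom) := by
      rw [hw]; exact inferInstanceAs (Mono (𝟙 S))
    have : Mono η[K].left := mono_of_mono η[K].left K.hom
    have : Flat η[K].left := inferInstance
    exact IsOpenImmersion.of_flat_of_mono _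

theorem formallyUnramified_iff_kernel (u : G ⟶ H) [IsMonHom u] [LocallyOfFiniteType u.left]
    {K : Over S} [GrpObj K] (i : K ⟶ G) [IsMonHom i]
    (hK : IsPullback i.left K.hom u.left η[H].left) :
    FormallyUnramified u.left ↔ FormallyUnramified K.hom := by
  constructor
  · intro h
    exact MorphismProperty.of_isPullback (P := @FormallyUnramified) hK h
  · intro h
    rw [formallyUnramified_iff_forall_unit]
    intro s
    have h1 := FormallyUnramified.stalkMap K.hom (η[K].left s)
    rw [formallyUnramified_stalkMap_iff_of_isPullback hK] at h1
    have h2 : i.left (η[K].left s) = η[G].left s := by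
      have h3 : η[K].left ≫ i.left = η[G].left := by
        rw [← Over.comp_left, IsMonHom.one_hom]
      rw [← Scheme.Hom.comp_apply, h3]
    rw [h2] at h1
    exact h1

end GroupFibre4

end Groth.Agent.Lib.Helper14
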