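import Mathlib

set_option autoImplicit false
universe u
open CategoryTheory CategoryTheory.Limits AlgebraicGeometry TopologicalSpace

namespace Groth.Agent.Lib.Helper14

section QuasiFiniteBC

/-- A point `z` of the scheme-theoretic fibre is isolated iff its image is isolated in the
topological fibre. -/
theorem isOpen_singleton_fiber_iff {X Y : Scheme.{u}} (f : X ⟶ Y) (y : Y) (z : f.fiber y) :
    IsOpen ({z} : Set (f.fiber y)) ↔
      ∃ U : Set X, IsOpen U ∧ U ∩ f ⁻¹' {y} = {f.fiberι y z} := by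
  have hemb := (f.fiberι y).isEmbedding
  constructor
  · intro h
    obtain ⟨U, hU, hUz⟩ := hemb.isInducing.isOpen_iff.mp h
    refine ⟨U, hU, ?_⟩
    ext x
    constructor
    · rintro ⟨hxU, hxy⟩
      rw [← f.range_fiberι y] at hxy
      obtain ⟨z', rfl⟩ := hxy
      have : z' ∈ (f.fiberι y) ⁻¹' U := hxU
      rw [hUz] at this
      rw [Set.mem_singleton_iff.mp this]
      rfl
    · rintro rfl
      refine ⟨?_, ?_⟩
      · have : z ∈ (f.fiberι y) ⁻¹' U := by rw [hUz]; rfl
        exact this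
      · rw [← f.range_fiberι y]
        exact ⟨z, rfl⟩
  · rintro ⟨U, hU, hUz⟩
    have : ({z} : Set (f.fiber y)) = (f.fiberι y) ⁻¹' U := by
      ext z'
      constructor
      · rintro rfl
        have : f.fiberι y z' ∈ U ∩ f ⁻¹' {y} := by rw [hUz]; rfl
        exact this.1
      · intro hz'
        have h1 : f.fiberι y z' ∈ U ∩ f ⁻¹' {y} := by
          refine ⟨hz', ?_⟩
          rw [← f.range_fiberι y]
          exact ⟨z', rfl⟩
        rw [hUz] at h1
        exact hemb.injective (Set.mem_singleton_iff.mp h1)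
    rw [this]
    exact hU.preimage (f.fiberι y).continuous

/-- Topological characterisation of quasi-finiteness at a point. -/
theorem quasiFiniteAt_iff_exists_isOpen {X Y : Scheme.{u}} (f : X ⟶ Y) [LocallyOfFiniteType f]
    (x : X) : f.QuasiFiniteAt x ↔ ∃ U : Set X, IsOpen U ∧ U ∩ f ⁻¹' {f x} = {x} := by
  rw [Scheme.Hom.quasiFiniteAt_iff_isOpen_singleton_asFiber, isOpen_singleton_fiber_iff,
    f.fiberι_asFiber]

set_option backward.isDefEq.respectTransparency.types false in
theorem quasiFiniteAt_of_isPullback_aux {P X S S' : Scheme.{u}} {g' : P ⟶ X}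
    {f' : P ⟶ S'} {f : X ⟶ S} {g : S' ⟶ S} (H : IsPullback g' f' f g)
    (x' : P) (y' : S') (hy' : f' x' = y') (U' : Set P) (hU' : IsOpen U')
    (hU'x : U' ∩ f' ⁻¹' {y'} = {x'}) :
    ∃ U : Set X, IsOpen U ∧ U ∩ f ⁻¹' {g y'} = {g' x'} := by
  have hmem : x' ∈ Set.range (f'.fiberι y') := by
    rw [f'.range_fiberι y']; exact hy'
  obtain ⟨z', hz'⟩ := hmem
  have hopen : IsOpen ({z'} : Set (f'.fiber y')) := by
    rw [isOpen_singleton_fiber_iff]
    exact ⟨U', hU', by rw [hz']; exact hU'x⟩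
  have Hsq := isPullback_fiberToSpecResidueField_of_isPullback H y'
  have hπopen : UniversallyOpen (pullback.map f' (S'.fromSpecResidueField y') f
      (S.fromSpecResidueField (g y')) g' (Spec.map (g.residueFieldMap y')) g H.w.symm (by simp)) :=
    MorphismProperty.of_isPullback (P := @UniversallyOpen) Hsq.flip inferInstance
  obtain ⟨π, hπ⟩ : ∃ π : f'.fiber y' ⟶ f.fiber (g y'), π = pullback.map f'
      (S'.fromSpecResidueField y') f (S.fromSpecResidueField (g y')) g'
      (Spec.map (g.residueFieldMap y')) g H.w.symm (by simp) := ⟨_, rfl⟩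
  rw [← hπ] at hπopen
  have h1 : π ≫ f.fiberι (g y') = f'.fiberι y' ≫ g' := by
    rw [hπ]; exact pullback.lift_fst _ _ _
  clear hπ Hsq
  have hopen2 : IsOpen ({π z'} : Set (f.fiber (g y'))) := by
    have h3 := (@Scheme.Hom.isOpenMap _ _ π hπopen) _ hopen
    have h2 : (π '' ({z'} : Set (f'.fiber y'))) = {π z'} := Set.image_singleton
    rw [h2] at h3
    exact h3
  obtain ⟨U, hU, hUz⟩ := (isOpen_singleton_fiber_iff f (g y') (π z')).mp hopen2
  have hπι : f.fiberι (g y') (π z') = g' x' := by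
    have h4 := congr($(h1) z')
    rw [Scheme.Hom.comp_apply, Scheme.Hom.comp_apply, hz'] at h4
    exact h4
  exact ⟨U, hU, by rw [hUz, hπι]⟩

set_option backward.isDefEq.respectTransparency.types false in
/-- Quasi-finiteness at a point is invariant under arbitrary base change. -/
theorem quasiFiniteAt_iff_of_isPullback {P X S S' : Scheme.{u}} {g' : P ⟶ X}
    {f' : P ⟶ S'} {f : X ⟶ S} {g : S' ⟶ S} (H : IsPullback g' f' f g) [LocallyOfFiniteType f]
    (x' : P) : f'.QuasiFiniteAt x' ↔ f.QuasiFiniteAt (g' x') := by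
  have hlft' : LocallyOfFiniteType f' :=
    MorphismProperty.of_isPullback (P := @LocallyOfFiniteType) H inferInstance
  constructor
  · intro h
    rw [quasiFiniteAt_iff_exists_isOpen] at h ⊢
    obtain ⟨U', hU', hU'x⟩ := h
    have hfg : f (g' x') = g (f' x') := by
      have h1 : (g' ≫ f) x' = (f' ≫ g) x' := by rw [H.w]
      exact h1
    rw [hfg]
    exact quasiFiniteAt_of_isPullback_aux H x' (f' x') rfl U' hU' hU'x
  · intro h
    have hQ : g' x' ∈ f.quasiFiniteLocus := h
    have h1 := (isPullback_morphismRestrict g' f.quasiFiniteLocus).paste_vert H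
    have h2 : LocallyQuasiFinite ((g' ⁻¹ᵁ f.quasiFiniteLocus).ι ≫ f') :=
      MorphismProperty.of_isPullback (P := @LocallyQuasiFinite) h1 inferInstance
    have h3 : ((g' ⁻¹ᵁ f.quasiFiniteLocus).ι ≫ f').QuasiFiniteAt
        (⟨x', hQ⟩ : ↥(g' ⁻¹ᵁ f.quasiFiniteLocus)) :=
      Scheme.Hom.quasiFiniteAt ((g' ⁻¹ᵁ f.quasiFiniteLocus).ι ≫ f') _
    have h4 : f'.QuasiFiniteAt ((g' ⁻¹ᵁ f.quasiFiniteLocus).ι
        (⟨x', hQ⟩ : ↥(g' ⁻¹ᵁ f.quasiFiniteLocus))) :=
      Scheme.Hom.quasiFiniteAt_comp_iff_of_isOpenImmersion.mp h3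
    rw [Scheme.Opens.ι_apply] at h4
    exact h4

end QuasiFiniteBC

end Groth.Agent.Lib.Helper14
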