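import Groth.Agent.Lib.Helper14.GroupFibreLoci4
import Groth.Agent.Lib.Helper14.QuasiFiniteBaseChange

set_option autoImplicit false
universe u
open CategoryTheory CategoryTheory.Limits MonoidalCategory CartesianMonoidalCategory MonObj GrpObj
  AlgebraicGeometry

namespace Groth.Agent.Lib.Helper14

section GroupFibre5

variable {S : Scheme.{u}} {G H : Over S} [GrpObj G] [GrpObj H]

/-- Homogeneity of the quasi-finite locus of a homomorphism of group schemes. -/
theorem quasiFiniteAt_iff_unit (u : G ⟶ H) [IsMonHom u] [LocallyOfFiniteType u.left]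
    (x : G.left) :
    u.left.QuasiFiniteAt x ↔ u.left.QuasiFiniteAt (η[G].left (G.hom x)) := by
  refine mem_locus_iff_unit_mem u (fun f => {x | f.QuasiFiniteAt x})
    (fun e _ f x' => stalkMap_iso_comp_iff RingHom.QuasiFinite.respectsIso e f x')
    (fun f e _ x => stalkMap_comp_iso_iff RingHom.QuasiFinite.respectsIso f e x)
    (fun p => ?_) x
  exact quasiFiniteAt_iff_of_isPullback (isPullback_whiskerLeft_left u) p

theorem locallyQuasiFinite_fibre_iff_unit_aux (u : G ⟶ H) [IsMonHom u]
    [LocallyOfFiniteType u.left] {T : Scheme.{u}} (φ : T ⟶ S) (s : S) (hφ : ∀ t, φ t = s)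
    (t₀ : T) :
    LocallyQuasiFinite ((Over.pullback φ).map u).left ↔ u.left.QuasiFiniteAt (η[G].left s) := by
  have HX := isPullback_overPullback_map_left u φ
  have hlftK : LocallyOfFiniteType ((Over.pullback φ).map u).left :=
    MorphismProperty.of_isPullback (P := @LocallyOfFiniteType) HX inferInstance
  constructor
  · intro hqf
    have hpt : G.hom (η[G].left s) = φ t₀ := by
      rw [unit_comp_hom_apply, hφ]
    obtain ⟨x', hx'1, -⟩ := Scheme.Pullback.exists_preimage_pullback (f := G.hom) (g := φ)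
      (η[G].left s) t₀ hpt
    rw [← hx'1]
    exact (quasiFiniteAt_iff_of_isPullback HX x').mp (Scheme.Hom.quasiFiniteAt _ x')
  · intro hη
    rw [← Scheme.Hom.quasiFiniteLocus_eq_top_iff]
    refine eq_top_iff.mpr fun x' _ => ?_
    have hx : G.hom (pullback.fst G.hom φ x') = s := hom_fst_apply_of_const φ s hφ x'
    show ((Over.pullback φ).map u).left.QuasiFiniteAt x'
    rw [quasiFiniteAt_iff_of_isPullback HX x', quasiFiniteAt_iff_unit, hx]
    exact hη

theorem locallyQuasiFinite_fibre_iff_unit (u : G ⟶ H) [IsMonHom u]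
    [LocallyOfFiniteType u.left] (s : S) :
    LocallyQuasiFinite ((Over.pullback (S.fromSpecResidueField s)).map u).left ↔
      u.left.QuasiFiniteAt (η[G].left s) :=
  locallyQuasiFinite_fibre_iff_unit_aux u (S.fromSpecResidueField s) s
    (fun t => Scheme.fromSpecResidueField_apply s t) (IsLocalRing.closedPoint _)

theorem exists_locallyQuasiFinite_nhd_iff {X Y : Scheme.{u}} (f : X ⟶ Y) [LocallyOfFiniteType f]
    (x : X) : (∃ W : X.Opens, x ∈ W ∧ LocallyQuasiFinite (W.ι ≫ f)) ↔ f.QuasiFiniteAt x := by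
  constructor
  · rintro ⟨W, hxW, hW⟩
    have h1 : (W.ι ≫ f).QuasiFiniteAt (⟨x, hxW⟩ : ↥W) := Scheme.Hom.quasiFiniteAt _ _
    have h2 : f.QuasiFiniteAt (W.ι (⟨x, hxW⟩ : ↥W)) :=
      Scheme.Hom.quasiFiniteAt_comp_iff_of_isOpenImmersion.mp h1
    rw [Scheme.Opens.ι_apply] at h2
    exact h2
  · intro h
    exact ⟨f.quasiFiniteLocus, h, inferInstance⟩

/-- SGA 3 VI_B 2.5 (quasi-finite case). -/
theorem isOpen_setOf_locallyQuasiFinite_fibre_and_eq (u : G ⟶ H) [IsMonHom u]
    [LocallyOfFiniteType u.left] :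
    IsOpen {s : S | LocallyQuasiFinite
      ((Over.pullback (S.fromSpecResidueField s)).map u).left} ∧
    {x : G.left | ∃ W : G.left.Opens, x ∈ W ∧ LocallyQuasiFinite (W.ι ≫ u.left)} =
      G.hom.base ⁻¹' {s : S | LocallyQuasiFinite
        ((Over.pullback (S.fromSpecResidueField s)).map u).left} := by
  have h1 : {s : S | LocallyQuasiFinite
      ((Over.pullback (S.fromSpecResidueField s)).map u).left} =
      η[G].left ⁻¹' (u.left.quasiFiniteLocus : Set G.left) := by
    ext s
    exact locallyQuasiFinite_fibre_iff_unit u s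
  refine ⟨?_, ?_⟩
  · rw [h1]
    exact u.left.quasiFiniteLocus.isOpen.preimage η[G].left.continuous
  · ext x
    rw [Set.mem_ofPred_eq, exists_locallyQuasiFinite_nhd_iff, h1, quasiFiniteAt_iff_unit]
    rfl

theorem locallyQuasiFinite_iff_forall_unit (u : G ⟶ H) [IsMonHom u]
    [LocallyOfFiniteType u.left] :
    LocallyQuasiFinite u.left ↔ ∀ s : S, u.left.QuasiFiniteAt (η[G].left s) := by
  constructor
  · intro h s
    exact Scheme.Hom.quasiFiniteAt _ _
  · intro h
    rw [← Scheme.Hom.quasiFiniteLocus_eq_top_iff]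
    refine eq_top_iff.mpr fun x _ => ?_
    show u.left.QuasiFiniteAt x
    rw [quasiFiniteAt_iff_unit]
    exact h _

theorem locallyQuasiFinite_iff_forall_fibre (u : G ⟶ H) [IsMonHom u]
    [LocallyOfFiniteType u.left] :
    LocallyQuasiFinite u.left ↔ ∀ s : S, LocallyQuasiFinite
      ((Over.pullback (S.fromSpecResidueField s)).map u).left := by
  rw [locallyQuasiFinite_iff_forall_unit]
  exact forall_congr' fun s => (locallyQuasiFinite_fibre_iff_unit u s).symm

theorem locallyQuasiFinite_iff_kernel (u : G ⟶ H) [IsMonHom u] [LocallyOfFiniteType u.left]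
    {K : Over S} [GrpObj K] (i : K ⟶ G) [IsMonHom i]
    (hK : IsPullback i.left K.hom u.left η[H].left) :
    LocallyQuasiFinite u.left ↔ LocallyQuasiFinite K.hom := by
  constructor
  · intro h
    exact MorphismProperty.of_isPullback (P := @LocallyQuasiFinite) hK h
  · intro h
    rw [locallyQuasiFinite_iff_forall_unit]
    intro s
    have h1 := Scheme.Hom.quasiFiniteAt K.hom (η[K].left s)
    rw [quasiFiniteAt_iff_of_isPullback hK] at h1
    have h2 : i.left (η[K].left s) = η[G].left s := by
      have h3 : η[K].left ≫ i.left = η[G].left := by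
        rw [← Over.comp_left, IsMonHom.one_hom]
      rw [← Scheme.Hom.comp_apply, h3]
    rw [h2] at h1
    exact h1

end GroupFibre5

end Groth.Agent.Lib.Helper14
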