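import Mathlib

set_option autoImplicit false
universe u v
open CategoryTheory CategoryTheory.Limits MonoidalCategory CartesianMonoidalCategory MonObj GrpObj

namespace Groth.Agent.Lib.Helper14

section Shear

variable {C : Type u} [Category.{v} C] [CartesianMonoidalCategory C] {G H : C} [GrpObj G] [GrpObj H]

/-- The shear automorphism `(a, b) ↦ (a, u(a) b)` of `G ⊗ H` attached to `u : G ⟶ H`. -/
noncomputable def shearIso (u : G ⟶ H) : G ⊗ H ≅ G ⊗ H where
  hom := lift (fst G H) ((fst G H ≫ u) * snd G H)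
  inv := lift (fst G H) ((fst G H ≫ u)⁻¹ * snd G H)
  hom_inv_id := by
    apply CartesianMonoidalCategory.hom_ext
    · simp
    · simp [MonObj.comp_mul, GrpObj.comp_inv]
  inv_hom_id := by
    apply CartesianMonoidalCategory.hom_ext
    · simp
    · simp [MonObj.comp_mul]

theorem whiskerLeft_shearIso (u : G ⟶ H) [IsMonHom u] :
    (G ◁ u) ≫ (shearIso u).hom = (shearIso (𝟙 G)).hom ≫ (G ◁ u) := by
  apply CartesianMonoidalCategory.hom_ext
  · simp [shearIso]
  · simp [shearIso, MonObj.comp_mul, MonObj.mul_comp]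

theorem shearIso_id_snd : (shearIso (𝟙 G)).hom ≫ snd G G = μ[G] := by
  simp [shearIso, MonObj.mul_eq_mul]

theorem lift_id_one_shear_snd :
    lift (𝟙 G) (1 : G ⟶ G) ≫ (shearIso (𝟙 G)).hom ≫ snd G G = 𝟙 G := by
  simp [shearIso, MonObj.comp_mul]

end Shear

section Homogeneity

open AlgebraicGeometry

/-- Homogeneity principle for homomorphisms of group schemes: a locus `L` attached functorially
to morphisms, invariant under isomorphisms of source and target and compatible with the base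
change `G ×_S G ⟶ G ×_S H` of `u`, contains a point `x` iff it contains the unit point of the
fibre through `x`. -/
theorem mem_locus_iff_unit_mem {S : Scheme.{u}} {G H : Over S} [GrpObj G] [GrpObj H] (u : G ⟶ H)
    [IsMonHom u] (L : ∀ {X Y : Scheme.{u}}, (X ⟶ Y) → Set X)
    (h1 : ∀ {X' X Y : Scheme.{u}} (e : X' ⟶ X) [IsIso e] (f : X ⟶ Y) (x' : X'),
      x' ∈ L (e ≫ f) ↔ e x' ∈ L f)
    (h2 : ∀ {X Y Y' : Scheme.{u}} (f : X ⟶ Y) (e : Y ⟶ Y') [IsIso e] (x : X),
      x ∈ L (f ≫ e) ↔ x ∈ L f)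
    (h3 : ∀ p : (G ⊗ G).left, p ∈ L (G ◁ u).left ↔ (snd G G).left p ∈ L u.left)
    (x : G.left) : x ∈ L u.left ↔ η[G].left (G.hom x) ∈ L u.left := by
  let τ : (G ⊗ G).left ⟶ (G ⊗ G).left := (shearIso (𝟙 G)).hom.left
  let τH : (G ⊗ H).left ⟶ (G ⊗ H).left := (shearIso u).hom.left
  have hτ : IsIso τ := inferInstanceAs (IsIso ((Over.forget S).map (shearIso (𝟙 G)).hom))
  have hτH : IsIso τH := inferInstanceAs (IsIso ((Over.forget S).map (shearIso u).hom))
  let j : G.left ⟶ (G ⊗ G).left := (lift (𝟙 G) (1 : G ⟶ G)).left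
  have hc : (G ◁ u).left ≫ τH = τ ≫ (G ◁ u).left := by
    show ((G ◁ u) ≫ (shearIso u).hom).left = ((shearIso (𝟙 G)).hom ≫ (G ◁ u)).left
    rw [whiskerLeft_shearIso]
  have key : j x ∈ L (G ◁ u).left ↔ τ (j x) ∈ L (G ◁ u).left := by
    rw [← h1 τ, ← hc, h2]
  rw [h3, h3] at key
  have e1 : (snd G G).left (j x) = η[G].left (G.hom x) := by
    have : j ≫ (snd G G).left = G.hom ≫ η[G].left := by
      show (lift (𝟙 G) (1 : G ⟶ G) ≫ snd G G).left = ((toUnit G) ≫ η[G]).left
      rw [lift_snd, Hom.one_def]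
    rw [← Scheme.Hom.comp_apply, this, Scheme.Hom.comp_apply]
  have e2 : (snd G G).left (τ (j x)) = x := by
    have : j ≫ τ ≫ (snd G G).left = 𝟙 G.left := by
      show (lift (𝟙 G) (1 : G ⟶ G) ≫ (shearIso (𝟙 G)).hom ≫ snd G G).left = (𝟙 G : G ⟶ G).left
      rw [lift_id_one_shear_snd]
    rw [← Scheme.Hom.comp_apply, ← Scheme.Hom.comp_apply, this]
    rfl
  rw [e1, e2] at key
  exact key.symm

end Homogeneity

end Groth.Agent.Lib.Helper14
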