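import Mathlib

/-!
# A point of a locally Noetherian scheme with reduced local ring has a reduced open neighbourhood
-/

set_option autoImplicit false
universe u
open CategoryTheory AlgebraicGeometry

namespace Groth.Agent.Lib.Helper14

/-- If `B` is Noetherian and `B_q` is reduced, then `B_s` is reduced for some `s ∉ q`. -/
theorem exists_isReduced_away_of_isReduced_atPrime {B : Type*} [CommRing B] [IsNoetherianRing B]
    (q : Ideal B) [q.IsPrime] (h : IsReduced (Localization.AtPrime q)) :
    ∃ s : B, s ∉ q ∧ IsReduced (Localization.Away s) := by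
  classical
  obtain ⟨F, hF⟩ := (IsNoetherian.noetherian (nilradical B) : (nilradical B).FG)
  have hn : ∀ n ∈ F, ∃ m : B, m ∉ q ∧ m * n = 0 := by
    intro n hn
    have hnil : IsNilpotent n := by
      have : n ∈ nilradical B := hF ▸ Submodule.subset_span hn
      exact mem_nilradical.mp this
    have h0 : algebraMap B (Localization.AtPrime q) n = 0 :=
      (hnil.map (algebraMap B (Localization.AtPrime q))).eq_zero
    obtain ⟨m, hm⟩ := (IsLocalization.map_eq_zero_iff q.primeCompl _ _).mp h0
    exact ⟨m.1, m.2, hm⟩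
  choose! m hmq hm using hn
  refine ⟨∏ n ∈ F, m n, ?_, ?_⟩
  · intro hs
    obtain ⟨n, hnF, hn⟩ := (Ideal.IsPrime.prod_mem_iff).mp hs
    exact hmq n hnF hn
  · set s := ∏ n ∈ F, m n with hs
    have hsN : ∀ x ∈ nilradical B, s * x = 0 := by
      intro x hx
      rw [← hF] at hx
      refine Submodule.span_induction (p := fun x _ => s * x = 0) ?_ ?_ ?_ ?_ hx
      · intro n hn
        have : m n ∣ s := Finset.dvd_prod_of_mem _ hn
        obtain ⟨c, hc⟩ := this
        rw [hc, mul_comm (m n) c, mul_assoc, hm n hn, mul_zero]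
      · simp
      · intro x y _ _ hx hy; rw [mul_add, hx, hy, add_zero]
      · intro a x _ hx; rw [smul_eq_mul, mul_left_comm, hx, mul_zero]
    constructor
    intro y hy
    obtain ⟨⟨x, t⟩, hxt⟩ := IsLocalization.surj (Submonoid.powers s) y
    dsimp only at hxt
    obtain ⟨r, hr⟩ := hy
    have h1 : algebraMap B (Localization.Away s) (x ^ r) = 0 := by
      rw [map_pow, ← hxt, mul_pow, hr, zero_mul]
    obtain ⟨c, hc⟩ := (IsLocalization.map_eq_zero_iff (Submonoid.powers s) _ _).mp h1
    have h2 : (c.1 * x) ^ (r + 1) = 0 := by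
      calc (c.1 * x) ^ (r + 1) = c.1 ^ r * x * (c.1 * x ^ r) := by ring
        _ = 0 := by rw [hc, mul_zero]
    have h3 : s * (c.1 * x) = 0 := hsN _ (mem_nilradical.mpr ⟨_, h2⟩)
    have h4 : algebraMap B (Localization.Away s) x = 0 := by
      rw [IsLocalization.map_eq_zero_iff (Submonoid.powers s)]
      refine ⟨⟨s, Submonoid.mem_powers s⟩ * c, ?_⟩
      rw [Submonoid.coe_mul, mul_assoc]
      exact h3
    have h5 : y * algebraMap B (Localization.Away s) t = 0 := by rw [hxt, h4]
    exact (IsLocalization.map_units (Localization.Away s) t).mul_left_eq_zero.mp h5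

end Groth.Agent.Lib.Helper14

namespace Groth.Agent.Lib.Helper14

set_option backward.isDefEq.respectTransparency.types false in
/-- A point of a locally Noetherian scheme whose local ring is reduced has a reduced open
neighbourhood. -/
theorem exists_isReduced_nhd {Y : Scheme.{u}} [IsLocallyNoetherian Y] (y : Y)
    (h : _root_.IsReduced (Y.presheaf.stalk y)) :
    ∃ V : Y.Opens, y ∈ V ∧ IsReduced (V : Scheme.{u}) := by
  obtain ⟨_, ⟨W, hW, rfl⟩, hyW, -⟩ :=
    Y.isBasis_affineOpens.exists_subset_of_mem_open (Set.mem_univ y) isOpen_univ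
  have hB : IsNoetherianRing Γ(Y, W) := IsLocallyNoetherian.component_noetherian ⟨W, hW⟩
  let _ := TopCat.Presheaf.algebra_section_stalk Y.presheaf ⟨y, hyW⟩
  have hloc := hW.isLocalization_stalk ⟨y, hyW⟩
  set p := hW.primeIdealOf ⟨y, hyW⟩ with hp
  have hred : _root_.IsReduced (Localization.AtPrime p.asIdeal) :=
    isReduced_of_injective
      (IsLocalization.algEquiv p.asIdeal.primeCompl (Localization.AtPrime p.asIdeal)
        (Y.presheaf.stalk y)).toRingEquiv.toRingHom
      (IsLocalization.algEquiv p.asIdeal.primeCompl (Localization.AtPrime p.asIdeal)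
        (Y.presheaf.stalk y)).injective
  obtain ⟨s, hsp, hs⟩ := exists_isReduced_away_of_isReduced_atPrime p.asIdeal hred
  refine ⟨Y.basicOpen s, ?_, ?_⟩
  · have h1 : hW.fromSpec p = y := hW.fromSpec_primeIdealOf ⟨y, hyW⟩
    rw [← hW.fromSpec_image_basicOpen s, ← h1]
    exact ⟨p, hsp, rfl⟩
  · have hV : IsAffineOpen (Y.basicOpen s) := hW.basicOpen s
    have hlocs := hW.isLocalization_basicOpen s
    have hred2 : _root_.IsReduced Γ(Y, Y.basicOpen s) :=
      isReduced_of_injective
        (IsLocalization.algEquiv (Submonoid.powers s) Γ(Y, Y.basicOpen s)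
          (Localization.Away s)).toRingEquiv.toRingHom
        (IsLocalization.algEquiv (Submonoid.powers s) Γ(Y, Y.basicOpen s)
          (Localization.Away s)).injective
    have : IsAffine (Y.basicOpen s : Scheme.{u}) := hV
    have : _root_.IsReduced Γ((Y.basicOpen s : Scheme.{u}), ⊤) :=
      isReduced_of_injective (Y.basicOpen s).topIso.hom.hom
        (Y.basicOpen s).topIso.commRingCatIsoToRingEquiv.injective
    exact isReduced_of_isAffine_isReduced _

end Groth.Agent.Lib.Helper14
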