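import Mathlib

/-!
# The largest open over which a morphism has a fpqc-local property commutes with flat open
base change (SGA3 VI_B 2.x)
-/

set_option autoImplicit false
universe u
open CategoryTheory CategoryTheory.Limits AlgebraicGeometry TopologicalSpace MorphismProperty

namespace Groth.Agent.Lib.Helper14

section

variable {X Y X' Y' : Scheme.{u}} {g' : X' ⟶ X} {f' : X' ⟶ Y'} {f : X ⟶ Y} {g : Y' ⟶ Y}

/-- Restrictions of a cartesian square over compatible opens form a cartesian square. -/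
theorem isPullback_morphismRestrict_resLE (H : IsPullback g' f' f g) (V : Y.Opens)
    (V' : Y'.Opens) (e : V' ≤ g ⁻¹ᵁ V) :
    ∃ t : (f' ⁻¹ᵁ V' : X'.Opens).toScheme ⟶ (f ⁻¹ᵁ V : X.Opens).toScheme,
      IsPullback t (f' ∣_ V') (f ∣_ V) (g.resLE V V' e) := by
  have e' : f' ⁻¹ᵁ V' ≤ g' ⁻¹ᵁ (f ⁻¹ᵁ V) := by
    intro x hx
    change f (g' x) ∈ V
    have h1 : f (g' x) = g (f' x) := by
      rw [← Scheme.Hom.comp_apply, ← Scheme.Hom.comp_apply, H.w]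
    rw [h1]
    exact e hx
  refine ⟨g'.resLE _ _ e', ?_⟩
  have hbig : IsPullback ((f' ⁻¹ᵁ V').ι ≫ g') (f' ∣_ V') f (V'.ι ≫ g) :=
    (isPullback_morphismRestrict f' V').flip.paste_horiz H
  have hright : IsPullback (f ⁻¹ᵁ V).ι (f ∣_ V) f V.ι := (isPullback_morphismRestrict f V).flip
  have h1 : g'.resLE _ _ e' ≫ (f ⁻¹ᵁ V).ι = (f' ⁻¹ᵁ V').ι ≫ g' := Scheme.Hom.resLE_comp_ι _ _
  have h2 : g.resLE V V' e ≫ V.ι = V'.ι ≫ g := Scheme.Hom.resLE_comp_ι _ _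
  rw [← h1, ← h2] at hbig
  refine IsPullback.of_right hbig ?_ hright
  rw [← cancel_mono V.ι]
  simp only [Category.assoc, morphismRestrict_ι, Scheme.Hom.resLE_comp_ι,
    Scheme.Hom.resLE_comp_ι_assoc]
  rw [H.w, ← Category.assoc, ← morphismRestrict_ι, Category.assoc]

end

section Largest

variable (P : MorphismProperty Scheme.{u}) [P.IsStableUnderBaseChange] [IsZariskiLocalAtTarget P]
  [P.DescendsAlong (@Flat ⊓ @Surjective ⊓ @QuasiCompact)]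

variable {X Y X' Y' : Scheme.{u}} {g' : X' ⟶ X} {f' : X' ⟶ Y'} {f : X ⟶ Y} {g : Y' ⟶ Y}

include P in
/-- if `f` has `P` over `V`, its base change has `P` over any open mapping into `V`. -/
theorem morphismRestrict_of_isPullback (H : IsPullback g' f' f g) (V : Y.Opens)
    (V' : Y'.Opens) (e : V' ≤ g ⁻¹ᵁ V) (h : P (f ∣_ V)) : P (f' ∣_ V') := by
  obtain ⟨t, ht⟩ := isPullback_morphismRestrict_resLE H V V' e
  exact P.of_isPullback ht h

/-- `P` over smaller opens -/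
theorem morphismRestrict_mono {V₁ V₂ : Y.Opens} (e : V₁ ≤ V₂) (h : P (f ∣_ V₂)) : P (f ∣_ V₁) :=
  morphismRestrict_of_isPullback P
    (IsPullback.of_horiz_isIso (fst := 𝟙 X) (snd := f) (f := f) (g := 𝟙 Y) ⟨by simp⟩) V₂ V₁
    (by simpa using e) h

/-- Pointwise descent: if the base change `f'` has `P` over a neighbourhood of `y'`, then `f` has
`P` over a neighbourhood of `g y'`, for `g` flat and open. -/
theorem exists_nhd_of_isPullback (H : IsPullback g' f' f g) [Flat g] (hg : IsOpenMap g.base)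
    (y' : Y') (W₁ : Y'.Opens) (hy' : y' ∈ W₁) (hW₁ : P (f' ∣_ W₁)) :
    ∃ V : Y.Opens, g y' ∈ V ∧ V ≤ ⟨g.base '' (W₁ : Set Y'), hg _ W₁.2⟩ ∧ P (f ∣_ V) := by
  -- affine neighbourhood `A₀` of `g y'`
  obtain ⟨_, ⟨A₀, hA₀, rfl⟩, hyA₀, -⟩ :=
    Y.isBasis_affineOpens.exists_subset_of_mem_open (Set.mem_univ (g y')) isOpen_univ
  -- affine neighbourhood `V'` of `y'` inside `W₁ ⊓ g⁻¹ A₀`
  obtain ⟨_, ⟨V', hV', rfl⟩, hyV', hV'le⟩ :=
    Y'.isBasis_affineOpens.exists_subset_of_mem_open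
      (show y' ∈ ((W₁ ⊓ g ⁻¹ᵁ A₀ : Y'.Opens) : Set Y') from ⟨hy', hyA₀⟩) (W₁ ⊓ g ⁻¹ᵁ A₀).2
  have hV'W₁ : V' ≤ W₁ := fun x hx => (hV'le hx).1
  have hV'A₀ : V' ≤ g ⁻¹ᵁ A₀ := fun x hx => (hV'le hx).2
  let V : Y.Opens := ⟨g.base '' (V' : Set Y'), hg _ V'.2⟩
  have hVA₀ : V ≤ A₀ := by
    rintro _ ⟨x, hx, rfl⟩
    exact hV'A₀ hx
  have e : V' ≤ g ⁻¹ᵁ V := fun x hx => ⟨x, hx, rfl⟩
  refine ⟨V, ⟨y', hyV', rfl⟩, ?_, ?_⟩
  · rintro _ ⟨x, hx, rfl⟩
    exact ⟨x, hV'W₁ hx, rfl⟩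
  · obtain ⟨t, ht⟩ := isPullback_morphismRestrict_resLE H V V' e
    have hPV' : P (f' ∣_ V') := morphismRestrict_mono P hV'W₁ hW₁
    refine MorphismProperty.of_isPullback_of_descendsAlong
      (Q := @Flat ⊓ @Surjective ⊓ @QuasiCompact) ht.flip ?_ hPV'
    refine ⟨⟨?_, ?_⟩, ?_⟩
    · -- flat
      exact inferInstanceAs (Flat (Y'.homOfLE e ≫ g ∣_ V))
    · -- surjective
      refine ⟨fun v => ?_⟩
      obtain ⟨x, hx, hxv⟩ := v.2
      refine ⟨⟨x, hx⟩, Subtype.ext ?_⟩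
      rw [Scheme.Hom.coe_resLE_apply]
      exact hxv
    · -- quasi-compact
      have hV'aff : IsAffine (V' : Scheme.{u}) := hV'
      have hA₀aff : IsAffine (A₀ : Scheme.{u}) := hA₀
      have : QuasiCompact (g.resLE V V' e ≫ Y.homOfLE hVA₀) := inferInstance
      exact QuasiCompact.of_comp (g.resLE V V' e) (Y.homOfLE hVA₀)

end Largest

end Groth.Agent.Lib.Helper14
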