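import Mathlib
import Groth.Agent.Lib.Helper14.LargestOpenDescent
import Groth.Agent.Lib.Helper14.GroupFibreLoci

/-!
# Homogeneity of the largest open of the target over which a homomorphism has a fpqc-local
property (SGA3 VI_B 2.x)
-/

set_option autoImplicit false
universe u
open CategoryTheory CategoryTheory.Limits MonoidalCategory CartesianMonoidalCategory MonObj GrpObj
  AlgebraicGeometry TopologicalSpace MorphismProperty

namespace Groth.Agent.Lib.Helper14

section TargetLocus

variable (P : MorphismProperty Scheme.{u}) [P.IsStableUnderBaseChange] [IsZariskiLocalAtTarget P]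
  [P.DescendsAlong (@Flat ⊓ @Surjective ⊓ @QuasiCompact)]

/-- the set of points of the target having a neighbourhood over which `f` has `P` -/
def targetLocus {X Y : Scheme.{u}} (f : X ⟶ Y) : Set Y :=
  {y | ∃ V : Y.Opens, y ∈ V ∧ P (f ∣_ V)}

variable {X Y X' Y' : Scheme.{u}} {g' : X' ⟶ X} {f' : X' ⟶ Y'} {f : X ⟶ Y} {g : Y' ⟶ Y}

theorem mem_targetLocus_iff_of_isPullback (H : IsPullback g' f' f g) [Flat g]
    (hg : IsOpenMap g.base) (y' : Y') :
    y' ∈ targetLocus P f' ↔ g y' ∈ targetLocus P f := by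
  constructor
  · rintro ⟨W₁, hy', hW₁⟩
    obtain ⟨V, hyV, -, hPV⟩ := exists_nhd_of_isPullback P H hg y' W₁ hy' hW₁
    exact ⟨V, hyV, hPV⟩
  · rintro ⟨V, hyV, hPV⟩
    exact ⟨g ⁻¹ᵁ V, hyV, morphismRestrict_of_isPullback P H V (g ⁻¹ᵁ V) le_rfl hPV⟩

theorem mem_targetLocus_iff_of_largest (W : Y.Opens) (hW : P (f ∣_ W))
    (hmax : ∀ W' : Y.Opens, P (f ∣_ W') → W' ≤ W) (y : Y) : y ∈ targetLocus P f ↔ y ∈ W :=
  ⟨fun ⟨V, hyV, hV⟩ => hmax V hV hyV, fun hy => ⟨W, hy, hW⟩⟩

end TargetLocus

section Group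

variable (P : MorphismProperty Scheme.{u}) [P.IsStableUnderBaseChange] [IsZariskiLocalAtTarget P]
  [P.DescendsAlong (@Flat ⊓ @Surjective ⊓ @QuasiCompact)]

variable {S : Scheme.{u}} {G H : Over S} [GrpObj G] [GrpObj H]

/-- translation invariance of the target locus -/
theorem targetLocus_shear (u : G ⟶ H) [IsMonHom u] [Flat G.hom] [UniversallyOpen G.hom]
    (p : (G ⊗ H).left) :
    (snd G H).left p ∈ targetLocus P u.left ↔
      (snd G H).left ((shearIso u).hom.left p) ∈ targetLocus P u.left := by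
  have hfl : Flat (snd G H).left := inferInstanceAs (Flat (pullback.snd G.hom H.hom))
  have huo : UniversallyOpen (snd G H).left :=
    inferInstanceAs (UniversallyOpen (pullback.snd G.hom H.hom))
  have hop : IsOpenMap (snd G H).left.base := (snd G H).left.isOpenMap
  let τ : (G ⊗ G).left ⟶ (G ⊗ G).left := (shearIso (𝟙 G)).hom.left
  let τH : (G ⊗ H).left ⟶ (G ⊗ H).left := (shearIso u).hom.left
  have hτ : IsIso τ := inferInstanceAs (IsIso ((Over.forget S).map (shearIso (𝟙 G)).hom))
  have hτH : IsIso τH := inferInstanceAs (IsIso ((Over.forget S).map (shearIso u).hom))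
  have hc : (G ◁ u).left ≫ τH = τ ≫ (G ◁ u).left := by
    show ((G ◁ u) ≫ (shearIso u).hom).left = ((shearIso (𝟙 G)).hom ≫ (G ◁ u)).left
    rw [whiskerLeft_shearIso]
  have Hsh : IsPullback τ (G ◁ u).left (G ◁ u).left τH := IsPullback.of_horiz_isIso ⟨hc.symm⟩
  have h1 := mem_targetLocus_iff_of_isPullback P Hsh τH.isOpenEmbedding.isOpenMap p
  have Hsq := isPullback_whiskerLeft_left u
  have h2 := fun q => mem_targetLocus_iff_of_isPullback P Hsq hop q
  rw [← h2, ← h2]
  exact h1

/-- the preimage of the target locus is stable under left translation by arbitrary points -/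
theorem mul_mem_preimage_targetLocus (u : G ⟶ H) [IsMonHom u] [Flat G.hom]
    [UniversallyOpen G.hom] (z : (G ⊗ G).left)
    (hz : u.left ((snd G G).left z) ∈ targetLocus P u.left) :
    u.left (μ[G].left z) ∈ targetLocus P u.left := by
  have h := (targetLocus_shear P u ((G ◁ u).left z)).mp (by
    have e : (snd G H).left ((G ◁ u).left z) = u.left ((snd G G).left z) := by
      have e0 : (G ◁ u).left ≫ (snd G H).left = (snd G G).left ≫ u.left := by
        show ((G ◁ u) ≫ snd G H).left = (snd G G ≫ u).left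
        rw [whiskerLeft_snd]
      rw [← Scheme.Hom.comp_apply, ← Scheme.Hom.comp_apply, e0]
    rw [e]
    exact hz)
  have e2 : (snd G H).left ((shearIso u).hom.left ((G ◁ u).left z)) = u.left (μ[G].left z) := by
    have e0 : (G ◁ u).left ≫ (shearIso u).hom.left ≫ (snd G H).left = μ[G].left ≫ u.left := by
      show ((G ◁ u) ≫ (shearIso u).hom ≫ snd G H).left = (μ[G] ≫ u).left
      rw [← Category.assoc, whiskerLeft_shearIso, Category.assoc, whiskerLeft_snd,
        ← Category.assoc, shearIso_id_snd]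
    rw [← Scheme.Hom.comp_apply, ← Scheme.Hom.comp_apply, ← Scheme.Hom.comp_apply, e0]
  rw [e2] at h
  exact h

end Group

end Groth.Agent.Lib.Helper14
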