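import Groth.Agent.S8979
import Groth.Agent.Lib.Helper16.FibreSurj

/-!
# h sheaves and abstract blow-up squares (helper14)

* `isSheafFor_ofArrows_of_isHCover`: an h sheaf on `Over S` has the sheaf property for every
  family whose underlying family of schemes is an h covering.
* `exists_lift_of_genericPt_mem`: a morphism from the spectrum of a domain whose generic point
  lands in a closed subscheme factors through it.
* `isHCover_of_isClosedImmersion`: a finite jointly surjective family of closed immersions of
  finite presentation is an h covering.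
* `cartesian_of_proper_surjective_isIso_away`: sections of an h sheaf on an abstract blow-up
  square form a cartesian square.
-/

set_option autoImplicit false
universe u

open CategoryTheory CategoryTheory.Limits AlgebraicGeometry Opposite HTop

namespace Groth.Agent.Lib.Helper14.HCart

/-- An h sheaf has the sheaf property for families lying over h coverings. -/
theorem isSheafFor_ofArrows_of_isHCover (S : Scheme.{u}) (F : HTop.ShH S) {W : Over S}
    {ι : Type} (Y : ι → Over S) (g : ∀ i, Y i ⟶ W)
    (h : IsHCover ({ I₀ := ι, X := fun i => (Y i).left, f := fun i => (g i).left } :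
      PreZeroHypercover.{0} W.left)) :
    Presieve.IsSheafFor F.obj (Presieve.ofArrows Y g) := by
  have hmem : Presieve.ofArrows (fun i => (Y i).left) (fun i => (g i).left) ∈
      HTop.hPrecoverage W.left :=
    (HTop.presieve₀_mem_hPrecoverage_iff _).mpr h
  have hgen : Sieve.generate (Presieve.ofArrows Y g) ∈ (HTop.Jh S) W := by
    rw [GrothendieckTopology.mem_over_iff]
    have h1 : Sieve.generate (Presieve.ofArrows Y g) = Sieve.ofArrows Y g := rfl
    rw [h1, Sieve.overEquiv_ofArrows]
    exact Precoverage.generate_mem_toGrothendieck hmem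
  exact (Presieve.isSheafFor_iff_generate _).mpr
    ((isSheaf_iff_isSheaf_of_type _ _).mp F.property _ hgen)

/-- An h sheaf has the sheaf property for a proper surjective morphism of finite presentation. -/
theorem isSheafFor_singleton_of_proper (S : Scheme.{u}) (F : HTop.ShH S) {X Y : Over S}
    (f : X ⟶ Y) [IsProper f.left] [Surjective f.left] [LocallyOfFinitePresentation f.left] :
    Presieve.IsSheafFor F.obj (Presieve.singleton f) := by
  have h := isSheafFor_ofArrows_of_isHCover S F (fun _ : PUnit.{1} => X) (fun _ => f)
    (Groth.Agent.S8979.result f.left)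
  rwa [Presieve.ofArrows_pUnit] at h

/-- A morphism from the spectrum of a domain whose generic point lands in a closed subscheme
factors through that closed subscheme. -/
theorem exists_lift_of_genericPt_mem {V : CommRingCat.{u}} [IsDomain V] {C W : Scheme.{u}}
    (c : C ⟶ W) [IsClosedImmersion c] (g : Spec V ⟶ W)
    (h : g (⟨⊥, Ideal.isPrime_bot⟩ : PrimeSpectrum V) ∈ Set.range c) :
    ∃ l : Spec V ⟶ C, l ≫ c = g := by
  have hcl : IsClosed (g ⁻¹' Set.range c) :=
    c.isClosedEmbedding.isClosed_range.preimage g.continuous
  have hsurj : Surjective (pullback.fst g c) := by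
    refine ⟨fun x => ?_⟩
    have hx : x ∈ Set.range (pullback.fst g c) := by
      rw [Scheme.Pullback.range_fst]
      have hsp : (⟨⊥, Ideal.isPrime_bot⟩ : PrimeSpectrum V) ⤳ (x : PrimeSpectrum V) :=
        (PrimeSpectrum.le_iff_specializes _ _).mp bot_le
      exact hsp.mem_closed hcl h
    exact hx
  have hiso : IsIso (pullback.fst g c) := isIso_of_isClosedImmersion_of_surjective _
  exact ⟨inv (pullback.fst g c) ≫ pullback.snd g c, by
    rw [Category.assoc, ← pullback.condition, IsIso.inv_hom_id_assoc]⟩

/-- A finite jointly surjective family of closed immersions of finite presentation is an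
h covering. -/
theorem isHCover_of_isClosedImmersion {W : Scheme.{u}} (E : PreZeroHypercover.{0} W)
    [Finite E.I₀] (hcl : ∀ i, IsClosedImmersion (E.f i))
    (hfp : ∀ i, LocallyOfFinitePresentation (E.f i))
    (hsurj : ∀ w : W, ∃ i, w ∈ Set.range (E.f i)) : IsHCover E := by
  refine ⟨hfp, fun U => ?_⟩
  have hUaff : IsAffine ((U : W.Opens) : Scheme.{u}) := U.2
  let G : PreZeroHypercover.{0} ((U : W.Opens) : Scheme.{u}) :=
    { I₀ := E.I₀
      X := fun i => pullback (E.f i) (U : W.Opens).ι
      f := fun i => pullback.snd (E.f i) (U : W.Opens).ι }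
  refine ⟨G, ⟨hUaff, inferInstanceAs (Finite E.I₀), fun i => ?_, ?_⟩,
    fun i => ⟨i, pullback.fst (E.f i) (U : W.Opens).ι, pullback.condition⟩⟩
  · have := hcl i
    exact isAffine_of_isAffineHom (pullback.snd (E.f i) (U : W.Opens).ι)
  · intro V _ _ g
    obtain ⟨i, hi⟩ := hsurj ((g ≫ (U : W.Opens).ι) (⟨⊥, Ideal.isPrime_bot⟩ : PrimeSpectrum V))
    have := hcl i
    obtain ⟨l, hl⟩ := exists_lift_of_genericPt_mem (E.f i) (g ≫ (U : W.Opens).ι) hi
    refine ⟨V, inferInstance, inferInstance, 𝟙 V, ⟨Function.injective_id, ?_⟩, i,
      pullback.lift l g hl, ?_⟩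
    · exact isLocalHom_id _
    · show pullback.lift l g hl ≫ pullback.snd (E.f i) (U : W.Opens).ι = Spec.map (𝟙 V) ≫ g
      rw [pullback.lift_snd, Spec.map_id, Category.id_comp]

/-- Where `f` is an isomorphism over the complement of `Z`, every point of `X ×_Y X` lies on the
diagonal or over `Z`. -/
theorem mem_range_diagonal_or {X Y Z : Scheme.{u}} (f : X ⟶ Y) (i : Z ⟶ Y)
    (U : Y.Opens) (hU : (U : Set Y) = (Set.range i)ᶜ) (hiso : IsIso (f ∣_ U))
    (w : ↑(pullback f f)) :
    w ∈ Set.range (pullback.diagonal f) ∨
      w ∈ Set.range (pullback.fst (pullback.fst f f ≫ f) i) := by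
  by_cases hz : (pullback.fst f f ≫ f) w ∈ Set.range i
  · right
    rw [Scheme.Pullback.range_fst]
    exact hz
  · left
    have hwU : (pullback.fst f f ≫ f) w ∈ (U : Set Y) := by rw [hU]; exact hz
    let φ := (pullback f f).fromSpecResidueField w
    let a := φ ≫ pullback.fst f f
    let b := φ ≫ pullback.snd f f
    have hab : a ≫ f = b ≫ f := by
      simp only [a, b, Category.assoc, pullback.condition]
    have ha : Set.range a ⊆ Set.range (f ⁻¹ᵁ U).ι := by
      rw [Scheme.Opens.range_ι]
      rintro _ ⟨p, rfl⟩
      show f (a p) ∈ U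
      have h1 : f (a p) = (pullback.fst f f ≫ f) (φ p) := by
        simp only [a, Scheme.Hom.comp_apply]
      rw [h1, Scheme.fromSpecResidueField_apply]
      exact hwU
    have hb : Set.range b ⊆ Set.range (f ⁻¹ᵁ U).ι := by
      rw [Scheme.Opens.range_ι]
      rintro _ ⟨p, rfl⟩
      show f (b p) ∈ U
      have h1 : f (b p) = (a ≫ f) p := by
        rw [hab]; rfl
      have h2 : (a ≫ f) p = (pullback.fst f f ≫ f) (φ p) := by
        simp only [a, Scheme.Hom.comp_apply]
      rw [h1, h2, Scheme.fromSpecResidueField_apply]
      exact hwU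
    let a' := IsOpenImmersion.lift (f ⁻¹ᵁ U).ι a ha
    let b' := IsOpenImmersion.lift (f ⁻¹ᵁ U).ι b hb
    have ha' : a' ≫ (f ⁻¹ᵁ U).ι = a := IsOpenImmersion.lift_fac _ _ _
    have hb' : b' ≫ (f ⁻¹ᵁ U).ι = b := IsOpenImmersion.lift_fac _ _ _
    have h3 : a' ≫ (f ∣_ U) = b' ≫ (f ∣_ U) := by
      rw [← cancel_mono U.ι, Category.assoc, Category.assoc, morphismRestrict_ι,
        ← Category.assoc, ← Category.assoc, ha', hb', hab]
    have h4 : a' = b' := (cancel_mono (f ∣_ U)).mp h3
    have h5 : a = b := by rw [← ha', ← hb', h4]
    have h6 : φ = a ≫ pullback.diagonal f := by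
      apply pullback.hom_ext
      · rw [Category.assoc, pullback.diagonal_fst, Category.comp_id]
      · rw [Category.assoc, pullback.diagonal_snd, Category.comp_id, h5]
    obtain ⟨p⟩ : Nonempty (Spec ((pullback f f).residueField w)) := inferInstance
    refine ⟨a p, ?_⟩
    rw [← Scheme.Hom.comp_apply, ← h6, Scheme.fromSpecResidueField_apply]

/-- Sections of an h sheaf on an abstract blow-up square form a cartesian square. -/
theorem cartesian_of_proper_surjective_isIso_away (S : Scheme.{u}) (F : HTop.ShH S)
    {E Z X Y : Over S} (e : E ⟶ X) (π : E ⟶ Z) (f : X ⟶ Y) (i : Z ⟶ Y)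
    [IsProper f.left] [Surjective f.left] [LocallyOfFinitePresentation f.left]
    [IsClosedImmersion i.left] [LocallyOfFinitePresentation i.left]
    (hsq : IsPullback e.left π.left f.left i.left)
    (U : Y.left.Opens) (hU : (U : Set Y.left) = (Set.range i.left)ᶜ)
    (hiso : IsIso (f.left ∣_ U))
    (t : F.obj.obj (op Z)) (s' : F.obj.obj (op X))
    (hts : F.obj.map π.op t = F.obj.map e.op s') :
    ∃! s : F.obj.obj (op Y), F.obj.map i.op s = t ∧ F.obj.map f.op s = s' := by
  -- the sheaf property for `f` and for `π`
  have hf := isSheafFor_singleton_of_proper S F f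
  have hπprop : IsProper π.left :=
    MorphismProperty.of_isPullback (P := @IsProper) hsq (inferInstance : IsProper f.left)
  have hπsurj : Surjective π.left :=
    MorphismProperty.of_isPullback (P := @Surjective) hsq (inferInstance : Surjective f.left)
  have hπfp : LocallyOfFinitePresentation π.left :=
    MorphismProperty.of_isPullback (P := @LocallyOfFinitePresentation) hsq
      (inferInstance : LocallyOfFinitePresentation f.left)
  have hπ := isSheafFor_singleton_of_proper S F π
  rw [Presieve.isSheafFor_singleton] at hf hπ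
  -- the self fibre product of `X` over `Y`, as an object over `S`
  have hXY : f.left ≫ Y.hom = X.hom := Over.w f
  let W : Over S := Over.mk (pullback.fst f.left f.left ≫ X.hom)
  let p₁ : W ⟶ X := Over.homMk (pullback.fst f.left f.left) rfl
  let p₂ : W ⟶ X := Over.homMk (pullback.snd f.left f.left) (by
    show pullback.snd f.left f.left ≫ X.hom = pullback.fst f.left f.left ≫ X.hom
    rw [← hXY, ← Category.assoc, ← pullback.condition, Category.assoc])
  let q : W.left ⟶ Y.left := pullback.fst f.left f.left ≫ f.left
  let WZ : Over S := Over.mk (pullback.fst q i.left ≫ W.hom)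
  let j : WZ ⟶ W := Over.homMk (pullback.fst q i.left) rfl
  let Δ : X ⟶ W := Over.homMk (pullback.diagonal f.left) (by
    show pullback.diagonal f.left ≫ (pullback.fst f.left f.left ≫ X.hom) = X.hom
    rw [← Category.assoc, pullback.diagonal_fst, Category.id_comp])
  have hΔ₁ : Δ ≫ p₁ = 𝟙 X := by
    apply Over.OverMorphism.ext
    exact pullback.diagonal_fst f.left
  have hΔ₂ : Δ ≫ p₂ = 𝟙 X := by
    apply Over.OverMorphism.ext
    exact pullback.diagonal_snd f.left
  -- the two maps from `W ×_Y Z` to `E`
  have hcond : pullback.fst q i.left ≫ pullback.fst f.left f.left ≫ f.left =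
      pullback.snd q i.left ≫ i.left := pullback.condition
  have hcond₂ : (pullback.fst q i.left ≫ pullback.snd f.left f.left) ≫ f.left =
      pullback.snd q i.left ≫ i.left := by
    rw [Category.assoc, ← pullback.condition, hcond]
  have hEhom : e.left ≫ X.hom = E.hom := Over.w e
  let r₁ : WZ ⟶ E := Over.homMk
    (hsq.lift (pullback.fst q i.left ≫ pullback.fst f.left f.left) (pullback.snd q i.left)
      (by rw [Category.assoc]; exact hcond)) (by
    show _ ≫ E.hom = pullback.fst q i.left ≫ pullback.fst f.left f.left ≫ X.hom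
    rw [← hEhom, ← Category.assoc, hsq.lift_fst, Category.assoc])
  let r₂ : WZ ⟶ E := Over.homMk
    (hsq.lift (pullback.fst q i.left ≫ pullback.snd f.left f.left) (pullback.snd q i.left)
      hcond₂) (by
    show _ ≫ E.hom = pullback.fst q i.left ≫ pullback.fst f.left f.left ≫ X.hom
    rw [← hEhom, ← Category.assoc, hsq.lift_fst, Category.assoc, ← hXY, ← Category.assoc,
      ← Category.assoc, ← Category.assoc, Category.assoc (pullback.fst q i.left),
      ← pullback.condition, Category.assoc, Category.assoc, Category.assoc])
  have hr₁e : r₁ ≫ e = j ≫ p₁ := by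
    apply Over.OverMorphism.ext
    exact hsq.lift_fst _ _ _
  have hr₂e : r₂ ≫ e = j ≫ p₂ := by
    apply Over.OverMorphism.ext
    exact hsq.lift_fst _ _ _
  have hr₁₂π : r₁ ≫ π = r₂ ≫ π := by
    apply Over.OverMorphism.ext
    show hsq.lift _ _ _ ≫ π.left = hsq.lift _ _ _ ≫ π.left
    rw [hsq.lift_snd, hsq.lift_snd]
  -- the covering of `W` by the diagonal and the part over `Z`
  let Yc : Bool → Over S := fun b => cond b X WZ
  let gc : ∀ b, Yc b ⟶ W := fun b => match b with
    | true => Δ
    | false => j
  have hsep : IsSeparated f.left := inferInstance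
  have hcov : IsHCover ({ I₀ := Bool, X := fun b => (Yc b).left, f := fun b => (gc b).left } :
      PreZeroHypercover.{0} W.left) := by
    refine isHCover_of_isClosedImmersion _ ?_ ?_ ?_
    · rintro (_ | _)
      · show IsClosedImmersion (pullback.fst q i.left)
        infer_instance
      · show IsClosedImmersion (pullback.diagonal f.left)
        infer_instance
    · rintro (_ | _)
      · show LocallyOfFinitePresentation (pullback.fst q i.left)
        infer_instance
      · show LocallyOfFinitePresentation (pullback.diagonal f.left)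
        refine Groth.Agent.Lib.Helper16.locallyOfFinitePresentation_of_comp
          (pullback.diagonal f.left) (pullback.fst f.left f.left) ?_ inferInstance
        rw [pullback.diagonal_fst]
        infer_instance
    · intro w
      rcases mem_range_diagonal_or f.left i.left U hU hiso w with h | h
      · exact ⟨true, h⟩
      · exact ⟨false, h⟩
  have hW := (isSheafFor_ofArrows_of_isHCover S F Yc gc hcov).isSeparatedFor
  have hp : F.obj.map p₁.op s' = F.obj.map p₂.op s' := by
    refine hW.ext ?_
    rintro _ _ ⟨b⟩
    cases b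
    · show F.obj.map j.op (F.obj.map p₁.op s') = F.obj.map j.op (F.obj.map p₂.op s')
      rw [← Functor.map_comp_apply, ← Functor.map_comp_apply, ← op_comp, ← op_comp,
        ← hr₁e, ← hr₂e, op_comp, op_comp, Functor.map_comp_apply,
        Functor.map_comp_apply, ← hts, ← Functor.map_comp_apply,
        ← Functor.map_comp_apply, ← op_comp, ← op_comp, hr₁₂π]
    · show F.obj.map Δ.op (F.obj.map p₁.op s') = F.obj.map Δ.op (F.obj.map p₂.op s')
      rw [← Functor.map_comp_apply, ← Functor.map_comp_apply, ← op_comp, ← op_comp,
        hΔ₁, hΔ₂]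
  -- descend `s'` along `f`
  have hcompat : ∀ {T : Over S} (a b : T ⟶ X), a ≫ f = b ≫ f →
      F.obj.map a.op s' = F.obj.map b.op s' := by
    intro T a b hab
    have hab' : a.left ≫ f.left = b.left ≫ f.left := by
      have := congrArg CommaMorphism.left hab
      exact this
    let c : T ⟶ W := Over.homMk (pullback.lift a.left b.left hab') (by
      show pullback.lift a.left b.left hab' ≫ pullback.fst f.left f.left ≫ X.hom = T.hom
      rw [← Category.assoc, pullback.lift_fst]
      exact Over.w a)
    have hc₁ : c ≫ p₁ = a := by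
      apply Over.OverMorphism.ext
      exact pullback.lift_fst _ _ _
    have hc₂ : c ≫ p₂ = b := by
      apply Over.OverMorphism.ext
      exact pullback.lift_snd _ _ _
    rw [← hc₁, ← hc₂, op_comp, op_comp, Functor.map_comp_apply,
      Functor.map_comp_apply, hp]
  obtain ⟨s, hs, hsuniq⟩ := hf s' hcompat
  have hsq' : e ≫ f = π ≫ i := by
    apply Over.OverMorphism.ext
    exact hsq.w
  have hπinj : Function.Injective (F.obj.map π.op) := by
    intro a b hab
    obtain ⟨c, -, hc⟩ := hπ (F.obj.map π.op a) (fun p₁ p₂ h => by
      rw [← Functor.map_comp_apply, ← Functor.map_comp_apply, ← op_comp, ← op_comp,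
        h])
    rw [hc a rfl, hc b hab.symm]
  have hst : F.obj.map i.op s = t := by
    apply hπinj
    rw [← Functor.map_comp_apply, ← op_comp, ← hsq', op_comp,
      Functor.map_comp_apply, hs, hts]
  exact ⟨s, ⟨hst, hs⟩, fun s₂ hs₂ => hsuniq s₂ hs₂.2⟩

end Groth.Agent.Lib.Helper14.HCart
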