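import Mathlib
import Groth.Agent.Lib.Helper14.GroupAction
import Groth.Agent.Lib.Helper14.DominantQC
import Groth.Agent.Lib.Helper70.GrpTrans

/-!
# An irreducible homogeneous space under a group scheme over a field is quasi-compact
(SGA3 VI_A 2.6): in fact `X = Q · ξ` for every nonempty open `Q` of `G`, `ξ` the generic point.
-/

set_option autoImplicit false
universe u
open CategoryTheory CategoryTheory.Limits MonoidalCategory CartesianMonoidalCategory MonObj GrpObj
  AlgebraicGeometry

namespace Groth.Agent.Lib.Helper14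

theorem maximal_map_of_generalizingMap {A B : Type*} [TopologicalSpace A] [TopologicalSpace B]
    {f : A → B} (hf : GeneralizingMap f) {p : A} (hp : ∀ y, y ⤳ p → y = p) :
    ∀ y, y ⤳ f p → y = f p := by
  intro y hy
  obtain ⟨p', hp', rfl⟩ := hf hy
  rw [hp p' hp']

theorem exists_maximal_specializes {A : Type*} [TopologicalSpace A] [QuasiSober A] [T0Space A]
    (u : A) : ∃ ζ : A, ζ ⤳ u ∧ ∀ y, y ⤳ ζ → y = ζ := by
  obtain ⟨ζ, hζ⟩ := QuasiSober.sober (isIrreducible_irreducibleComponent (x := u))
    isClosed_irreducibleComponent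
  refine ⟨ζ, ?_,
    Groth.Agent.Lib.Helper50.eq_of_specializes_of_closure_mem_irreducibleComponents ?_⟩
  · rw [specializes_iff_mem_closure, hζ.def]; exact mem_irreducibleComponent
  · rw [hζ.def]; exact irreducibleComponent_mem_irreducibleComponents u

/-- The inclusion of the fibre over a point without proper generizations is generalizing. -/
theorem generalizingMap_of_isPullback_of_maximal {P A B C : Scheme.{u}} {f' : P ⟶ A} {g' : P ⟶ B}
    {f : A ⟶ C} {g : B ⟶ C} (H : IsPullback f' g' f g) [IsPreimmersion g] [Subsingleton B]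
    (b : B) (hb : ∀ y, y ⤳ g b → y = g b) : GeneralizingMap f' := by
  have hpre : IsPreimmersion f' := MorphismProperty.of_isPullback (P := @IsPreimmersion) H.flip
    inferInstance
  intro p w hw
  -- `w ⤳ f' p`
  have h1 : f w ⤳ f (f' p) := hw.map f.continuous
  have h2 : f (f' p) = g (g' p) := by
    have : (f' ≫ f) p = (g' ≫ g) p := by rw [H.w]
    exact this
  have h3 : g (g' p) = g b := by rw [Subsingleton.elim (g' p) b]
  rw [h2, h3] at h1
  have h4 : f w = g b := hb _ h1
  obtain ⟨p', hp'1, -⟩ := exists_of_isPullback' H w b h4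
  refine ⟨p', ?_, hp'1⟩
  rw [← hp'1] at hw
  exact f'.isEmbedding.isInducing.specializes_iff.mp hw

section Action

variable {k : Type u} [Field k] {G X : Over (Spec (CommRingCat.of k))} [GrpObj G]
  (a : AlgGrp.Action G X)

/-- The action morphism is generalizing (it is isomorphic to a projection). -/
theorem generalizingMap_act : GeneralizingMap a.act.left := by
  have h1 : (actShearIso a).hom ≫ snd G X = a.act := by simp [actShearIso]
  have hfl : Flat (snd G X).left := by
    rw [Over.snd_left]; infer_instance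
  have hiso : IsIso (actShearIso a).hom.left :=
    inferInstanceAs (IsIso ((Over.forget _).map (actShearIso a).hom))
  have : Flat a.act.left := by
    rw [← h1, Over.comp_left]; infer_instance
  exact Flat.generalizingMap _

end Action


section Main

variable {k : Type u} [Field k] {G X : Over (Spec (CommRingCat.of k))} [GrpObj G]
  (a : AlgGrp.Action G X)

set_option maxHeartbeats 800000 in
/-- For an irreducible homogeneous space `X` with generic point `ξ` and any nonempty open `Q` of
`G`, every point of `X` is of the form `g · ξ` with `g ∈ Q`. -/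
theorem exists_act_eq_of_irreducible (hΦ : Surjective (lift a.act (snd G X)).left)
    [IrreducibleSpace X.left] (Q : G.left.Opens) (hQ : (Q : Set G.left).Nonempty) (x : X.left) :
    ∃ w : (G ⊗ X).left, (fst G X).left w ∈ Q ∧ (snd G X).left w = genericPoint X.left ∧
      a.act.left w = x := by
  have hξall : ∀ y : X.left, genericPoint X.left ⤳ y := fun y => genericPoint_specializes y
  have hξmax : ∀ y : X.left, y ⤳ genericPoint X.left → y = genericPoint X.left :=
    fun y hy => (hy.antisymm (hξall y)).eq
  have hmaxeq : ∀ p : X.left, (∀ y, y ⤳ p → y = p) → p = genericPoint X.left :=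
    fun p hp => (hp _ (hξall p)).symm
  have hsubS : Subsingleton (Spec (CommRingCat.of k)) :=
    inferInstanceAs (Subsingleton (PrimeSpectrum k))
  -- Step 1: a point `z` with `a z = x` and `snd z = ξ`
  obtain ⟨t, ht1, ht2⟩ := Scheme.Pullback.exists_preimage_pullback (f := X.hom) (g := X.hom) x
    (genericPoint X.left) (Subsingleton.elim _ _)
  obtain ⟨z, hz⟩ := hΦ.surj (t : (X ⊗ X).left)
  have hz1 : a.act.left z = x := by
    have e : (lift a.act (snd G X)).left ≫ (fst X X).left = a.act.left := by
      show (lift a.act (snd G X) ≫ fst X X).left = a.act.left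
      rw [lift_fst]
    have : ((lift a.act (snd G X)).left ≫ (fst X X).left) z = x := by
      show (fst X X).left ((lift a.act (snd G X)).left z) = x
      rw [hz]; exact ht1
    rw [e] at this
    exact this
  have hz2 : (snd G X).left z = genericPoint X.left := by
    have e : (lift a.act (snd G X)).left ≫ (snd X X).left = (snd G X).left := by
      show (lift a.act (snd G X) ≫ snd X X).left = (snd G X).left
      rw [lift_snd]
    have : ((lift a.act (snd G X)).left ≫ (snd X X).left) z = genericPoint X.left := by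
      show (snd X X).left ((lift a.act (snd G X)).left z) = _
      rw [hz]; exact ht2
    rw [e] at this
    exact this
  -- Step 2: the residue field point
  let T : Over (Spec (CommRingCat.of k)) :=
    Over.mk ((G ⊗ X).left.fromSpecResidueField z ≫ (G ⊗ X).hom)
  let zT : T ⟶ G ⊗ X := Over.homMk ((G ⊗ X).left.fromSpecResidueField z) rfl
  let gam : T ⟶ G := zT ≫ fst G X
  let y₁ : T ⟶ X := zT ≫ snd G X
  have hzT : ∀ p : T.left, zT.left p = z := fun p => Scheme.fromSpecResidueField_apply z p
  have hsubT : Subsingleton T.left :=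
    inferInstanceAs (Subsingleton (PrimeSpectrum ((G ⊗ X).left.residueField z)))
  have hzTlift : lift gam y₁ = zT := by
    apply CartesianMonoidalCategory.hom_ext <;> simp [gam, y₁]
  let tw := Groth.Agent.Lib.Helper70.GrpTrans.twist gam
  let Δ : T ⊗ G ⟶ G ⊗ X := tw.hom ≫ (β_ T G).hom ≫ (G ◁ y₁)
  have hΔ1 : Δ ≫ fst G X = (snd T G)⁻¹ * (fst T G ≫ gam) := by
    simp only [Δ, Category.assoc, whiskerLeft_fst, braiding_hom_fst]
    exact Groth.Agent.Lib.Helper70.GrpTrans.twist_hom_snd gam
  have hΔ2 : Δ ≫ snd G X = fst T G ≫ y₁ := by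
    simp only [Δ, Category.assoc, whiskerLeft_snd]
    rw [braiding_hom_snd_assoc, ← Category.assoc]
    congr 1
    simp [tw, Groth.Agent.Lib.Helper70.GrpTrans.twist]
  let Λ : T ⊗ G ⟶ G ⊗ X := lift (snd T G) (Δ ≫ a.act)
  have hΛ : Λ ≫ a.act = fst T G ≫ zT ≫ a.act := by
    have hΔ : Δ = lift ((snd T G)⁻¹ * (fst T G ≫ gam)) (fst T G ≫ y₁) := by
      apply CartesianMonoidalCategory.hom_ext
      · rw [hΔ1, lift_fst]
      · rw [hΔ2, lift_snd]
    show lift (snd T G) (Δ ≫ a.act) ≫ a.act = _
    rw [hΔ, ← act_mul]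
    have : snd T G * ((snd T G)⁻¹ * (fst T G ≫ gam)) = fst T G ≫ gam := by group
    rw [this]
    have e2 : lift (fst T G ≫ gam) (fst T G ≫ y₁) = fst T G ≫ zT := by
      rw [← comp_lift, hzTlift]
    rw [e2, Category.assoc]
  -- Step 3: `Δ` is generalizing
  let ξ' : X.left := (snd G X).left z
  let T' : Over (Spec (CommRingCat.of k)) := Over.mk (X.left.fromSpecResidueField ξ' ≫ X.hom)
  let ξT' : T' ⟶ X := Over.homMk (X.left.fromSpecResidueField ξ') rfl
  have hcw : Spec.map ((snd G X).left.residueFieldMap z) ≫ T'.hom = T.hom := by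
    show Spec.map ((snd G X).left.residueFieldMap z) ≫ X.left.fromSpecResidueField ξ' ≫ X.hom =
      (G ⊗ X).left.fromSpecResidueField z ≫ (G ⊗ X).hom
    rw [← Category.assoc, Scheme.Hom.SpecMap_residueFieldMap_fromSpecResidueField,
      Category.assoc, Over.w (snd G X)]
  let c : T ⟶ T' := Over.homMk (Spec.map ((snd G X).left.residueFieldMap z)) hcw
  have hc : c ≫ ξT' = y₁ := by
    apply Over.OverMorphism.ext
    show Spec.map ((snd G X).left.residueFieldMap z) ≫ X.left.fromSpecResidueField ξ' =
      (G ⊗ X).left.fromSpecResidueField z ≫ (snd G X).left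
    exact Scheme.Hom.SpecMap_residueFieldMap_fromSpecResidueField _ _
  have hflc : Flat c.left := by
    show Flat (Spec.map ((snd G X).left.residueFieldMap z))
    rw [HasRingHomProperty.Spec_iff (P := @Flat)]
    exact RingHom.Flat.of_isField (Field.toIsField _) _
  have hg1 : GeneralizingMap (G ◁ c).left := by
    have H := (isPullback_whiskerLeft_snd' G c).flip
    have : Flat (G ◁ c).left := MorphismProperty.of_isPullback (P := @Flat) H hflc
    exact Flat.generalizingMap _
  have hsubT' : Subsingleton T'.left :=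
    inferInstanceAs (Subsingleton (PrimeSpectrum (X.left.residueField ξ')))
  have hg2 : GeneralizingMap (G ◁ ξT').left := by
    have H := isPullback_whiskerLeft_snd' G ξT'
    have hpre : IsPreimmersion ξT'.left :=
      inferInstanceAs (IsPreimmersion (X.left.fromSpecResidueField ξ'))
    refine generalizingMap_of_isPullback_of_maximal H (IsLocalRing.closedPoint _) ?_
    have e : ξT'.left (IsLocalRing.closedPoint _) = ξ' :=
      Scheme.fromSpecResidueField_apply ξ' _
    rw [e]
    show ∀ y, y ⤳ (snd G X).left z → y = (snd G X).left z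
    rw [hz2]; exact hξmax
  have hiso1 : IsIso tw.hom.left := inferInstanceAs (IsIso ((Over.forget _).map tw.hom))
  have hiso2 : IsIso (β_ T G).hom.left :=
    inferInstanceAs (IsIso ((Over.forget _).map (β_ T G).hom))
  have hg3 : GeneralizingMap tw.hom.left := Flat.generalizingMap _
  have hg4 : GeneralizingMap (β_ T G).hom.left := Flat.generalizingMap _
  -- Step 4: a maximal point `ζ` of `T × G` over `Q`
  obtain ⟨q₀, hq₀⟩ := hQ
  obtain ⟨pt⟩ : Nonempty T.left :=
    inferInstanceAs (Nonempty (PrimeSpectrum ((G ⊗ X).left.residueField z)))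
  obtain ⟨u₀, -, hu₀⟩ := Scheme.Pullback.exists_preimage_pullback (f := T.hom) (g := G.hom) pt q₀
    (Subsingleton.elim _ _)
  obtain ⟨ζ, hζu, hζmax⟩ := exists_maximal_specializes (u₀ : (T ⊗ G).left)
  have hζQ : (snd T G).left ζ ∈ Q := by
    have h1 : (snd T G).left ζ ⤳ (snd T G).left u₀ := hζu.map (snd T G).left.continuous
    have h2 : (snd T G).left u₀ = q₀ := hu₀
    rw [h2] at h1
    exact h1.mem_open Q.2 hq₀
  have hΔmax : ∀ y, y ⤳ Δ.left ζ → y = Δ.left ζ := by
    have e : Δ.left ζ = (G ◁ ξT').left ((G ◁ c).left ((β_ T G).hom.left (tw.hom.left ζ))) := by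
      have : Δ = tw.hom ≫ (β_ T G).hom ≫ (G ◁ c) ≫ (G ◁ ξT') := by
        rw [← MonoidalCategory.whiskerLeft_comp, hc]
      rw [this]; rfl
    rw [e]
    exact maximal_map_of_generalizingMap hg2 (maximal_map_of_generalizingMap hg1
      (maximal_map_of_generalizingMap hg4 (maximal_map_of_generalizingMap hg3 hζmax)))
  refine ⟨Λ.left ζ, ?_, ?_, ?_⟩
  · have e : Λ.left ≫ (fst G X).left = (snd T G).left := by
      show (Λ ≫ fst G X).left = (snd T G).left
      rw [lift_fst]
    have : (Λ.left ≫ (fst G X).left) ζ = (snd T G).left ζ := by rw [e]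
    have h2 : (fst G X).left (Λ.left ζ) = (snd T G).left ζ := this
    rw [h2]; exact hζQ
  · have e : Λ.left ≫ (snd G X).left = Δ.left ≫ a.act.left := by
      show (Λ ≫ snd G X).left = (Δ ≫ a.act).left
      rw [lift_snd]
    have : (Λ.left ≫ (snd G X).left) ζ = (Δ.left ≫ a.act.left) ζ := by rw [e]
    have h2 : (snd G X).left (Λ.left ζ) = a.act.left (Δ.left ζ) := this
    rw [h2]
    exact hmaxeq _ (maximal_map_of_generalizingMap (generalizingMap_act a) hΔmax)
  · have e : Λ.left ≫ a.act.left = (fst T G).left ≫ zT.left ≫ a.act.left := by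
      show (Λ ≫ a.act).left = (fst T G ≫ zT ≫ a.act).left
      rw [hΛ]
    have : (Λ.left ≫ a.act.left) ζ = ((fst T G).left ≫ zT.left ≫ a.act.left) ζ := by rw [e]
    have h2 : a.act.left (Λ.left ζ) = a.act.left (zT.left ((fst T G).left ζ)) := this
    rw [h2, hzT, hz1]

/-- SGA3 VI_A 2.6: an irreducible homogeneous space under a group scheme over a field is
quasi-compact. -/
theorem compactSpace_of_irreducible_homogeneous
    (hΦ : Surjective (lift a.act (snd G X)).left) [IrreducibleSpace X.left] :
    CompactSpace X.left := by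
  have hsubS : Subsingleton (Spec (CommRingCat.of k)) :=
    inferInstanceAs (Subsingleton (PrimeSpectrum k))
  -- a point of `G`
  obtain ⟨x₀⟩ : Nonempty X.left := inferInstance
  obtain ⟨t, -, -⟩ := Scheme.Pullback.exists_preimage_pullback (f := X.hom) (g := X.hom) x₀ x₀ rfl
  obtain ⟨z₀, -⟩ := hΦ.surj (t : (X ⊗ X).left)
  let g₀ : G.left := (fst G X).left z₀
  obtain ⟨Q', hQ'mem, hg₀Q, -⟩ :=
    (G.left.isBasis_affineOpens).exists_subset_of_mem_open (Set.mem_univ g₀) isOpen_univ
  obtain ⟨Q, hQ⟩ : ∃ Q : G.left.Opens, IsAffineOpen Q ∧ g₀ ∈ Q := by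
    obtain ⟨Q, hQa, rfl⟩ := hQ'mem
    exact ⟨Q, hQa, hg₀Q⟩
  have hQaff : IsAffine (Q : Scheme) := hQ.1
  let ξ : X.left := genericPoint X.left
  let QO : Over (Spec (CommRingCat.of k)) := Over.mk (Q.ι ≫ G.hom)
  let iQ : QO ⟶ G := Over.homMk Q.ι rfl
  let T' : Over (Spec (CommRingCat.of k)) := Over.mk (X.left.fromSpecResidueField ξ ≫ X.hom)
  let ξT' : T' ⟶ X := Over.homMk (X.left.fromSpecResidueField ξ) rfl
  let h : QO ⊗ T' ⟶ X := (iQ ⊗ₘ ξT') ≫ a.act
  have haff : IsAffine (QO ⊗ T').left := by
    have h1 : IsAffine QO.left := hQaff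
    have h2 : IsAffine T'.left := inferInstanceAs (IsAffine (Spec _))
    exact inferInstanceAs (IsAffine (pullback QO.hom T'.hom))
  have hsurj : Function.Surjective h.left := by
    intro x
    obtain ⟨w, hw1, hw2, hw3⟩ := exists_act_eq_of_irreducible a hΦ Q ⟨g₀, hQ.2⟩ x
    have m1 : (fst G X).left w ∈ Set.range iQ.left := by
      show _ ∈ Set.range Q.ι
      rw [Scheme.Opens.range_ι]; exact hw1
    have m2 : (snd G X).left w ∈ Set.range ξT'.left := by
      rw [hw2]
      exact ⟨IsLocalRing.closedPoint _, Scheme.fromSpecResidueField_apply ξ _⟩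
    obtain ⟨v, hv⟩ := mem_range_tensorHom_left iQ ξT' w m1 m2
    refine ⟨v, ?_⟩
    show a.act.left ((iQ ⊗ₘ ξT').left v) = x
    rw [hv, hw3]
  have hc : IsCompact (Set.range h.left) := isCompact_range h.left.continuous
  rw [hsurj.range_eq] at hc
  exact isCompact_univ_iff.mp hc

end Main

end Groth.Agent.Lib.Helper14
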