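import Mathlib
import Groth.Agent.Lib.Helper14.GroupFibreLoci
import Groth.Agent.Lib.Helper70.GrpTransC

/-!
# A homomorphism of group schemes over a local artinian ring which is an immersion is a closed
immersion (reduction to the residue field)
-/

set_option autoImplicit false
universe u
open CategoryTheory CategoryTheory.Limits MonoidalCategory CartesianMonoidalCategory MonObj GrpObj
  AlgebraicGeometry
open scoped CategoryTheory.Obj

namespace Groth.Agent.Lib.Helper14

theorem isClosedImmersion_of_isImmersion_artinian {A : Type u} [CommRing A] [IsArtinianRing A]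
    [IsLocalRing A] {G H : Over (Spec (CommRingCat.of A))} [GrpObj G] [GrpObj H] (u : H ⟶ G)
    [IsMonHom u] [IsImmersion u.left] : IsClosedImmersion u.left := by
  let k := IsLocalRing.ResidueField A
  let φ : Spec (CommRingCat.of k) ⟶ Spec (CommRingCat.of A) :=
    Spec.map (CommRingCat.ofHom (IsLocalRing.residue A))
  have hφci : IsClosedImmersion φ :=
    IsClosedImmersion.spec_of_surjective _ IsLocalRing.residue_surjective
  have hsub : Subsingleton (Spec (CommRingCat.of A)) :=
    inferInstanceAs (Subsingleton (PrimeSpectrum A))
  have hφs : Surjective φ := ⟨fun y => ⟨IsLocalRing.closedPoint k, Subsingleton.elim _ _⟩⟩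
  let uk := (Over.pullback φ).map u
  have HX : IsPullback (pullback.fst H.hom φ) uk.left u.left (pullback.fst G.hom φ) :=
    isPullback_overPullback_map_left u φ
  have himm : IsImmersion uk.left :=
    MorphismProperty.of_isPullback (P := @IsImmersion) HX inferInstance
  have hcl : IsClosedImmersion uk.left :=
    Groth.Agent.Lib.Helper70.GrpTrans.isClosedImmersion_of_isImmersion uk
  let π := pullback.fst G.hom φ
  have hπci : IsClosedImmersion π := inferInstance
  have hπs : Surjective π := inferInstance
  have hrange : Set.range u.left = π '' Set.range uk.left := by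
    ext g
    constructor
    · rintro ⟨h, rfl⟩
      obtain ⟨g', hg'⟩ := hπs.surj (u.left h)
      obtain ⟨p, hp1, hp2⟩ := Scheme.Pullback.exists_preimage_pullback h g' hg'.symm
      refine ⟨g', ⟨HX.isoPullback.inv p, ?_⟩, hg'⟩
      have : (HX.isoPullback.inv ≫ uk.left) p = g' := by
        rw [HX.isoPullback_inv_snd]; exact hp2
      exact this
    · rintro ⟨_, ⟨h', rfl⟩, rfl⟩
      refine ⟨pullback.fst H.hom φ h', ?_⟩
      have : (pullback.fst H.hom φ ≫ u.left) h' = (uk.left ≫ π) h' := by rw [HX.w]
      exact this
  have hclosed : IsClosed (Set.range u.left) := by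
    rw [hrange]
    exact π.isClosedEmbedding.isClosedMap _ uk.left.isClosedEmbedding.isClosed_range
  exact IsClosedImmersion.of_isPreimmersion _ hclosed

end Groth.Agent.Lib.Helper14
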