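import Groth.Agent.Lib.Helper14.KerProper
import Groth.Agent.Lib.Helper14.GroupFibreLoci5

/-!
# Finite homomorphisms and discrete kernels (SGA3 VI_B 1.4.1)
-/

set_option autoImplicit false
universe u
open CategoryTheory CategoryTheory.Limits MonoidalCategory CartesianMonoidalCategory MonObj GrpObj
  AlgebraicGeometry

namespace Groth.Agent.Lib.Helper14

section General

variable {S : Scheme.{u}} {G H : Over S} [GrpObj G] [GrpObj H]

/-- A homomorphism of group schemes whose kernel is locally quasi-finite over the base is locally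
quasi-finite. -/
theorem locallyQuasiFinite_of_kernel (u : G ⟶ H) [IsMonHom u] [LocallyOfFiniteType u.left]
    (h : LocallyQuasiFinite (pullback.snd u.left (η[H] : 𝟙_ (Over S) ⟶ H).left)) :
    LocallyQuasiFinite u.left := by
  rw [locallyQuasiFinite_iff_forall_unit]
  intro s
  have hK : IsPullback (pullback.fst u.left (η[H] : 𝟙_ (Over S) ⟶ H).left)
      (pullback.snd u.left (η[H] : 𝟙_ (Over S) ⟶ H).left) u.left
      (η[H] : 𝟙_ (Over S) ⟶ H).left := .of_hasPullback _ _
  let e : (𝟙_ (Over S)).left ⟶ pullback u.left (η[H] : 𝟙_ (Over S) ⟶ H).left :=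
    pullback.lift (η[G] : 𝟙_ (Over S) ⟶ G).left (𝟙 _)
      (by rw [Category.id_comp, ← Over.comp_left, IsMonHom.one_hom])
  have h1 := Scheme.Hom.quasiFiniteAt (pullback.snd u.left (η[H] : 𝟙_ (Over S) ⟶ H).left) (e s)
  rw [quasiFiniteAt_iff_of_isPullback hK] at h1
  have h2 : pullback.fst u.left (η[H] : 𝟙_ (Over S) ⟶ H).left (e s) =
      (η[G] : 𝟙_ (Over S) ⟶ G).left s := by
    rw [← Scheme.Hom.comp_apply, pullback.lift_fst]
  rw [h2] at h1
  exact h1

end General

section Artinian

variable {A : Type u} [CommRing A] [IsArtinianRing A] [IsLocalRing A]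
  {G H : Over (Spec (CommRingCat.of A))} [GrpObj G] [GrpObj H]

/-- SGA3 VI_B 1.4.1 (iii) ⟺ (v): over a local artinian ring, a quasi-compact homomorphism of group
schemes locally of finite type is finite iff its kernel is discrete. -/
theorem isFinite_iff_discreteTopology_ker
    [LocallyOfFiniteType G.hom] [LocallyOfFiniteType H.hom]
    (u : G ⟶ H) [IsMonHom u] [QuasiCompact u.left] :
    IsFinite u.left ↔ DiscreteTopology
      ↥(pullback u.left (η[H] : 𝟙_ (Over (Spec (CommRingCat.of A))) ⟶ H).left) := by
  have hss : Subsingleton (Spec (CommRingCat.of A)) := subsingleton_spec_of_artinian_local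
  have hlft : LocallyOfFiniteType u.left := by
    have : LocallyOfFiniteType (u.left ≫ H.hom) := by rw [Over.w u]; infer_instance
    exact locallyOfFiniteType_of_comp u.left H.hom
  constructor
  · intro h
    have hd := (pullback.snd u.left
      (η[H] : 𝟙_ (Over (Spec (CommRingCat.of A))) ⟶ H).left).isDiscrete_preimage_singleton
      (IsLocalRing.closedPoint A)
    rw [← isDiscrete_univ_iff]
    convert hd using 1
    ext z
    simp only [Set.mem_univ, Set.mem_preimage, true_iff]
    exact hss.elim _ _
  · intro hd
    have hLQF : LocallyQuasiFinite (pullback.snd u.left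
        (η[H] : 𝟙_ (Over (Spec (CommRingCat.of A))) ⟶ H).left) := by
      rw [locallyQuasiFinite_iff_isDiscrete_preimage_singleton]
      intro x
      exact IsDiscrete.univ.mono (Set.subset_univ _)
    have hart : IsLocallyArtinian (𝟙_ (Over (Spec (CommRingCat.of A)))).left :=
      Scheme.isLocallyArtinianScheme_Spec.mpr inferInstance
    have hfin : IsFinite (pullback.snd u.left
        (η[H] : 𝟙_ (Over (Spec (CommRingCat.of A))) ⟶ H).left) := IsFinite.of_locallyQuasiFinite _
    have hprop : IsProper u.left :=
      isProper_of_kerProper_of_artinian u (kerProper_of_isProper_snd u inferInstance)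
    have hlqf : LocallyQuasiFinite u.left := locallyQuasiFinite_of_kernel u hLQF
    exact IsFinite.of_isProper_of_locallyQuasiFinite u.left

end Artinian

end Groth.Agent.Lib.Helper14
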