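import Groth.Agent.Lib.Helper14.IsogenyFinite
import Groth.Agent.Lib.Helper14.KerFinite
import Groth.Agent.Lib.Helper14.FibreCritGroup
import Groth.Agent.Lib.Helper55.GroupFibreDimConst
import Groth.Agent.Lib.Helper55.FiberBaseChange
import Groth.Agent.Lib.Helper78.AbVarFibre

/-!
# Isogenies and fibre dimensions (helper14)

* `dim_eq_of_flat_of_locallyQuasiFinite`: a flat locally quasi-finite homomorphism of group schemes
  locally of finite type over a field has source and target of the same dimension.
* `locallyQuasiFinite_of_isIsogenyOver`: an isogeny (finite kernel) is locally quasi-finite.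
* `fibreDimAt_eq_dim_pullback`: the local fibre dimension of a flat group scheme of finite presentation
  at a point `x` is the dimension of the base change to any field point generizing the image of `x`.
-/

set_option autoImplicit false
universe u
open CategoryTheory CategoryTheory.Limits MonoidalCategory CartesianMonoidalCategory MonObj GrpObj
  AlgebraicGeometry

namespace Groth.Agent.Lib.Helper14.IsogenyDim

section Field

variable {k : Type u} [Field k] {G H : Over (Spec (CommRingCat.of k))} [GrpObj G] [GrpObj H]

/-- A flat locally quasi-finite homomorphism of group schemes locally of finite type over a field: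
source and target have the same dimension. -/
theorem dim_eq_of_flat_of_locallyQuasiFinite [LocallyOfFiniteType G.hom]
    [LocallyOfFiniteType H.hom] (f : G ⟶ H) [Flat f.left] [LocallyQuasiFinite f.left]
    (g : G.left) : topologicalKrullDim G.left = topologicalKrullDim H.left := by
  have hlft : LocallyOfFiniteType f.left := by
    have : LocallyOfFiniteType (f.left ≫ H.hom) := by rw [Over.w]; infer_instance
    exact locallyOfFiniteType_of_comp f.left H.hom
  have h1 := Groth.Agent.Lib.Helper55.localDim_eq_add_of_flat' H.hom f.left (f.left g)
    (f.left.asFiber g)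
  have h0 : FlatMor.localDim ↥(f.left.fiber (f.left g)) (f.left.asFiber g) = 0 := by
    apply le_antisymm _ (Groth.Agent.Lib.Helper23.FlatFibreDim.localDim_nonneg _)
    refine le_trans ?_ (topologicalKrullDim_zero_of_discreteTopology ↥(f.left.fiber (f.left g)))
    rw [Groth.Agent.Lib.Helper55.topologicalKrullDim_eq_iSup_localDim]
    exact le_iSup (fun z => FlatMor.localDim ↥(f.left.fiber (f.left g)) z) _
  rw [h0, add_zero, Groth.Agent.Lib.Helper55.localDim_eq_topologicalKrullDim_of_grpObj G,
    Groth.Agent.Lib.Helper55.localDim_eq_topologicalKrullDim_of_grpObj H] at h1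
  exact h1

end Field

section Isogeny

variable {S : Scheme.{u}} {G H : Over S} [GrpObj G] [GrpObj H]

/-- An isogeny (in the sense of `SGA7.IsIsogenyOver`: surjective with finite kernel) is locally
quasi-finite. -/
theorem locallyQuasiFinite_of_isIsogenyOver (u : G ⟶ H) [IsMonHom u] [LocallyOfFiniteType u.left]
    (hu : SGA7.IsIsogenyOver u) : LocallyQuasiFinite u.left := by
  apply locallyQuasiFinite_of_kernel u
  have hK : AlgGrp.IsKernel (pullback.fst u η[H]) u := by
    unfold AlgGrp.IsKernel
    rw [toUnit_unique (toUnit _) (pullback.snd u η[H])]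
    exact IsPullback.of_hasPullback u η[H]
  have hfin : IsFinite (pullback u η[H]).hom := hu.2 _ _ hK
  have h' : IsPullback (pullback.fst u η[H]).left (pullback.snd u η[H]).left u.left
      (η[H] : 𝟙_ (Over S) ⟶ H).left := (IsPullback.of_hasPullback u η[H]).map (Over.forget _)
  have hsnd : (pullback.snd u η[H]).left = (pullback u η[H]).hom := by
    have := Over.w (pullback.snd u η[H])
    rw [← this]
    exact (Category.comp_id _).symm
  have hfac : pullback.snd u.left (η[H] : 𝟙_ (Over S) ⟶ H).left =
      h'.isoPullback.inv ≫ (pullback.snd u η[H]).left := by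
    rw [h'.isoPullback_inv_snd]
  rw [hfac]
  haveI : LocallyQuasiFinite (pullback.snd u η[H]).left := by
    rw [hsnd]; infer_instance
  infer_instance

end Isogeny

section FibreDim

variable {S : Scheme.{u}} (G : Over S) [GrpObj G] [Flat G.hom] [LocallyOfFinitePresentation G.hom]

/-- The local fibre dimension of a flat group scheme of finite presentation at `x` is the dimension of
the base change of the group to any field-valued point whose image generizes the image of `x`. -/
theorem fibreDimAt_eq_dim_pullback {K : Type u} [Field K] (sK : Spec (CommRingCat.of K) ⟶ S)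
    (x : G.left) (hx : ∀ pt, sK pt ⤳ G.hom x) :
    FlatMor.fibreDimAt G.hom x = topologicalKrullDim ↥((Over.pullback sK).obj G).left := by
  have : LocallyOfFiniteType G.hom := inferInstance
  let GK : Over (Spec (CommRingCat.of K)) := (Over.pullback sK).obj G
  have : LocallyOfFiniteType GK.hom := by
    show LocallyOfFiniteType (pullback.snd _ _); infer_instance
  have : Subsingleton ↥(Spec (CommRingCat.of K)) :=
    inferInstanceAs (Subsingleton (PrimeSpectrum K))
  let pt : ↥(Spec (CommRingCat.of K)) := IsLocalRing.closedPoint K
  let z : GK.left := (η[GK] : 𝟙_ _ ⟶ GK).left pt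
  have h1 : FlatMor.fibreDimAt GK.hom z = FlatMor.localDim ↥GK.left z :=
    Groth.Agent.Lib.Helper78.AbVarFibre.fibreDimAt_eq_localDim_of_const GK.hom
      (fun _ _ => Subsingleton.elim _ _) z
  have h2 := Groth.Agent.Lib.Helper55.localDim_eq_topologicalKrullDim_of_grpObj (k := K) GK z
  have h3 : FlatMor.fibreDimAt GK.hom z = FlatMor.fibreDimAt G.hom (pullback.fst G.hom sK z) :=
    Groth.Agent.Lib.Helper55.fibreDimAt_eq_of_isPullback G.hom sK (pullback.fst _ _)
      (pullback.snd _ _) (IsPullback.of_hasPullback _ _) z
  have h4 : G.hom (pullback.fst G.hom sK z) = sK (pullback.snd G.hom sK z) := by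
    have := congr(($(pullback.condition (f := G.hom) (g := sK))) z)
    rwa [Scheme.Hom.comp_apply, Scheme.Hom.comp_apply] at this
  rw [fibreDimAt_eq_dim_fibre G x,
    ← Groth.Agent.Lib.Helper55.dim_fibre_eq_of_specializes_of_grpObj G (G.hom x)
      (G.hom (pullback.fst G.hom sK z)) (by rw [h4]; exact hx _),
    ← fibreDimAt_eq_dim_fibre G (pullback.fst G.hom sK z), ← h3, h1, h2]

end FibreDim

end Groth.Agent.Lib.Helper14.IsogenyDim
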