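import Mathlib
import Groth.Agent.Lib.Helper14.DominantQC
import Groth.Agent.Lib.Helper55.Equidim
import Groth.Agent.Lib.Helper55.GroupLocalDim
import Groth.Agent.H52.DimZero

/-!
# Homomorphisms of group schemes of the same dimension: flat ⇒ quasi-finite
-/

set_option autoImplicit false
universe u
open CategoryTheory CategoryTheory.Limits MonoidalCategory CartesianMonoidalCategory MonObj GrpObj
  AlgebraicGeometry

namespace Groth.Agent.Lib.Helper14

section

variable {k : Type u} [Field k] {G H : Over (Spec (CommRingCat.of k))} [GrpObj G] [GrpObj H]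

/-- A flat morphism of group schemes locally of finite type over a field with
`dim G = dim H` is locally quasi-finite. -/
theorem locallyQuasiFinite_of_flat_of_dim_eq [LocallyOfFiniteType G.hom]
    [LocallyOfFiniteType H.hom] (f : G ⟶ H) [Flat f.left]
    (hdim : topologicalKrullDim G.left = topologicalKrullDim H.left) :
    LocallyQuasiFinite f.left := by
  have hlft : LocallyOfFiniteType f.left := by
    have : LocallyOfFiniteType (f.left ≫ H.hom) := by rw [Over.w]; infer_instance
    exact locallyOfFiniteType_of_comp f.left H.hom
  apply LocallyQuasiFinite.of_fiberToSpecResidueField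
  intro y
  have : IsLocallyNoetherian (Spec (H.left.residueField y)) := inferInstance
  have hlft' : LocallyOfFiniteType (f.left.fiberToSpecResidueField y) :=
    inferInstanceAs (LocallyOfFiniteType (pullback.snd f.left (H.left.fromSpecResidueField y)))
  apply Groth.Agent.H52.locallyQuasiFinite_of_dim_le_zero
  rw [Groth.Agent.Lib.Helper55.topologicalKrullDim_eq_iSup_localDim]
  apply iSup_le
  intro z
  have h1 := Groth.Agent.Lib.Helper55.localDim_eq_add_of_flat' H.hom f.left y z
  obtain ⟨n, hn⟩ := Groth.Agent.Lib.Helper55.exists_localDim_eq_natCast H.hom y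
  rw [Groth.Agent.Lib.Helper55.localDim_eq_topologicalKrullDim_of_grpObj G, hdim,
    ← Groth.Agent.Lib.Helper55.localDim_eq_topologicalKrullDim_of_grpObj H y, hn] at h1
  have h2 : (n : WithBot ℕ∞) + 0 = (n : WithBot ℕ∞) + FlatMor.localDim ↥(f.left.fiber y) z := by
    rw [add_zero]; exact h1
  rw [← Groth.Agent.Lib.Helper55.withBot_enat_add_left_cancel n h2]

end

end Groth.Agent.Lib.Helper14
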