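import Mathlib
import Groth.Agent.Lib.Helper14.IsogenyFinite
import Groth.Agent.Lib.Helper2.ConnDim2
import Groth.Agent.S4715
import Groth.Agent.Lib.Helper54.Reduced
import Groth.Agent.Lib.Helper97.VarDim
import Groth.Agent.Lib.Helper70.GrpIrrC

/-!
# Finite homomorphisms of group schemes of the same dimension are surjective and flat
-/

set_option autoImplicit false
universe u
open CategoryTheory CategoryTheory.Limits MonoidalCategory CartesianMonoidalCategory MonObj GrpObj
  AlgebraicGeometry

namespace Groth.Agent.Lib.Helper14

open Groth.Agent.Lib.Helper70.GrpIrrA in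
/-- A connected space with finitely many irreducible components, each point lying on only one of
them, is irreducible. -/
theorem irreducibleSpace_of_connected_of_uniqueComp (T : Type*) [TopologicalSpace T]
    [ConnectedSpace T] (hfin : (irreducibleComponents T).Finite)
    (huc : ∀ x : T, UniqueComp T x) : IrreducibleSpace T := by
  obtain ⟨y₀⟩ := (inferInstance : Nonempty T)
  let Z₀ := irreducibleComponent y₀
  have hZ₀ : Z₀ ∈ irreducibleComponents T := irreducibleComponent_mem_irreducibleComponents y₀
  have hcompl : Z₀ᶜ = ⋃ Z ∈ irreducibleComponents T \ {Z₀}, Z := by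
    ext y
    constructor
    · intro hy
      refine Set.mem_iUnion₂.mpr ⟨irreducibleComponent y,
        ⟨irreducibleComponent_mem_irreducibleComponents y, ?_⟩, mem_irreducibleComponent⟩
      intro h
      rw [Set.mem_singleton_iff] at h
      exact hy (h ▸ mem_irreducibleComponent)
    · intro hy
      obtain ⟨Z, ⟨hZ, hne⟩, hyZ⟩ := Set.mem_iUnion₂.mp hy
      intro hyZ₀
      exact hne (huc y Z hZ Z₀ hZ₀ hyZ hyZ₀)
  have hopen : IsOpen Z₀ := by
    rw [← isClosed_compl_iff, hcompl]
    exact (hfin.subset Set.sdiff_subset).isClosed_biUnion
      (fun Z hZ => isClosed_of_mem_irreducibleComponents Z hZ.1)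
  have huniv : Z₀ = Set.univ :=
    IsClopen.eq_univ ⟨isClosed_irreducibleComponent, hopen⟩ ⟨y₀, mem_irreducibleComponent⟩
  have hirr : IsIrreducible (Set.univ : Set T) := huniv ▸ isIrreducible_irreducibleComponent
  exact (irreducibleSpace_def T).mpr hirr

section

variable {k : Type u} [Field k] {G H : Over (Spec (CommRingCat.of k))} [GrpObj G] [GrpObj H]

/-- A connected group scheme of finite type over a field is irreducible. -/
theorem irreducibleSpace_of_grpObj_of_connectedSpace (G : Over (Spec (CommRingCat.of k)))
    [GrpObj G] [LocallyOfFiniteType G.hom] [CompactSpace G.left] [ConnectedSpace G.left] :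
    IrreducibleSpace G.left := by
  have h1 : IsLocallyNoetherian G.left := LocallyOfFiniteType.isLocallyNoetherian G.hom
  have h2 : IsNoetherian G.left := {}
  exact irreducibleSpace_of_connected_of_uniqueComp G.left
    TopologicalSpace.NoetherianSpace.finite_irreducibleComponents
    (Groth.Agent.Lib.Helper70.GrpIrrC.uniqueComp G)

omit [GrpObj G] [GrpObj H] in
/-- A finite morphism to an irreducible scheme of finite type over a field of the same dimension
is surjective. -/
theorem surjective_of_isFinite_of_dim_eq [LocallyOfFiniteType G.hom] [LocallyOfFiniteType H.hom]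
    [CompactSpace H.left] [IrreducibleSpace H.left] (f : G ⟶ H) [IsFinite f.left]
    (hdim : topologicalKrullDim G.left = topologicalKrullDim H.left) :
    Function.Surjective f.left := by
  have h1 : IsLocallyNoetherian G.left := LocallyOfFiniteType.isLocallyNoetherian G.hom
  have h2 : IsLocallyNoetherian H.left := LocallyOfFiniteType.isLocallyNoetherian H.hom
  have hcl : IsClosed (Set.range f.left) := f.left.isClosedMap.isClosed_range
  have h3 := (Groth.Agent.S4715.result f.left).1
  rw [hcl.closure_eq] at h3
  have hfin : topologicalKrullDim H.left < ⊤ :=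
    Groth.Agent.Lib.Helper97.VarDim.topologicalKrullDim_lt_top_of_locallyOfFiniteType k H.left H.hom
  have huniv : topologicalKrullDim (Set.univ : Set H.left) = topologicalKrullDim H.left :=
    IsHomeomorph.topologicalKrullDim_eq _ (Homeomorph.Set.univ H.left).isHomeomorph
  by_contra hns
  have hne : Set.range f.left ≠ Set.univ := fun h => hns (Set.range_eq_univ.mp h)
  have h4 := Groth.Agent.Lib.Helper2.topologicalKrullDim_lt_of_ssubset_of_isIrreducible
    (Set.subset_univ _) hne hcl (IrreducibleSpace.isIrreducible_univ H.left)
    (by rw [huniv]; exact hfin)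
  rw [huniv, ← hdim] at h4
  exact absurd (lt_of_le_of_lt h3 h4) (lt_irrefl _)

end

end Groth.Agent.Lib.Helper14
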