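import Mathlib

/-!
# Kernels of homomorphisms of group objects: the shear square

For a homomorphism `f : G ⟶ Z` of group objects in a cartesian monoidal category with kernel
`κ : K ⟶ G`, the square `G ⊗ K ⇉ G ⟶ Z` given by `(g, k) ↦ g` and `(g, k) ↦ g * k` is cartesian:
`G ×_Z G ≅ G × K`.  Also: transfer of kernels along monomorphic homomorphisms.
-/

set_option autoImplicit false
universe v u
open CategoryTheory CategoryTheory.Limits MonoidalCategory CartesianMonoidalCategory MonObj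

namespace Groth.Agent.Lib.Helper14

section

variable {C : Type u} [Category.{v} C] [CartesianMonoidalCategory C]

/-- `κ : K ⟶ G` is a kernel of `f : G ⟶ Z`. -/
abbrev IsKer {G Z K : C} [GrpObj Z] (κ : K ⟶ G) (f : G ⟶ Z) : Prop :=
  IsPullback κ (toUnit K) f η[Z]

variable {G Z K : C} [GrpObj G] [GrpObj Z]

omit [GrpObj G] in
theorem IsKer.comp_eq_one {κ : K ⟶ G} {f : G ⟶ Z} (hK : IsKer κ f) : κ ≫ f = 1 := by
  have h : IsPullback κ (toUnit K) f η[Z] := hK
  rw [h.w, Hom.one_def]

/-- The shear square of a kernel. -/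
theorem isPullback_fst_mul_of_isKer (f : G ⟶ Z) [IsMonHom f] (κ : K ⟶ G) (hK : IsKer κ f) :
    IsPullback (fst G K) (fst G K * (snd G K ≫ κ)) f f := by
  have w : fst G K ≫ f = (fst G K * (snd G K ≫ κ)) ≫ f := by
    rw [MonObj.mul_comp, Category.assoc, IsKer.comp_eq_one hK, MonObj.comp_one, _root_.mul_one]
  refine IsPullback.of_isLimit (c := PullbackCone.mk _ _ w) (PullbackCone.IsLimit.mk w
    (fun s => lift s.fst (hK.lift (s.fst⁻¹ * s.snd) (toUnit _) ?_)) ?_ ?_ ?_)
  · rw [MonObj.mul_comp, GrpObj.inv_comp, s.condition, inv_mul_cancel, Hom.one_def]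
  · intro s
    rw [lift_fst]
  · intro s
    rw [MonObj.comp_mul, lift_fst, ← Category.assoc, lift_snd, IsPullback.lift_fst,
      mul_inv_cancel_left]
  · intro s m h1 h2
    apply CartesianMonoidalCategory.hom_ext
    · rw [lift_fst, h1]
    · rw [lift_snd]
      apply hK.hom_ext
      · rw [IsPullback.lift_fst, ← h1, ← h2, MonObj.comp_mul, inv_mul_cancel_left, Category.assoc]
      · exact toUnit_unique _ _

omit [GrpObj G] in
/-- A kernel of `j ≫ u` obtained by pulling back a kernel of `u` along `j`. -/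
theorem IsKer.pullback_comp {G' H K K' : C} [GrpObj H] {κ : K ⟶ G} {u : G ⟶ H} (hK : IsKer κ u)
    {j : G' ⟶ G} {p : K' ⟶ K} {κ' : K' ⟶ G'} (h : IsPullback p κ' κ j) : IsKer κ' (j ≫ u) := by
  have h2 : IsPullback (p ≫ toUnit K) κ' η[H] (j ≫ u) := h.paste_horiz hK.flip
  have e : p ≫ toUnit K = toUnit K' := toUnit_unique _ _
  rw [e] at h2
  exact h2.flip

omit [GrpObj G] in
/-- A kernel of `f ≫ i` with `i` a monomorphic homomorphism is a kernel of `f`. -/
theorem IsKer.of_comp_mono {H : C} [GrpObj H] {κ : K ⟶ G} {f : G ⟶ Z} (i : Z ⟶ H) [IsMonHom i]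
    [Mono i] (hK : IsKer κ (f ≫ i)) : IsKer κ f := by
  have hr : IsPullback (𝟙 (𝟙_ C)) η[Z] η[H] i :=
    IsPullback.of_horiz_isIso_mono ⟨by rw [Category.id_comp, IsMonHom.one_hom]⟩
  have hK' : IsPullback (toUnit K ≫ 𝟙 (𝟙_ C)) κ η[H] (f ≫ i) := by
    rw [Category.comp_id]; exact hK.flip
  have hl := IsPullback.of_right hK' (by rw [← cancel_mono i, Category.assoc, Category.assoc,
    IsMonHom.one_hom, ← hK.w]) hr
  exact hl.flip

end

end Groth.Agent.Lib.Helper14
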