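import Groth.Agent.Lib.Helper14.MonoClosedImm
import Groth.Agent.Lib.Helper14.KernelShear
import Groth.Agent.S5331

/-!
# Homomorphisms with proper kernel are proper (SGA3 VI_B 1.4.1)

Over a local artinian ring, a quasi-compact homomorphism `u : G ⟶ H` of group schemes locally of
finite type whose kernel is proper is proper.
-/

set_option autoImplicit false
universe u
open CategoryTheory CategoryTheory.Limits MonoidalCategory CartesianMonoidalCategory MonObj GrpObj
  AlgebraicGeometry

namespace Groth.Agent.Lib.Helper14

section General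

variable {S : Scheme.{u}} {G H : Over S} [GrpObj H]

/-- The scheme-theoretic kernel (fibre over the unit section) as an object over `S`. -/
noncomputable def kerObj (u : G ⟶ H) : Over S :=
  Over.mk (pullback.fst u.left (η[H] : 𝟙_ (Over S) ⟶ H).left ≫ G.hom)

/-- The inclusion of the kernel. -/
noncomputable def kerι (u : G ⟶ H) : kerObj u ⟶ G :=
  Over.homMk (pullback.fst u.left (η[H] : 𝟙_ (Over S) ⟶ H).left) rfl

theorem kerObj_hom_eq (u : G ⟶ H) :
    (kerObj u).hom = pullback.snd u.left (η[H] : 𝟙_ (Over S) ⟶ H).left := by
  show pullback.fst u.left (η[H] : 𝟙_ (Over S) ⟶ H).left ≫ G.hom = _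
  have h1 : (η[H] : 𝟙_ (Over S) ⟶ H).left ≫ H.hom = 𝟙 S := Over.w (η[H] : 𝟙_ (Over S) ⟶ H)
  rw [← Over.w u, ← Category.assoc, pullback.condition, Category.assoc, h1]
  exact Category.comp_id _

theorem isKer_kerι (u : G ⟶ H) : IsKer (kerι u) u := by
  have e : kerι u ≫ u = toUnit (kerObj u) ≫ η[H] := by
    apply Over.OverMorphism.ext
    show pullback.fst u.left (η[H] : 𝟙_ (Over S) ⟶ H).left ≫ u.left =
      (toUnit (kerObj u)).left ≫ (η[H] : 𝟙_ (Over S) ⟶ H).left
    rw [Over.toUnit_left, kerObj_hom_eq, pullback.condition]
    rfl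
  refine IsPullback.of_map (Over.forget S) e ?_
  show IsPullback (pullback.fst u.left (η[H] : 𝟙_ (Over S) ⟶ H).left) (toUnit (kerObj u)).left
    u.left (η[H] : 𝟙_ (Over S) ⟶ H).left
  rw [Over.toUnit_left, kerObj_hom_eq]
  exact IsPullback.of_hasPullback _ _

/-- `u` has a proper kernel. -/
def KerProper (u : G ⟶ H) : Prop :=
  ∃ (K : Over S) (κ : K ⟶ G), IsKer κ u ∧ IsProper K.hom

theorem kerProper_of_isProper_snd (u : G ⟶ H)
    (h : IsProper (pullback.snd u.left (η[H] : 𝟙_ (Over S) ⟶ H).left)) : KerProper u :=
  ⟨kerObj u, kerι u, isKer_kerι u, by rw [kerObj_hom_eq]; exact h⟩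

variable {T : Scheme.{u}} (φ : T ⟶ S)

theorem IsKer.map_pullback {K : Over S} {κ : K ⟶ G} {u : G ⟶ H} (hK : IsKer κ u) :
    IsKer ((Over.pullback φ).map κ) ((Over.pullback φ).map u) := by
  have hmap : IsPullback ((Over.pullback φ).map κ) ((Over.pullback φ).map (toUnit K))
      ((Over.pullback φ).map u) ((Over.pullback φ).map η[H]) := IsPullback.map (Over.pullback φ) hK
  refine IsPullback.of_iso hmap (Iso.refl _) (Iso.refl _)
    (Functor.Monoidal.εIso (Over.pullback φ)).symm (Iso.refl _) ?_ ?_ ?_ ?_
  · simp
  · exact toUnit_unique _ _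
  · simp
  · rw [Iso.refl_hom, Category.comp_id, Iso.symm_hom, Functor.obj.η_def, ← Category.assoc]
    simp

theorem KerProper.pullback {u : G ⟶ H} (h : KerProper u) :
    KerProper ((Over.pullback φ).map u) := by
  obtain ⟨K, κ, hK, hprop⟩ := h
  exact ⟨(Over.pullback φ).obj K, (Over.pullback φ).map κ, hK.map_pullback φ,
    inferInstanceAs (IsProper (pullback.snd K.hom φ))⟩

end General

section Perfect

variable {k : Type u} [Field k] {G H : Over (Spec (CommRingCat.of k))} [GrpObj G] [GrpObj H]

/-- Over a perfect field, a quasi-compact homomorphism of group schemes locally of finite type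
with proper kernel is universally closed. -/
theorem universallyClosed_of_kerProper_of_perfectField [PerfectField k]
    [LocallyOfFiniteType G.hom] [LocallyOfFiniteType H.hom]
    (u : G ⟶ H) [IsMonHom u] [QuasiCompact u.left] (hKP : KerProper u) :
    UniversallyClosed u.left := by
  obtain ⟨K, κ, hK, hKprop⟩ := hKP
  obtain ⟨⟨m, hm⟩, ⟨v, hv⟩, ⟨e, he⟩⟩ := Groth.Agent.S11936.result k G (redObj G) (redι G)
  let inst : GrpObj (redObj G) := grpObjOfMono (redι G) m hm e he v hv
  have hj : IsMonHom (redι G) := isMonHom_of_grpObjOfMono (redι G) m hm e he v hv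
  have hu'mon : IsMonHom (redι G ≫ u) := inferInstance
  have hu'qc : QuasiCompact (redι G ≫ u).left := by
    rw [Over.comp_left]; infer_instance
  obtain ⟨Z, instZ, iZ, f', hiZ, hf', hfac, hcl, hdom, hqc', hsurj, -⟩ :=
    exists_grpObj_image (redι G ≫ u)
  have hredZ : IsReduced Z.left := IsSchemeTheoreticallyDominant.isReduced f'.left
  have hflat : Flat f'.left := flat_of_denseRange_grpHom f' f'.left.surjective.denseRange
  have hiZmono : Mono iZ := by
    have : Mono ((Over.forget _).map iZ) := inferInstanceAs (Mono iZ.left)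
    exact (Over.forget _).mono_of_mono_map this
  -- the kernel of `f'`
  have hpb : IsPullback (pullback.fst κ (redι G)) (pullback.snd κ (redι G)) κ (redι G) :=
    IsPullback.of_hasPullback κ (redι G)
  have hK1 : IsKer (pullback.snd κ (redι G)) (redι G ≫ u) := IsKer.pullback_comp hK hpb
  have hK2 : IsKer (pullback.snd κ (redι G)) f' := by
    rw [← hfac] at hK1
    exact IsKer.of_comp_mono iZ hK1
  -- the kernel is proper
  have hclK : IsClosedImmersion (pullback.fst κ (redι G)).left := by
    have sq := (hpb.map (Over.forget _)).flip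
    exact MorphismProperty.of_isPullback (P := @IsClosedImmersion) sq
      (inferInstanceAs (IsClosedImmersion (redι G).left))
  have hK'prop : IsProper (pullback κ (redι G)).hom := by
    rw [← Over.w (pullback.fst κ (redι G))]; infer_instance
  -- the shear square
  have hshear := (isPullback_fst_mul_of_isKer f' (pullback.snd κ (redι G)) hK2).map (Over.forget _)
  have hfstprop : UniversallyClosed ((Over.forget _).map (fst (redObj G) (pullback κ (redι G)))) := by
    show UniversallyClosed (fst (redObj G) (pullback κ (redι G))).left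
    rw [Over.fst_left]; infer_instance
  have hQ : (@Surjective ⊓ @Flat ⊓ @QuasiCompact : MorphismProperty Scheme.{u})
      ((Over.forget _).map f') := ⟨⟨hsurj, hflat⟩, hqc'⟩
  have hf'uc : UniversallyClosed f'.left :=
    MorphismProperty.of_isPullback_of_descendsAlong (P := @UniversallyClosed)
      (Q := @Surjective ⊓ @Flat ⊓ @QuasiCompact) hshear hQ hfstprop
  have huc : UniversallyClosed ((redι G).left ≫ u.left) := by
    rw [← Over.comp_left, ← hfac, Over.comp_left]; infer_instance
  exact UniversallyClosed.of_comp_surjective (redι G).left u.left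

end Perfect

section Field

variable {k : Type u} [Field k] {G H : Over (Spec (CommRingCat.of k))} [GrpObj G] [GrpObj H]

theorem universallyClosed_of_kerProper_of_field
    [LocallyOfFiniteType G.hom] [LocallyOfFiniteType H.hom]
    (u : G ⟶ H) [IsMonHom u] [QuasiCompact u.left] (hKP : KerProper u) :
    UniversallyClosed u.left := by
  let K := AlgebraicClosure k
  let ψ : Spec (CommRingCat.of K) ⟶ Spec (CommRingCat.of k) :=
    Spec.map (CommRingCat.ofHom (algebraMap k K))
  have hqc := quasiCompact_pullbackMap_left ψ u
  have h1 : LocallyOfFiniteType ((Over.pullback ψ).obj G).hom :=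
    inferInstanceAs (LocallyOfFiniteType (pullback.snd G.hom ψ))
  have h2 : LocallyOfFiniteType ((Over.pullback ψ).obj H).hom :=
    inferInstanceAs (LocallyOfFiniteType (pullback.snd H.hom ψ))
  have huc : UniversallyClosed ((Over.pullback ψ).map u).left :=
    universallyClosed_of_kerProper_of_perfectField ((Over.pullback ψ).map u) (hKP.pullback ψ)
  have hψflat : Flat ψ := by
    rw [HasRingHomProperty.Spec_iff (P := @Flat)]
    exact (RingHom.flat_algebraMap_iff).mpr inferInstance
  have hψsurj : Surjective ψ := by
    have : Subsingleton (Spec (CommRingCat.of k)) :=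
      inferInstanceAs (Subsingleton (PrimeSpectrum k))
    have : Nonempty (Spec (CommRingCat.of K)) := inferInstanceAs (Nonempty (PrimeSpectrum K))
    exact ⟨fun x => ⟨Classical.arbitrary _, Subsingleton.elim _ _⟩⟩
  have hQ : (@Surjective ⊓ @Flat ⊓ @QuasiCompact : MorphismProperty Scheme.{u})
      (pullback.fst H.hom ψ) := ⟨⟨inferInstance, inferInstance⟩, inferInstance⟩
  exact MorphismProperty.of_isPullback_of_descendsAlong (P := @UniversallyClosed)
    (Q := @Surjective ⊓ @Flat ⊓ @QuasiCompact) (isPullback_overPullback_map_left u ψ).flip hQ huc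

end Field

section Artinian

variable {A : Type u} [CommRing A] [IsArtinianRing A] [IsLocalRing A]
  {G H : Over (Spec (CommRingCat.of A))} [GrpObj G] [GrpObj H]

theorem subsingleton_spec_of_artinian_local : Subsingleton (Spec (CommRingCat.of A)) := by
  show Subsingleton (PrimeSpectrum A)
  refine ⟨fun p q => ?_⟩
  have hp : p.asIdeal.IsMaximal := IsArtinianRing.isMaximal_of_isPrime p.asIdeal
  have hq : q.asIdeal.IsMaximal := IsArtinianRing.isMaximal_of_isPrime q.asIdeal
  ext1
  rw [IsLocalRing.eq_maximalIdeal hp, IsLocalRing.eq_maximalIdeal hq]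

theorem universallyClosed_of_kerProper_of_artinian
    [LocallyOfFiniteType G.hom] [LocallyOfFiniteType H.hom]
    (u : G ⟶ H) [IsMonHom u] [QuasiCompact u.left] (hKP : KerProper u) :
    UniversallyClosed u.left := by
  let κ := IsLocalRing.ResidueField A
  let φ : Spec (CommRingCat.of κ) ⟶ Spec (CommRingCat.of A) :=
    Spec.map (CommRingCat.ofHom (IsLocalRing.residue A))
  have hφcl : IsClosedImmersion φ :=
    IsClosedImmersion.spec_of_surjective _ IsLocalRing.residue_surjective
  have hφsurj : Surjective φ := by
    have : Subsingleton (Spec (CommRingCat.of A)) := subsingleton_spec_of_artinian_local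
    have : Nonempty (Spec (CommRingCat.of κ)) := inferInstanceAs (Nonempty (PrimeSpectrum κ))
    exact ⟨fun x => ⟨Classical.arbitrary _, Subsingleton.elim _ _⟩⟩
  have hqc := quasiCompact_pullbackMap_left φ u
  have h1 : LocallyOfFiniteType ((Over.pullback φ).obj G).hom :=
    inferInstanceAs (LocallyOfFiniteType (pullback.snd G.hom φ))
  have h2 : LocallyOfFiniteType ((Over.pullback φ).obj H).hom :=
    inferInstanceAs (LocallyOfFiniteType (pullback.snd H.hom φ))
  have huc : UniversallyClosed ((Over.pullback φ).map u).left :=
    universallyClosed_of_kerProper_of_field ((Over.pullback φ).map u) (hKP.pullback φ)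
  have sq := isPullback_overPullback_map_left u φ
  have huc2 : UniversallyClosed (pullback.fst G.hom φ ≫ u.left) := by
    rw [sq.w]; infer_instance
  exact UniversallyClosed.of_comp_surjective (pullback.fst G.hom φ) u.left

/-- SGA3 VI_B 1.4.1: over a local artinian ring, a quasi-compact homomorphism of group schemes
locally of finite type with proper kernel is proper. -/
theorem isProper_of_kerProper_of_artinian
    [LocallyOfFiniteType G.hom] [LocallyOfFiniteType H.hom]
    (u : G ⟶ H) [IsMonHom u] [QuasiCompact u.left] (hKP : KerProper u) : IsProper u.left := by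
  have huc := universallyClosed_of_kerProper_of_artinian u hKP
  have hss : Subsingleton (Spec (CommRingCat.of A)) := subsingleton_spec_of_artinian_local
  have hdisc : DiscreteTopology (Spec (CommRingCat.of A)) := inferInstance
  have hsepG : IsSeparated G.hom := Groth.Agent.S5331.result _ G
  have hsep : IsSeparated u.left := by
    have : IsSeparated (u.left ≫ H.hom) := by rw [Over.w u]; exact hsepG
    exact IsSeparated.of_comp u.left H.hom
  have hlft : LocallyOfFiniteType u.left := by
    have : LocallyOfFiniteType (u.left ≫ H.hom) := by rw [Over.w u]; infer_instance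
    exact locallyOfFiniteType_of_comp u.left H.hom
  exact {}

end Artinian

end Groth.Agent.Lib.Helper14
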