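import Mathlib
import Groth.Agent.Lib.Helper14.GroupFibreLoci2

/-!
# A morphism locally of finite type is a monomorphism iff all its fibres are
-/

set_option autoImplicit false
universe u
open CategoryTheory CategoryTheory.Limits AlgebraicGeometry

namespace Groth.Agent.Lib.Helper14

theorem mono_of_forall_mono_fibre {X Y : Scheme.{u}} (f : X ⟶ Y) [LocallyOfFiniteType f]
    (h : ∀ y : Y, Mono (f.fiberToSpecResidueField y)) : Mono f := by
  -- universally injective
  have hui : UniversallyInjective f := by
    refine ((tfae_universallyInjective f).out 0 1).mpr ?_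
    intro K _ g₁ g₂ hg
    have hg' : g₁ ≫ f = g₂ ≫ f := hg
    let y : Y := (g₁ ≫ f) (IsLocalRing.closedPoint K)
    let p := (Y.SpecToEquivOfField K) (g₁ ≫ f)
    have hfac : g₁ ≫ f = Spec.map p.2 ≫ Y.fromSpecResidueField p.1 := by
      have := (Y.SpecToEquivOfField K).symm_apply_apply (g₁ ≫ f)
      rw [Scheme.SpecToEquivOfField_symm_apply] at this
      exact this.symm
    have := h p.1
    let l₁ : Spec (.of K) ⟶ f.fiber p.1 := pullback.lift g₁ (Spec.map p.2) hfac
    let l₂ : Spec (.of K) ⟶ f.fiber p.1 := pullback.lift g₂ (Spec.map p.2) (hg'.symm.trans hfac)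
    have e : l₁ = l₂ := by
      rw [← cancel_mono (f.fiberToSpecResidueField p.1)]
      exact (pullback.lift_snd _ _ _).trans (pullback.lift_snd _ _ _).symm
    have e1 : l₁ ≫ f.fiberι p.1 = g₁ := pullback.lift_fst _ _ _
    have e2 : l₂ ≫ f.fiberι p.1 = g₂ := pullback.lift_fst _ _ _
    rw [← e1, ← e2, e]
  -- formally unramified
  have hunr : FormallyUnramified f := by
    refine formallyUnramified_of_stalkMap f fun x => ?_
    have Hsq : IsPullback (f.fiberι (f x)) (f.fiberToSpecResidueField (f x)) f
        (Y.fromSpecResidueField (f x)) := IsPullback.of_hasPullback _ _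
    have := h (f x)
    have hiso : IsIso (pullback.diagonal (f.fiberToSpecResidueField (f x))) :=
      (pullback.isIso_diagonal_iff _).mpr inferInstance
    have hfu : FormallyUnramified (f.fiberToSpecResidueField (f x)) := inferInstance
    have hx : f.fiberι (f x) (f.asFiber x) = x := f.fiberι_asFiber x
    rw [← hx]
    rw [← formallyUnramified_stalkMap_iff_of_isPullback Hsq (f.asFiber x)]
    exact FormallyUnramified.stalkMap _ _
  exact mono_of_universallyInjective_of_formallyUnramified f

theorem mono_iff_forall_mono_fibre {X Y : Scheme.{u}} (f : X ⟶ Y) [LocallyOfFiniteType f] :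
    Mono f ↔ ∀ y : Y, Mono (f.fiberToSpecResidueField y) := by
  constructor
  · intro h y
    exact inferInstanceAs (Mono (pullback.snd f (Y.fromSpecResidueField y)))
  · exact mono_of_forall_mono_fibre f

end Groth.Agent.Lib.Helper14
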