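import Groth.Agent.Lib.Helper14.DominantQC
import Groth.Agent.Lib.Helper14.MonoClosedImm
import Groth.Agent.Lib.Helper14.HomogeneousDim
import Groth.Agent.Lib.Helper41.ReducedLift
import Groth.Agent.Lib.Helper22.BirationalBC

/-!
# Homomorphisms of group schemes with open image are universally open (SGA3 VI_B 1.3) (helper14)

Over a local artinian ring, a homomorphism `u : G ⟶ H` of group schemes locally of finite type whose
set-theoretic image is open is universally open.
-/

set_option autoImplicit false
universe u
open CategoryTheory CategoryTheory.Limits MonoidalCategory CartesianMonoidalCategory MonObj GrpObj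
  AlgebraicGeometry

namespace Groth.Agent.Lib.Helper14

section General

theorem universallyOpen_of_comp_surjective {X Y Z : Scheme.{u}} (f : X ⟶ Y) (g : Y ⟶ Z)
    [UniversallyOpen (f ≫ g)] [Surjective f] : UniversallyOpen g := by
  constructor
  intro X' Y' i₁ i₂ f' H
  have h1 : IsOpenMap (pullback.fst i₁ f ≫ f') :=
    (UniversallyOpen.universally_isOpenMap (f := f ≫ g)) _ _ _
      ((IsPullback.of_hasPullback i₁ f).paste_horiz H)
  have hs' : Surjective (pullback.fst i₁ f) := inferInstance
  have hs : Function.Surjective (pullback.fst i₁ f) := hs'.surj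
  intro K hK
  have : f' '' K = (pullback.fst i₁ f ≫ f') '' ((pullback.fst i₁ f) ⁻¹' K) := by
    rw [Scheme.Hom.comp_base, TopCat.coe_comp, Set.image_comp, Set.image_preimage_eq K hs]
  rw [this]
  exact h1 _ (hK.preimage (pullback.fst i₁ f).continuous)

theorem universallyOpen_of_isClosedImmersion_of_surjective {X Y : Scheme.{u}} (q : X ⟶ Y)
    [IsClosedImmersion q] [Surjective q] : UniversallyOpen q := by
  constructor
  intro X' Y' i₁ i₂ q' H
  have h1 : IsClosedImmersion q' :=
    MorphismProperty.of_isPullback (P := @IsClosedImmersion) H.flip ‹_›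
  have h2 : Surjective q' := MorphismProperty.of_isPullback (P := @Surjective) H.flip ‹_›
  have hhomeo : IsHomeomorph q' := by
    rw [isHomeomorph_iff_isEmbedding_surjective]
    exact ⟨q'.isClosedEmbedding.isEmbedding, q'.surjective⟩
  exact hhomeo.isOpenMap

theorem isMonHom_of_comp_mono {C : Type*} [Category C] [CartesianMonoidalCategory C]
    {G K H : C} [MonObj G] [MonObj K] [MonObj H] (g : G ⟶ K) (i : K ⟶ H) [Mono i] [IsMonHom i]
    [IsMonHom (g ≫ i)] : IsMonHom g where
  one_hom := by
    rw [← cancel_mono i, Category.assoc, IsMonHom.one_hom (f := g ≫ i), IsMonHom.one_hom]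
  mul_hom := by
    rw [← cancel_mono i, Category.assoc, IsMonHom.mul_hom (f := g ≫ i), Category.assoc,
      IsMonHom.mul_hom, tensorHom_comp_tensorHom_assoc]

theorem range_overPullback_map_left {S T : Scheme.{u}} {G H : Over S} (u : G ⟶ H) (φ : T ⟶ S) :
    Set.range ((Over.pullback φ).map u).left = (pullback.fst H.hom φ) ⁻¹' Set.range u.left := by
  have sq := isPullback_overPullback_map_left u φ
  have e : ((Over.pullback φ).map u).left =
      sq.isoPullback.hom ≫ pullback.snd u.left (pullback.fst H.hom φ) :=
    sq.isoPullback_hom_snd.symm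
  rw [e, Scheme.Hom.comp_base, TopCat.coe_comp, Set.range_comp,
    sq.isoPullback.hom.surjective.range_eq, Set.image_univ]
  exact Scheme.Pullback.range_snd _ _

end General

section Field

variable {k : Type u} [Field k] {G H : Over (Spec (CommRingCat.of k))} [GrpObj G] [GrpObj H]

/-- A homomorphism of group schemes over a field with open image and reduced target is flat. -/
theorem flat_of_isOpen_range_grpHom (f : G ⟶ H) [IsMonHom f] (hf : IsOpen (Set.range f.left))
    [IsReduced H.left] : Flat f.left := by
  let pt : ↥(𝟙_ (Over (Spec (CommRingCat.of k)))).left := IsLocalRing.closedPoint k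
  have hne : (Set.range f.left).Nonempty := ⟨_, ⟨(η[G] : 𝟙_ _ ⟶ G).left pt, rfl⟩⟩
  have hdense : Dense (genericPoints H.left) := by
    rw [dense_iff_closure_eq]; exact genericPoints.closure
  obtain ⟨ξ, ⟨g, hg⟩, hξgen⟩ := hdense.inter_open_nonempty _ hf hne
  have hξ : ∀ y : H.left, y ⤳ ξ → y = ξ :=
    (Groth.Agent.Lib.Helper22.Birational.mem_genericPoints_iff ξ).mp hξgen
  have hsub : Subsingleton (PrimeSpectrum (H.left.presheaf.stalk (f.left g))) := by
    rw [hg]; exact Groth.Agent.Lib.Helper50.subsingleton_primeSpectrum_stalk ξ hξ
  have hfield : IsField (H.left.presheaf.stalk (f.left g)) := by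
    rw [IsLocalRing.isField_iff_maximalIdeal_eq]
    exact Groth.Agent.Lib.Helper50.maximalIdeal_eq_bot_of_subsingleton_primeSpectrum
  have : Subsingleton (Spec (CommRingCat.of k)) :=
    inferInstanceAs (Subsingleton (PrimeSpectrum k))
  have : Flat G.hom := inferInstance
  exact flat_of_flat_stalkMap_of_subsingleton f ⟨g, RingHom.Flat.of_isField hfield _⟩

/-- Over a perfect field, a homomorphism of group schemes locally of finite type with open image is
universally open. -/
theorem universallyOpen_of_isOpen_range_of_perfectField [PerfectField k]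
    [LocallyOfFiniteType G.hom] [LocallyOfFiniteType H.hom]
    (u : G ⟶ H) [IsMonHom u] (hu : IsOpen (Set.range u.left)) : UniversallyOpen u.left := by
  obtain ⟨⟨m, hm⟩, ⟨v, hv⟩, ⟨e, he⟩⟩ := Groth.Agent.S11936.result k G (redObj G) (redι G)
  let instG : GrpObj (redObj G) := grpObjOfMono (redι G) m hm e he v hv
  have hjG : IsMonHom (redι G) := isMonHom_of_grpObjOfMono (redι G) m hm e he v hv
  obtain ⟨⟨m', hm'⟩, ⟨v', hv'⟩, ⟨e', he'⟩⟩ := Groth.Agent.S11936.result k H (redObj H) (redι H)
  let instH : GrpObj (redObj H) := grpObjOfMono (redι H) m' hm' e' he' v' hv'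
  have hjH : IsMonHom (redι H) := isMonHom_of_grpObjOfMono (redι H) m' hm' e' he' v' hv'
  obtain ⟨f', hf'⟩ := Groth.Agent.Lib.Helper41.ReducedLift.exists_over_lift_of_isReduced
    (redι H) (redι G ≫ u)
  have hmon' : IsMonHom (f' ≫ redι H) := by rw [hf']; infer_instance
  have hf'mon : IsMonHom f' := isMonHom_of_comp_mono f' (redι H)
  have hrange : Set.range f'.left = (redι H).left ⁻¹' Set.range u.left := by
    ext y
    constructor
    · rintro ⟨x, rfl⟩
      refine ⟨(redι G).left x, ?_⟩
      rw [← Scheme.Hom.comp_apply, ← Scheme.Hom.comp_apply, ← Over.comp_left, ← Over.comp_left, hf']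
    · rintro ⟨x, hx⟩
      obtain ⟨x', rfl⟩ := (redι G).left.surjective x
      refine ⟨x', (redι H).left.isClosedEmbedding.injective ?_⟩
      rw [← hx, ← Scheme.Hom.comp_apply, ← Scheme.Hom.comp_apply, ← Over.comp_left,
        ← Over.comp_left, hf']
  have hopen : IsOpen (Set.range f'.left) := by
    rw [hrange]; exact hu.preimage (redι H).left.continuous
  have hflat : Flat f'.left := flat_of_isOpen_range_grpHom f' hopen
  have hlftG : LocallyOfFiniteType (redObj G).hom := by
    rw [← Over.w (redι G)]; infer_instance
  have hlftH : LocallyOfFiniteType (redObj H).hom := by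
    rw [← Over.w (redι H)]; infer_instance
  have hlft' : LocallyOfFiniteType f'.left := by
    have : LocallyOfFiniteType (f'.left ≫ (redObj H).hom) := by rw [Over.w f']; exact hlftG
    exact locallyOfFiniteType_of_comp f'.left (redObj H).hom
  have hnoeth : IsLocallyNoetherian (redObj H).left :=
    LocallyOfFiniteType.isLocallyNoetherian (redObj H).hom
  have hlfp : LocallyOfFinitePresentation f'.left := inferInstance
  have huo' : UniversallyOpen f'.left := inferInstance
  have huoH : UniversallyOpen (redι H).left :=
    universallyOpen_of_isClosedImmersion_of_surjective _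
  have huc : UniversallyOpen ((redι G).left ≫ u.left) := by
    rw [← Over.comp_left, ← hf', Over.comp_left]; infer_instance
  exact universallyOpen_of_comp_surjective (redι G).left u.left

/-- Over a field, a homomorphism of group schemes locally of finite type with open image is
universally open. -/
theorem universallyOpen_of_isOpen_range_of_field
    [LocallyOfFiniteType G.hom] [LocallyOfFiniteType H.hom]
    (u : G ⟶ H) [IsMonHom u] (hu : IsOpen (Set.range u.left)) : UniversallyOpen u.left := by
  let K := AlgebraicClosure k
  let ψ : Spec (CommRingCat.of K) ⟶ Spec (CommRingCat.of k) :=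
    Spec.map (CommRingCat.ofHom (algebraMap k K))
  have h1 : LocallyOfFiniteType ((Over.pullback ψ).obj G).hom :=
    inferInstanceAs (LocallyOfFiniteType (pullback.snd G.hom ψ))
  have h2 : LocallyOfFiniteType ((Over.pullback ψ).obj H).hom :=
    inferInstanceAs (LocallyOfFiniteType (pullback.snd H.hom ψ))
  have hopen : IsOpen (Set.range ((Over.pullback ψ).map u).left) := by
    rw [range_overPullback_map_left]; exact hu.preimage (pullback.fst H.hom ψ).continuous
  have huo : UniversallyOpen ((Over.pullback ψ).map u).left :=
    universallyOpen_of_isOpen_range_of_perfectField ((Over.pullback ψ).map u) hopen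
  have hψflat : Flat ψ := by
    rw [HasRingHomProperty.Spec_iff (P := @Flat)]
    exact (RingHom.flat_algebraMap_iff).mpr inferInstance
  have hψsurj : Surjective ψ := by
    have : Subsingleton (Spec (CommRingCat.of k)) :=
      inferInstanceAs (Subsingleton (PrimeSpectrum k))
    have : Nonempty (Spec (CommRingCat.of K)) := inferInstanceAs (Nonempty (PrimeSpectrum K))
    exact ⟨fun x => ⟨Classical.arbitrary _, Subsingleton.elim _ _⟩⟩
  have hQ : (@Surjective ⊓ @Flat ⊓ @QuasiCompact : MorphismProperty Scheme.{u})
      (pullback.fst H.hom ψ) := ⟨⟨inferInstance, inferInstance⟩, inferInstance⟩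
  exact MorphismProperty.of_isPullback_of_descendsAlong (P := @UniversallyOpen)
    (Q := @Surjective ⊓ @Flat ⊓ @QuasiCompact) (isPullback_overPullback_map_left u ψ).flip hQ huo

end Field

section Artinian

variable {A : Type u} [CommRing A] [IsArtinianRing A] [IsLocalRing A]
  {G H : Over (Spec (CommRingCat.of A))} [GrpObj G] [GrpObj H]

/-- SGA3 VI_B 1.3: over a local artinian ring, a homomorphism of group schemes locally of finite
type with open image is universally open. -/
theorem universallyOpen_of_isOpen_range_of_artinian
    [LocallyOfFiniteType G.hom] [LocallyOfFiniteType H.hom]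
    (u : G ⟶ H) [IsMonHom u] (hu : IsOpen (Set.range u.left)) : UniversallyOpen u.left := by
  have h1 : LocallyOfFiniteType ((Over.pullback (resPt A)).obj G).hom :=
    inferInstanceAs (LocallyOfFiniteType (pullback.snd G.hom (resPt A)))
  have h2 : LocallyOfFiniteType ((Over.pullback (resPt A)).obj H).hom :=
    inferInstanceAs (LocallyOfFiniteType (pullback.snd H.hom (resPt A)))
  have hopen : IsOpen (Set.range ((Over.pullback (resPt A)).map u).left) := by
    rw [range_overPullback_map_left]
    exact hu.preimage (pullback.fst H.hom (resPt A)).continuous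
  have huo : UniversallyOpen ((Over.pullback (resPt A)).map u).left :=
    universallyOpen_of_isOpen_range_of_field ((Over.pullback (resPt A)).map u) hopen
  have sq := isPullback_overPullback_map_left u (resPt A)
  have huoH : UniversallyOpen (pullback.fst H.hom (resPt A)) :=
    universallyOpen_of_isClosedImmersion_of_surjective _
  have huc2 : UniversallyOpen (pullback.fst G.hom (resPt A) ≫ u.left) := by
    rw [sq.w]; infer_instance
  exact universallyOpen_of_comp_surjective (pullback.fst G.hom (resPt A)) u.left

end Artinian

end Groth.Agent.Lib.Helper14
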