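import Groth.Agent.Lib.Helper14.FibreGrpTop2
import Groth.Agent.Lib.Helper2.HartshorneConnGlobal
import Groth.Agent.S5317

/-!
# A smooth subgroup with connected fibres is open iff it is the neutral component (helper14)

`j : H ⟶ N` a monomorphic homomorphism of `S`-group schemes, `H` flat lfp with connected fibres,
`N` locally of finite type: `j` is an open immersion iff `H` represents the neutral component of
`N` iff this holds fibrewise (SGA3 VI_B 6.x).
-/

set_option autoImplicit false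
universe u
open CategoryTheory CategoryTheory.Limits MonoidalCategory CartesianMonoidalCategory MonObj GrpObj
  AlgebraicGeometry

namespace Groth.Agent.Lib.Helper14.OpenNeutral

open Groth.Agent.Lib.Helper14.FibreGrpTop

variable {S : Scheme.{u}} {H N : Over S} [GrpObj H] [GrpObj N]

/-- with connected fibres, every point lies in the neutral set. -/
theorem neutralSet_eq_univ (hconn : ∀ s : S, _root_.IsConnected (H.hom.base ⁻¹' {s})) :
    SGA3x.neutralSet H = Set.univ := by
  apply Set.eq_univ_of_forall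
  intro x
  rw [mem_neutralSet_iff]
  have hc := hconn (H.hom x)
  refine hc.isPreconnected.subset_connectedComponentIn ?_ (le_refl _) (show x ∈ H.hom ⁻¹' {H.hom x} from rfl)
  show H.hom ((η[H].left : S ⟶ H.left) (H.hom x)) = H.hom x
  exact unit_hom_apply H (H.hom x)

theorem range_eq_neutralSet (hconn : ∀ s : S, _root_.IsConnected (H.hom.base ⁻¹' {s}))
    (j : H ⟶ N) [IsMonHom j] [IsOpenImmersion j.left] :
    Set.range j.left = SGA3x.neutralSet N := by
  rw [← image_neutralSet j, neutralSet_eq_univ hconn, Set.image_univ]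

/-- the image of a fibre. -/
theorem image_fibre (j : H ⟶ N) (s : S) :
    j.left '' (H.hom ⁻¹' {s}) = Set.range j.left ∩ N.hom ⁻¹' {s} := by
  have hw : ∀ x : H.left, N.hom (j.left x) = H.hom x := by
    intro x
    have := congr($(Over.w j) x)
    rw [Scheme.Hom.comp_apply] at this
    exact this
  ext y
  constructor
  · rintro ⟨x, hx, rfl⟩
    exact ⟨⟨x, rfl⟩, (hw x).trans hx⟩
  · rintro ⟨⟨x, rfl⟩, hy⟩
    exact ⟨x, (hw x).symm.trans hy, rfl⟩

theorem image_fibre_eq_range_mapF (j : H ⟶ N) (s : S) :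
    j.left '' (H.hom ⁻¹' {s}) = N.hom.fiberι s '' Set.range (mapF j s) := by
  rw [← Set.range_comp, ← H.hom.range_fiberι s, ← Set.range_comp]
  have h := mapF_fiberι j s
  have h1 : (⇑(N.hom.fiberι s) ∘ ⇑(mapF j s)) = ⇑(mapF j s ≫ N.hom.fiberι s) := by
    ext w; rw [Scheme.Hom.comp_apply]; rfl
  have h2 : (⇑j.left ∘ ⇑(H.hom.fiberι s)) = ⇑(H.hom.fiberι s ≫ j.left) := by
    ext w; rw [Scheme.Hom.comp_apply]; rfl
  rw [h1, h2, h]

/-- (ii) ⇒ (iii) on one fibre. -/
theorem fibre_of_represents [LocallyOfFiniteType N.hom]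
    (hconn : ∀ s : S, _root_.IsConnected (H.hom.base ⁻¹' {s}))
    (j : H ⟶ N) [IsMonHom j] [Mono j.left]
    (hrep : ∀ (T : Over S) (g : T ⟶ N), Set.range g.left.base ⊆ SGA3x.neutralSet N →
      ∃ h : T ⟶ H, h ≫ j = g) (s : S) :
    IsOpenImmersion ((Over.pullback (S.fromSpecResidueField s)).map j).left ∧
      j.left.base '' (H.hom.base ⁻¹' {s}) = SGA3x.neutralSet N ∩ N.hom.base ⁻¹' {s} := by
  haveI : LocallyOfFiniteType (N.hom.fiberToSpecResidueField s) :=
    MorphismProperty.pullback_snd (P := @LocallyOfFiniteType) _ _ inferInstance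
  haveI : IsLocallyNoetherian (N.hom.fiber s) :=
    LocallyOfFiniteType.isLocallyNoetherian (N.hom.fiberToSpecResidueField s)
  have hCopen : IsOpen (connectedComponent (eptF N s)) :=
    Groth.Agent.Lib.Helper2.isOpen_connectedComponent_of_isLocallyNoetherian (N.hom.fiber s) _
  let T₀ : (N.hom.fiber s).Opens := ⟨connectedComponent (eptF N s), hCopen⟩
  let g₀ : (T₀ : Scheme.{u}) ⟶ N.left := T₀.ι ≫ N.hom.fiberι s
  let T : Over S := Over.mk (g₀ ≫ N.hom)
  let g : T ⟶ N := Over.homMk g₀ rfl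
  have hrange_g : Set.range g.left.base ⊆ SGA3x.neutralSet N := by
    rintro _ ⟨w, rfl⟩
    have hw : (T₀.ι w) ∈ connectedComponent (eptF N s) := w.2
    have := mem_neutralSet_of_mem (G := N) s hw
    show g₀ w ∈ _
    rw [Scheme.Hom.comp_apply]
    exact this
  obtain ⟨h, hh⟩ := hrep T g hrange_g
  have hh' : h.left ≫ j.left = g₀ := by
    rw [← Over.comp_left, hh]
    rfl
  -- the induced map to the fibre of `H`
  have hcond : h.left ≫ H.hom = (T₀.ι ≫ N.hom.fiberToSpecResidueField s) ≫ S.fromSpecResidueField s := by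
    rw [← Over.w j, ← Category.assoc, hh', Category.assoc, Category.assoc]
    congr 1
    exact pullback.condition
  let hs : (T₀ : Scheme.{u}) ⟶ H.hom.fiber s :=
    pullback.lift h.left (T₀.ι ≫ N.hom.fiberToSpecResidueField s) hcond
  have hs_fst : hs ≫ H.hom.fiberι s = h.left := pullback.lift_fst _ _ _
  have hs_snd : hs ≫ H.hom.fiberToSpecResidueField s = T₀.ι ≫ N.hom.fiberToSpecResidueField s :=
    pullback.lift_snd _ _ _
  have hmapF_snd : mapF j s ≫ N.hom.fiberToSpecResidueField s = H.hom.fiberToSpecResidueField s :=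
    pullback.lift_snd _ _ _
  have hcomp : hs ≫ mapF j s = T₀.ι := by
    apply pullback.hom_ext
    · show (hs ≫ mapF j s) ≫ N.hom.fiberι s = T₀.ι ≫ N.hom.fiberι s
      rw [Category.assoc, mapF_fiberι, ← Category.assoc, hs_fst, hh']
    · show (hs ≫ mapF j s) ≫ N.hom.fiberToSpecResidueField s = T₀.ι ≫ N.hom.fiberToSpecResidueField s
      rw [Category.assoc, hmapF_snd, hs_snd]
  -- the fibre of `H` maps into the neutral component
  haveI hcs : ConnectedSpace ↥(H.hom.fiber s) := by
    have h1 : ConnectedSpace ↥(H.hom ⁻¹' {s}) := isConnected_iff_connectedSpace.mp (hconn s)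
    exact (H.hom.fiberHomeo s).symm.surjective.connectedSpace (H.hom.fiberHomeo s).symm.continuous
  have hsub : Set.range (mapF j s) ⊆ Set.range T₀.ι := by
    rw [Scheme.Opens.range_ι]
    show Set.range (mapF j s) ⊆ connectedComponent (eptF N s)
    have hpre : _root_.IsPreconnected (Set.range (mapF j s)) :=
      isPreconnected_range (mapF j s).continuous
    refine hpre.subset_connectedComponent ⟨eptF H s, mapF_eptF j s⟩
  let k : H.hom.fiber s ⟶ (T₀ : Scheme.{u}) := IsOpenImmersion.lift T₀.ι (mapF j s) hsub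
  have hk : k ≫ T₀.ι = mapF j s := IsOpenImmersion.lift_fac _ _ _
  haveI hmono : Mono (mapF j s) := by
    have hpb := isPullback_mapGs j s
    exact (MorphismProperty.monomorphisms _).of_isPullback hpb.flip (MorphismProperty.monomorphisms.infer_property j.left)
  have h1 : hs ≫ k = 𝟙 _ := by
    rw [← cancel_mono T₀.ι, Category.assoc, hk, hcomp, Category.id_comp]
  have h2 : k ≫ hs = 𝟙 _ := by
    rw [← cancel_mono (mapF j s), Category.assoc, hcomp, hk, Category.id_comp]
  haveI : IsIso k := ⟨hs, h2, h1⟩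
  have hoi : IsOpenImmersion (mapF j s) := by
    rw [← hk]; infer_instance
  refine ⟨hoi, ?_⟩
  show j.left '' (H.hom ⁻¹' {s}) = SGA3x.neutralSet N ∩ N.hom ⁻¹' {s}
  rw [image_fibre_eq_range_mapF, neutralSet_inter_fibre]
  congr 1
  rw [← hk]
  show Set.range (⇑(k ≫ T₀.ι)) = _
  have : Set.range ⇑(k ≫ T₀.ι) = Set.range T₀.ι := by
    ext y
    constructor
    · rintro ⟨w, rfl⟩
      exact ⟨k w, (Scheme.Hom.comp_apply _ _ _).symm⟩
    · rintro ⟨w, rfl⟩
      refine ⟨(inv k) w, ?_⟩
      rw [Scheme.Hom.comp_apply, ← Scheme.Hom.comp_apply (inv k) k, IsIso.inv_hom_id]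
      rfl
  rw [this, Scheme.Opens.range_ι]
  rfl

theorem main [Flat H.hom] [LocallyOfFinitePresentation H.hom] [LocallyOfFiniteType N.hom]
    (hconn : ∀ s : S, _root_.IsConnected (H.hom.base ⁻¹' {s}))
    (j : H ⟶ N) [IsMonHom j] [Mono j.left] :
    (IsOpenImmersion j.left ↔
      ∀ (T : Over S) (g : T ⟶ N), (∃ h : T ⟶ H, h ≫ j = g) ↔ Set.range g.left.base ⊆ SGA3x.neutralSet N) ∧
    (IsOpenImmersion j.left ↔
      ∀ s : S, IsOpenImmersion ((Over.pullback (S.fromSpecResidueField s)).map j).left ∧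
        j.left.base '' (H.hom.base ⁻¹' {s}) = SGA3x.neutralSet N ∩ N.hom.base ⁻¹' {s}) := by
  have h31 : (∀ s : S, IsOpenImmersion ((Over.pullback (S.fromSpecResidueField s)).map j).left ∧
        j.left.base '' (H.hom.base ⁻¹' {s}) = SGA3x.neutralSet N ∩ N.hom.base ⁻¹' {s}) →
      IsOpenImmersion j.left := by
    intro h3
    have := (Groth.Agent.S5317.result S H N j).2 ⊤ (fun s _ => (h3 s).1)
    haveI : IsIso (H.hom ⁻¹ᵁ ⊤).ι := by
      change IsIso (⊤ : H.left.Opens).ι
      exact (inferInstance : IsIso H.left.topIso.hom)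
    have e : j.left = inv (H.hom ⁻¹ᵁ ⊤).ι ≫ ((H.hom ⁻¹ᵁ ⊤).ι ≫ j.left) := by
      rw [IsIso.inv_hom_id_assoc]
    rw [e]
    infer_instance
  have h13 : IsOpenImmersion j.left →
      ∀ s : S, IsOpenImmersion ((Over.pullback (S.fromSpecResidueField s)).map j).left ∧
        j.left.base '' (H.hom.base ⁻¹' {s}) = SGA3x.neutralSet N ∩ N.hom.base ⁻¹' {s} := by
    intro hoi s
    refine ⟨isOpenImmersion_mapGs j s, ?_⟩
    show j.left '' (H.hom ⁻¹' {s}) = SGA3x.neutralSet N ∩ N.hom ⁻¹' {s}
    rw [image_fibre, range_eq_neutralSet hconn j]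
  have h12 : IsOpenImmersion j.left →
      ∀ (T : Over S) (g : T ⟶ N), (∃ h : T ⟶ H, h ≫ j = g) ↔ Set.range g.left.base ⊆ SGA3x.neutralSet N := by
    intro hoi T g
    have hr := range_eq_neutralSet hconn j
    constructor
    · rintro ⟨h, rfl⟩
      rintro _ ⟨w, rfl⟩
      rw [← hr]
      exact ⟨h.left w, (Scheme.Hom.comp_apply _ _ _).symm⟩
    · intro hg
      have hsub : Set.range g.left ⊆ Set.range j.left := by rw [hr]; exact hg
      refine ⟨Over.homMk (IsOpenImmersion.lift j.left g.left hsub) ?_, ?_⟩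
      · rw [← Over.w j, ← Category.assoc, IsOpenImmersion.lift_fac, Over.w g]
      · ext1
        exact IsOpenImmersion.lift_fac _ _ _
  have h23 : (∀ (T : Over S) (g : T ⟶ N), (∃ h : T ⟶ H, h ≫ j = g) ↔ Set.range g.left.base ⊆ SGA3x.neutralSet N) →
      ∀ s : S, IsOpenImmersion ((Over.pullback (S.fromSpecResidueField s)).map j).left ∧
        j.left.base '' (H.hom.base ⁻¹' {s}) = SGA3x.neutralSet N ∩ N.hom.base ⁻¹' {s} := by
    intro h2 s
    exact fibre_of_represents hconn j (fun T g hg => (h2 T g).mpr hg) s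
  exact ⟨⟨h12, fun h2 => h31 (h23 h2)⟩, ⟨h13, h31⟩⟩

end Groth.Agent.Lib.Helper14.OpenNeutral
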