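import Groth.Agent.Lib.Helper14.HCart
import Groth.Agent.S7468

/-!
# ph / h sheaves and pairs of proper morphisms (helper14)

* `isPhCover_bool`: two proper morphisms which are jointly surjective form a ph covering.
* `isHCover_bool`: if moreover they are of finite presentation, an h covering.
* `isSheafFor_ofArrows_of_isPhCover`: ph sheaves on `Over S` and ph coverings.
* `cartesian_of_pairSheaf`: the categorical core of "sections on an abstract blow-up square form
  a cartesian square", for a presheaf with the sheaf property for jointly surjective pairs of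
  proper morphisms.
-/

set_option autoImplicit false
universe v u

open CategoryTheory CategoryTheory.Limits AlgebraicGeometry Opposite HTop

namespace Groth.Agent.Lib.Helper14.PhCart

/-- The copairing of two proper morphisms is proper. -/
theorem isProper_coprodDesc {T₁ T₂ S : Scheme.{u}} (a : T₁ ⟶ S) (b : T₂ ⟶ S) [IsProper a]
    [IsProper b] : IsProper (coprod.desc a b) := by
  have h1 : IsProper (coprod.map a b) :=
    IsZariskiLocalAtTarget.coprodMap (P := @IsProper) a b inferInstance inferInstance
  have h2 : IsFinite (coprod.desc (𝟙 S) (𝟙 S)) := inferInstance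
  have h3 : coprod.desc a b = coprod.map a b ≫ coprod.desc (𝟙 S) (𝟙 S) := by
    rw [coprod.map_desc, Category.comp_id, Category.comp_id]
  rw [h3]
  infer_instance

/-- Two proper morphisms which are jointly surjective form a ph covering. -/
theorem isPhCover_bool {T : Scheme.{u}} (X : Bool → Scheme.{u}) (f : ∀ k, X k ⟶ T)
    (hp : ∀ k, IsProper (f k)) (hsurj : ∀ t : T, ∃ k, t ∈ Set.range (f k)) :
    IsPhCover ({ I₀ := Bool, X := X, f := f } : PreZeroHypercover.{0} T) := by
  refine ⟨fun k => ?_, fun U => ?_⟩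
  · have := hp k
    show LocallyOfFiniteType (f k)
    infer_instance
  have hUaff : IsAffine ((U : T.Opens) : Scheme.{u}) := U.2
  have hpr : ∀ k, IsProper (f k ∣_ (U : T.Opens)) := fun k => by
    have := hp k
    infer_instance
  have hc : ∀ k, CompactSpace ((f k ⁻¹ᵁ (U : T.Opens) : (X k).Opens) : Scheme.{u}) := fun k => by
    have := hpr k
    exact QuasiCompact.compactSpace_of_compactSpace (f k ∣_ (U : T.Opens))
  -- the coproduct of the two restrictions
  let A : Bool → Scheme.{u} := fun k => ((f k ⁻¹ᵁ (U : T.Opens) : (X k).Opens) : Scheme.{u})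
  let P : Scheme.{u} := A true ⨿ A false
  have hpt := hpr true
  have hpf := hpr false
  let p : P ⟶ ((U : T.Opens) : Scheme.{u}) :=
    coprod.desc (f true ∣_ (U : T.Opens)) (f false ∣_ (U : T.Opens))
  have hpp : IsProper p := isProper_coprodDesc _ _
  let inc : ∀ k, A k ⟶ P := fun k => match k with
    | true => coprod.inl
    | false => coprod.inr
  have hinc : ∀ k, IsOpenImmersion (inc k) := by
    rintro (_ | _)
    · show IsOpenImmersion (coprod.inr : A false ⟶ A true ⨿ A false)
      infer_instance
    · show IsOpenImmersion (coprod.inl : A true ⟶ A true ⨿ A false)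
      infer_instance
  have hincp : ∀ k, inc k ≫ p = f k ∣_ (U : T.Opens) := by
    rintro (_ | _)
    · exact coprod.inr_desc _ _
    · exact coprod.inl_desc _ _
  have hcovP : ∀ x : P, ∃ k, x ∈ Set.range (inc k) := by
    intro x
    have h1 := (isCompl_range_inl_inr (A true) (A false)).codisjoint
    rw [codisjoint_iff] at h1
    have hx : x ∈ Set.range (coprod.inl : A true ⟶ A true ⨿ A false) ⊔
        Set.range (coprod.inr : A false ⟶ A true ⨿ A false) := by
      rw [h1]; trivial
    rcases hx with hx | hx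
    · exact ⟨true, hx⟩
    · exact ⟨false, hx⟩
  have hps : Surjective p := by
    refine ⟨fun u => ?_⟩
    obtain ⟨k, x, hx⟩ := hsurj ((U : T.Opens).ι u)
    have hxU : x ∈ f k ⁻¹ᵁ (U : T.Opens) := by
      show f k x ∈ (U : T.Opens)
      rw [hx]
      exact u.2
    let y : A k := ⟨x, hxU⟩
    refine ⟨inc k y, ?_⟩
    apply (U : T.Opens).ι.isOpenEmbedding.injective
    have h2 : (inc k ≫ p ≫ (U : T.Opens).ι) y = (U : T.Opens).ι u := by
      rw [← Category.assoc, hincp, morphismRestrict_ι]
      exact hx
    exact h2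
  -- finite affine covers of the two pieces
  let 𝒱 : ∀ k, (A k).OpenCover := fun k => (A k).affineCover.finiteSubcover
  have h𝒱fin : ∀ k, Finite (𝒱 k).I₀ := fun k => inferInstance
  let J := Σ k : Bool, (𝒱 k).I₀
  have hJ : Finite J := inferInstance
  let e : Fin (Nat.card J) ≃ J := (Finite.equivFin J).symm
  let G : PreZeroHypercover.{0} ((U : T.Opens) : Scheme.{u}) :=
    { I₀ := Fin (Nat.card J)
      X := fun j => (𝒱 (e j).1).X (e j).2
      f := fun j => (𝒱 (e j).1).f (e j).2 ≫ (f (e j).1 ∣_ (U : T.Opens)) }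
  have hGph : IsStandardPh G := by
    refine ⟨hUaff, inferInstanceAs (Finite (Fin _)), fun j => ?_, ?_⟩
    · show IsAffine ((𝒱 (e j).1).X (e j).2)
      dsimp [𝒱]
      infer_instance
    · refine ⟨P, p, fun j => (𝒱 (e j).1).f (e j).2 ≫ inc (e j).1, hpp, hps, fun j => ?_,
        fun j => ?_, fun x => ?_⟩
      · have := hinc (e j).1
        infer_instance
      · show ((𝒱 (e j).1).f (e j).2 ≫ inc (e j).1) ≫ p =
          (𝒱 (e j).1).f (e j).2 ≫ (f (e j).1 ∣_ (U : T.Opens))
        rw [Category.assoc, hincp]
      · obtain ⟨k, y, rfl⟩ := hcovP x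
        obtain ⟨i, z, hz⟩ := (𝒱 k).exists_eq y
        obtain ⟨j, hj⟩ := e.surjective ⟨k, i⟩
        refine ⟨j, ?_⟩
        show inc k y ∈ Set.range ((𝒱 (e j).1).f (e j).2 ≫ inc (e j).1)
        rw [hj]
        exact ⟨z, by rw [Scheme.Hom.comp_apply, hz]⟩
  refine ⟨G, hGph, fun j => ⟨(e j).1, (𝒱 (e j).1).f (e j).2 ≫
    (f (e j).1 ⁻¹ᵁ (U : T.Opens) : (X (e j).1).Opens).ι, ?_⟩⟩
  show ((𝒱 (e j).1).f (e j).2 ≫ (f (e j).1 ⁻¹ᵁ (U : T.Opens) : (X (e j).1).Opens).ι) ≫
      f (e j).1 =
    ((𝒱 (e j).1).f (e j).2 ≫ (f (e j).1 ∣_ (U : T.Opens))) ≫ (U : T.Opens).ι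
  rw [Category.assoc, Category.assoc, morphismRestrict_ι]

/-- A ph covering is a V covering. -/
theorem isVCover_of_isPhCover {T : Scheme.{u}} (E : PreZeroHypercover.{0} T) (hE : IsPhCover E) :
    IsVCover E := by
  intro U
  obtain ⟨G, hG, hGE⟩ := hE.2 U
  exact ⟨G, Groth.Agent.S7468.result G hG, hGE⟩

/-- Two proper morphisms of finite presentation which are jointly surjective form an
h covering. -/
theorem isHCover_bool {T : Scheme.{u}} (X : Bool → Scheme.{u}) (f : ∀ k, X k ⟶ T)
    (hp : ∀ k, IsProper (f k)) (hfp : ∀ k, LocallyOfFinitePresentation (f k))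
    (hsurj : ∀ t : T, ∃ k, t ∈ Set.range (f k)) :
    IsHCover ({ I₀ := Bool, X := X, f := f } : PreZeroHypercover.{0} T) :=
  ⟨hfp, isVCover_of_isPhCover _ (isPhCover_bool X f hp hsurj)⟩

/-- A ph sheaf has the sheaf property for families lying over ph coverings. -/
theorem isSheafFor_ofArrows_of_isPhCover (S : Scheme.{u}) (F : HTop.ShPh S) {W : Over S}
    {ι : Type} (Y : ι → Over S) (g : ∀ i, Y i ⟶ W)
    (h : IsPhCover ({ I₀ := ι, X := fun i => (Y i).left, f := fun i => (g i).left } :
      PreZeroHypercover.{0} W.left)) :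
    Presieve.IsSheafFor F.obj (Presieve.ofArrows Y g) := by
  have hmem : Presieve.ofArrows (fun i => (Y i).left) (fun i => (g i).left) ∈
      HTop.phPrecoverage W.left :=
    (HTop.presieve₀_mem_phPrecoverage_iff _).mpr h
  have hgen : Sieve.generate (Presieve.ofArrows Y g) ∈ (HTop.Jph S) W := by
    rw [GrothendieckTopology.mem_over_iff]
    have h1 : Sieve.generate (Presieve.ofArrows Y g) = Sieve.ofArrows Y g := rfl
    rw [h1, Sieve.overEquiv_ofArrows]
    exact Precoverage.generate_mem_toGrothendieck hmem
  exact (Presieve.isSheafFor_iff_generate _).mpr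
    ((isSheaf_iff_isSheaf_of_type _ _).mp F.property _ hgen)

/-- The categorical core of "an abstract blow-up square gives a cartesian square of sections":
`P` is a presheaf with the sheaf property for jointly surjective pairs of proper morphisms
satisfying an auxiliary property `Q`. -/
theorem cartesian_of_pairSheaf {S : Scheme.{u}} (P : (Over S)ᵒᵖ ⥤ Type v)
    (Q : MorphismProperty Scheme.{u})
    (hP : ∀ {W : Over S} (Y : Bool → Over S) (g : ∀ k, Y k ⟶ W),
      (∀ k, IsProper (g k).left) → (∀ k, Q (g k).left) →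
      (∀ w : W.left, ∃ k, w ∈ Set.range (g k).left) →
      Presieve.IsSheafFor P (Presieve.ofArrows Y g))
    {E Z X' X : Over S} (e : E ⟶ X') (π : E ⟶ Z) (b : X' ⟶ X) (i : Z ⟶ X)
    [IsProper b.left] [IsClosedImmersion i.left]
    (hQb : Q b.left) (hQi : Q i.left) (hQΔ : Q (pullback.diagonal b.left))
    (hQj : Q (pullback.fst (pullback.fst b.left b.left ≫ b.left) i.left))
    (hsq : IsPullback e.left π.left b.left i.left)
    (U : X.left.Opens) (hU : (U : Set X.left) = (Set.range i.left)ᶜ)
    (hiso : IsIso (b.left ∣_ U))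
    (t : P.obj (op Z)) (s' : P.obj (op X')) (hts : P.map π.op t = P.map e.op s') :
    ∃! s : P.obj (op X), P.map i.op s = t ∧ P.map b.op s = s' := by
  -- the self fibre product of `X'` over `X`, as an object over `S`
  have hXY : b.left ≫ X.hom = X'.hom := Over.w b
  let W : Over S := Over.mk (pullback.fst b.left b.left ≫ X'.hom)
  let p₁ : W ⟶ X' := Over.homMk (pullback.fst b.left b.left) rfl
  let p₂ : W ⟶ X' := Over.homMk (pullback.snd b.left b.left) (by
    show pullback.snd b.left b.left ≫ X'.hom = pullback.fst b.left b.left ≫ X'.hom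
    rw [← hXY, ← Category.assoc, ← pullback.condition, Category.assoc])
  let q : W.left ⟶ X.left := pullback.fst b.left b.left ≫ b.left
  let WZ : Over S := Over.mk (pullback.fst q i.left ≫ W.hom)
  let j : WZ ⟶ W := Over.homMk (pullback.fst q i.left) rfl
  let Δ : X' ⟶ W := Over.homMk (pullback.diagonal b.left) (by
    show pullback.diagonal b.left ≫ (pullback.fst b.left b.left ≫ X'.hom) = X'.hom
    rw [← Category.assoc, pullback.diagonal_fst, Category.id_comp])
  have hΔ₁ : Δ ≫ p₁ = 𝟙 X' := by
    apply Over.OverMorphism.ext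
    exact pullback.diagonal_fst b.left
  have hΔ₂ : Δ ≫ p₂ = 𝟙 X' := by
    apply Over.OverMorphism.ext
    exact pullback.diagonal_snd b.left
  -- the two maps from `W ×_X Z` to `E`
  have hcond : pullback.fst q i.left ≫ pullback.fst b.left b.left ≫ b.left =
      pullback.snd q i.left ≫ i.left := pullback.condition
  have hcond₂ : (pullback.fst q i.left ≫ pullback.snd b.left b.left) ≫ b.left =
      pullback.snd q i.left ≫ i.left := by
    rw [Category.assoc, ← pullback.condition, hcond]
  have hEhom : e.left ≫ X'.hom = E.hom := Over.w e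
  let r₁ : WZ ⟶ E := Over.homMk
    (hsq.lift (pullback.fst q i.left ≫ pullback.fst b.left b.left) (pullback.snd q i.left)
      (by rw [Category.assoc]; exact hcond)) (by
    show _ ≫ E.hom = pullback.fst q i.left ≫ pullback.fst b.left b.left ≫ X'.hom
    rw [← hEhom, ← Category.assoc, hsq.lift_fst, Category.assoc])
  let r₂ : WZ ⟶ E := Over.homMk
    (hsq.lift (pullback.fst q i.left ≫ pullback.snd b.left b.left) (pullback.snd q i.left)
      hcond₂) (by
    show _ ≫ E.hom = pullback.fst q i.left ≫ pullback.fst b.left b.left ≫ X'.hom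
    rw [← hEhom, ← Category.assoc, hsq.lift_fst, Category.assoc, ← hXY, ← Category.assoc,
      ← Category.assoc, ← Category.assoc, Category.assoc (pullback.fst q i.left),
      ← pullback.condition, Category.assoc, Category.assoc, Category.assoc])
  have hr₁e : r₁ ≫ e = j ≫ p₁ := by
    apply Over.OverMorphism.ext
    exact hsq.lift_fst _ _ _
  have hr₂e : r₂ ≫ e = j ≫ p₂ := by
    apply Over.OverMorphism.ext
    exact hsq.lift_fst _ _ _
  have hr₁₂π : r₁ ≫ π = r₂ ≫ π := by
    apply Over.OverMorphism.ext
    show hsq.lift _ _ _ ≫ π.left = hsq.lift _ _ _ ≫ π.left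
    rw [hsq.lift_snd, hsq.lift_snd]
  -- the covering of `W` by the diagonal and the part over `Z`
  let Yc : Bool → Over S := fun k => cond k X' WZ
  let gc : ∀ k, Yc k ⟶ W := fun k => match k with
    | true => Δ
    | false => j
  have hsep : IsSeparated b.left := inferInstance
  have hWsheaf : Presieve.IsSheafFor P (Presieve.ofArrows Yc gc) := by
    refine hP Yc gc ?_ ?_ ?_
    · rintro (_ | _)
      · show IsProper (pullback.fst q i.left)
        infer_instance
      · show IsProper (pullback.diagonal b.left)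
        infer_instance
    · rintro (_ | _)
      · exact hQj
      · exact hQΔ
    · intro w
      rcases HCart.mem_range_diagonal_or b.left i.left U hU hiso w with h | h
      · exact ⟨true, h⟩
      · exact ⟨false, h⟩
  have hW := hWsheaf.isSeparatedFor
  have hp : P.map p₁.op s' = P.map p₂.op s' := by
    refine hW.ext ?_
    rintro _ _ ⟨k⟩
    cases k
    · show P.map j.op (P.map p₁.op s') = P.map j.op (P.map p₂.op s')
      rw [← Functor.map_comp_apply, ← Functor.map_comp_apply, ← op_comp, ← op_comp,
        ← hr₁e, ← hr₂e, op_comp, op_comp, Functor.map_comp_apply,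
        Functor.map_comp_apply, ← hts, ← Functor.map_comp_apply,
        ← Functor.map_comp_apply, ← op_comp, ← op_comp, hr₁₂π]
    · show P.map Δ.op (P.map p₁.op s') = P.map Δ.op (P.map p₂.op s')
      rw [← Functor.map_comp_apply, ← Functor.map_comp_apply, ← op_comp, ← op_comp,
        hΔ₁, hΔ₂]
  have hcompat : ∀ {T : Over S} (a c : T ⟶ X'), a ≫ b = c ≫ b →
      P.map a.op s' = P.map c.op s' := by
    intro T a c hac
    have hac' : a.left ≫ b.left = c.left ≫ b.left := by
      have := congrArg CommaMorphism.left hac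
      exact this
    let d : T ⟶ W := Over.homMk (pullback.lift a.left c.left hac') (by
      show pullback.lift a.left c.left hac' ≫ pullback.fst b.left b.left ≫ X'.hom = T.hom
      rw [← Category.assoc, pullback.lift_fst]
      exact Over.w a)
    have hd₁ : d ≫ p₁ = a := by
      apply Over.OverMorphism.ext
      exact pullback.lift_fst _ _ _
    have hd₂ : d ≫ p₂ = c := by
      apply Over.OverMorphism.ext
      exact pullback.lift_snd _ _ _
    rw [← hd₁, ← hd₂, op_comp, op_comp, Functor.map_comp_apply,
      Functor.map_comp_apply, hp]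
  have hcompat₂ : ∀ {T : Over S} (a : T ⟶ X') (c : T ⟶ Z), a ≫ b = c ≫ i →
      P.map a.op s' = P.map c.op t := by
    intro T a c hac
    have hac' : a.left ≫ b.left = c.left ≫ i.left := by
      have := congrArg CommaMorphism.left hac
      exact this
    let l : T ⟶ E := Over.homMk (hsq.lift a.left c.left hac') (by
      show hsq.lift a.left c.left hac' ≫ E.hom = T.hom
      rw [← hEhom, ← Category.assoc, hsq.lift_fst]
      exact Over.w a)
    have hl₁ : l ≫ e = a := by
      apply Over.OverMorphism.ext
      exact hsq.lift_fst _ _ _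
    have hl₂ : l ≫ π = c := by
      apply Over.OverMorphism.ext
      exact hsq.lift_snd _ _ _
    rw [← hl₁, ← hl₂, op_comp, op_comp, Functor.map_comp_apply,
      Functor.map_comp_apply, hts]
  have hmono : Mono i := by
    have : Mono i.left := inferInstance
    exact (Over.forget S).mono_of_mono_map this
  -- the covering of `X` by `X'` and `Z`
  let Yx : Bool → Over S := fun k => cond k X' Z
  let gx : ∀ k, Yx k ⟶ X := fun k => match k with
    | true => b
    | false => i
  have hXsheaf : Presieve.IsSheafFor P (Presieve.ofArrows Yx gx) := by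
    refine hP Yx gx ?_ ?_ ?_
    · rintro (_ | _)
      · show IsProper i.left
        infer_instance
      · show IsProper b.left
        infer_instance
    · rintro (_ | _)
      · exact hQi
      · exact hQb
    · intro x
      by_cases hx : x ∈ Set.range i.left
      · exact ⟨false, hx⟩
      · refine ⟨true, ?_⟩
        have hxU : x ∈ (U : Set X.left) := by rw [hU]; exact hx
        let y := (inv (b.left ∣_ U)) ⟨x, hxU⟩
        have hy : (b.left ∣_ U) y = ⟨x, hxU⟩ := by
          show (inv (b.left ∣_ U) ≫ (b.left ∣_ U)) ⟨x, hxU⟩ = ⟨x, hxU⟩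
          rw [IsIso.inv_hom_id]
          rfl
        refine ⟨(b.left ⁻¹ᵁ U).ι y, ?_⟩
        show ((b.left ⁻¹ᵁ U).ι ≫ b.left) y = x
        rw [← morphismRestrict_ι, Scheme.Hom.comp_apply, hy]
        rfl
  rw [Presieve.isSheafFor_arrows_iff] at hXsheaf
  let xs : ∀ k, P.obj (op (Yx k)) := fun k => match k with
    | true => s'
    | false => t
  have hxs : Presieve.Arrows.Compatible P gx xs := by
    intro k₁ k₂ T a c hac
    cases k₁ <;> cases k₂
    · -- `Z`, `Z`
      have a' : T ⟶ Z := a
      have hac' : (a : T ⟶ Z) ≫ i = (c : T ⟶ Z) ≫ i := hac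
      have : (a : T ⟶ Z) = c := (cancel_mono i).mp hac'
      show P.map (a : T ⟶ Z).op t = P.map (c : T ⟶ Z).op t
      rw [this]
    · -- `Z`, `X'`
      have hac' : (c : T ⟶ X') ≫ b = (a : T ⟶ Z) ≫ i := hac.symm
      exact (hcompat₂ (c : T ⟶ X') (a : T ⟶ Z) hac').symm
    · have hac' : (a : T ⟶ X') ≫ b = (c : T ⟶ Z) ≫ i := hac
      exact hcompat₂ (a : T ⟶ X') (c : T ⟶ Z) hac'
    · have hac' : (a : T ⟶ X') ≫ b = (c : T ⟶ X') ≫ b := hac
      exact hcompat (a : T ⟶ X') (c : T ⟶ X') hac'
  obtain ⟨s, hs, hsuniq⟩ := hXsheaf xs hxs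
  refine ⟨s, ⟨hs false, hs true⟩, fun s₂ hs₂ => hsuniq s₂ ?_⟩
  rintro (_ | _)
  · exact hs₂.1
  · exact hs₂.2

end Groth.Agent.Lib.Helper14.PhCart
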