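import Mathlib
import Groth.Agent.Lib.Helper13.LimDescent7
import Groth.Agent.Lib.Helper14.ConsProper

/-!
# Properness descends through cofiltered limits (helper14)

Stacks 081F, modulo Chow's lemma over a quasi-compact quasi-separated base (`ChowQcqs`, the
statement of S7409).
-/

set_option autoImplicit false
universe u

open CategoryTheory Limits AlgebraicGeometry TopologicalSpace

namespace Groth.Agent.Lib.Helper14.ProperLim

open Groth.Agent.Lib.Helper13.LimDescent

/-- Chow's lemma over a quasi-compact quasi-separated base (the statement of S7409). -/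
def ChowQcqs : Prop :=
  ∀ {X S : Scheme.{u}} (f : X ⟶ S) [CompactSpace S] [QuasiSeparatedSpace S]
    [IsSeparated f] [LocallyOfFiniteType f] [QuasiCompact f],
    ∃ (n : ℕ) (X' : Scheme.{u}) (π : X' ⟶ X) (j : X' ⟶ CohB1.ProjSpaceOver n S),
      IsImmersion j ∧ j ≫ CohB1.ProjSpaceOver.toBase n S = π ≫ f ∧ IsProper π ∧ Surjective π

variable {J : Type u} [SmallCategory J] (E : J ⥤ Scheme.{u}) (cE : Cone E) (j₀ : J)
  {X₀ : Scheme.{u}}
variable [hE : ∀ {i j : J} (f : i ⟶ j), IsAffineHom (E.map f)]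

set_option backward.isDefEq.respectTransparency false in
/-- **Descent of properness** (one-step form). -/
theorem exists_isProper_pullback_fst (chow : ChowQcqs.{u}) [IsCofiltered J] (hcE : IsLimit cE)
    [CompactSpace (E.obj j₀)] [QuasiSeparatedSpace (E.obj j₀)] [CompactSpace X₀]
    [QuasiSeparatedSpace X₀] (f₀ : X₀ ⟶ E.obj j₀) [LocallyOfFiniteType f₀]
    (h : IsProper (pullback.fst (cE.π.app j₀) f₀)) :
    ∃ k : Over j₀, IsProper (pullback.fst (E.map k.hom) f₀) := by
  obtain ⟨k₁, hk₁⟩ := exists_isSeparated_pullback_fst E cE j₀ hcE f₀ inferInstance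
  have hc1 : CompactSpace (E.obj k₁.left) :=
    QuasiCompact.compactSpace_of_compactSpace (E.map k₁.hom)
  have hq1 : QuasiSeparatedSpace (E.obj k₁.left) :=
    quasiSeparatedSpace_of_quasiSeparated (E.map k₁.hom)
  obtain ⟨f₁, hf₁⟩ : ∃ f₁ : pullback (E.map k₁.hom) f₀ ⟶ E.obj k₁.left,
      f₁ = pullback.fst (E.map k₁.hom) f₀ := ⟨_, rfl⟩
  have hsep : IsSeparated f₁ := hf₁ ▸ hk₁
  have hlft : LocallyOfFiniteType f₁ := by rw [hf₁]; infer_instance
  have hqc : QuasiCompact f₁ := by rw [hf₁]; infer_instance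
  have hcX1 : CompactSpace ↥(pullback (E.map k₁.hom) f₀) :=
    QuasiCompact.compactSpace_of_compactSpace f₁
  have hqX1 : QuasiSeparatedSpace ↥(pullback (E.map k₁.hom) f₀) :=
    quasiSeparatedSpace_of_quasiSeparated f₁
  obtain ⟨n, X', π, j, hj, hw, hπ, hπs⟩ := chow f₁
  obtain ⟨p, hp⟩ : ∃ p : CohB1.ProjSpaceOver n (E.obj k₁.left) ⟶ E.obj k₁.left,
      p = CohB1.ProjSpaceOver.toBase n (E.obj k₁.left) := ⟨_, rfl⟩
  rw [← hp] at hw
  have hpp : IsProper p := hp ▸ Groth.Agent.Lib.Helper17.ProjSpaceProper.isProper_toBase n _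
  have hcP : CompactSpace ↥(CohB1.ProjSpaceOver n (E.obj k₁.left)) :=
    QuasiCompact.compactSpace_of_compactSpace p
  have hqP : QuasiSeparatedSpace ↥(CohB1.ProjSpaceOver n (E.obj k₁.left)) :=
    quasiSeparatedSpace_of_quasiSeparated p
  have hcX' : CompactSpace ↥X' := QuasiCompact.compactSpace_of_compactSpace π
  have hqX' : QuasiSeparatedSpace ↥X' := quasiSeparatedSpace_of_quasiSeparated π
  have hjlft : LocallyOfFiniteType j := by
    have : LocallyOfFiniteType (j ≫ p) := by rw [hw]; infer_instance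
    exact locallyOfFiniteType_of_comp j p
  -- properness at the limit, rebased at `k₁`
  have hinf : IsProper (pullback.fst (cE.π.app k₁.left) f₁) := by
    rw [hf₁]
    exact (rebase_limit_iff E cE j₀ f₀ @IsProper k₁).mpr h
  have key : ∀ {T : Scheme.{u}} (b : T ⟶ E.obj k₁.left),
      IsProper (pullback.fst b f₁) ↔
        IsClosed (Set.range (pullback.fst (pullback.snd b p) j)) :=
    fun b => Groth.Agent.Lib.Helper14.ConsProper.isProper_iff_isClosed_range_of_chow f₁ π j p hw
      (IsPullback.of_hasPullback b f₁).flip (IsPullback.of_hasPullback b p).flip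
      (IsPullback.of_hasPullback (pullback.snd b p) j).flip
  have hciinf : IsClosedImmersion (pullback.fst (pullback.snd (cE.π.app k₁.left) p) j) :=
    IsClosedImmersion.of_isPreimmersion _ ((key _).mp hinf)
  obtain ⟨k, hk⟩ := relStep E cE k₁.left j p @IsClosedImmersion (fun f₀' hf₀' hP => by
    have : LocallyOfFiniteType f₀' := by
      rw [hf₀']; exact (liftTop_prop_iff E k₁.left j p @LocallyOfFiniteType).mpr hjlft
    exact exists_isClosedImmersion_pullback_fst (sys E k₁.left p) (sysCone E cE k₁.left p)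
      (top k₁.left) (isLimitSysCone E cE k₁.left p hcE) f₀' hP) hciinf
  have hprop : IsProper (pullback.fst (E.map k.hom) f₁) :=
    (key _).mpr
      (Scheme.Hom.isClosedEmbedding (pullback.fst (pullback.snd (E.map k.hom) p) j)).isClosed_range
  refine ⟨Over.mk (k.hom ≫ k₁.hom), ?_⟩
  rw [hf₁] at hprop
  exact (rebase_stage_iff E j₀ f₀ @IsProper k₁ k).mp hprop

end Groth.Agent.Lib.Helper14.ProperLim
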