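import Mathlib
import Groth.Agent.Lib.Helper14.ProperLim
import Groth.Agent.S0594

/-!
# Properness descends through limits with closed-immersion transitions (helper14)

Stacks 09ZR-type statement: if `X = lim X_i` is a directed limit of closed subschemes `X_i` of a
scheme `Y` separated and of finite type over a qcqs base `S`, and `X → S` is proper, then some
`X_i → S` is proper.  Modulo Chow's lemma (`ChowQcqs`, the statement of S7409).
-/

set_option autoImplicit false
universe u

open CategoryTheory Limits AlgebraicGeometry TopologicalSpace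

namespace Groth.Agent.Lib.Helper14.ProperLim

/-- Auxiliary: a proper immersion is a closed immersion. -/
theorem isClosedImmersion_of_isImmersion_of_isProper {A B : Scheme.{u}} (m : A ⟶ B)
    (h1 : IsImmersion m) (h2 : IsProper m) : IsClosedImmersion m :=
  IsClosedImmersion.of_isPreimmersion m m.isClosedMap.isClosed_range

set_option backward.isDefEq.respectTransparency false in
/-- Closed-transition descent of properness. -/
theorem exists_isProper_of_closed_transitions (chow : ChowQcqs.{u})
    {I : Type u} [Preorder I] [IsDirected I (· ≤ ·)] [Nonempty I]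
    {Y S : Scheme.{u}} [CompactSpace S] [QuasiSeparatedSpace S] (g : Y ⟶ S) [IsSeparated g]
    [LocallyOfFiniteType g] [QuasiCompact g]
    (D : Iᵒᵖ ⥤ Over Y) (c : Cone D) (hc : IsLimit c)
    (hD : ∀ i, IsClosedImmersion (D.obj i).hom)
    (hcl : IsClosedImmersion c.pt.hom) (hX : IsProper (c.pt.hom ≫ g)) :
    ∃ i₁ : Iᵒᵖ, IsProper ((D.obj i₁).hom ≫ g) := by
  have hcY : CompactSpace Y := QuasiCompact.compactSpace_of_compactSpace g
  have hqY : QuasiSeparatedSpace Y := quasiSeparatedSpace_of_quasiSeparated g
  obtain ⟨n, Y', π, j', hj', hw, hπ, hπs⟩ := chow g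
  obtain ⟨q, hq⟩ : ∃ q : CohB1.ProjSpaceOver n S ⟶ S,
      q = CohB1.ProjSpaceOver.toBase n S := ⟨_, rfl⟩
  rw [← hq] at hw
  have hqp : IsProper q := hq ▸ Groth.Agent.Lib.Helper17.ProjSpaceProper.isProper_toBase n S
  have hcP : CompactSpace ↥(CohB1.ProjSpaceOver n S) :=
    QuasiCompact.compactSpace_of_compactSpace q
  have hqP : QuasiSeparatedSpace ↥(CohB1.ProjSpaceOver n S) :=
    quasiSeparatedSpace_of_quasiSeparated q
  have hcY' : CompactSpace Y' := QuasiCompact.compactSpace_of_compactSpace π
  have hqY' : QuasiSeparatedSpace Y' := quasiSeparatedSpace_of_quasiSeparated π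
  have hfilt : IsFiltered I := isFiltered_of_directed_le_nonempty I
  have hconn : IsConnected Iᵒᵖ := IsCofiltered.isConnected _
  -- the pulled back system
  let D' : Iᵒᵖ ⥤ Scheme.{u} := D ⋙ Over.pullback π ⋙ Over.forget Y'
  have hsnd : ∀ A : Over Y, IsClosedImmersion A.hom →
      IsClosedImmersion ((Over.pullback π).obj A).hom := by
    intro A hA
    change IsClosedImmersion (pullback.snd A.hom π)
    infer_instance
  let t : D' ⟶ (Functor.const Iᵒᵖ).obj (CohB1.ProjSpaceOver n S) :=
    { app := fun i => ((Over.pullback π).obj (D.obj i)).hom ≫ j'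
      naturality := by
        intro i k a
        change ((Over.pullback π).map (D.map a)).left ≫
          ((Over.pullback π).obj (D.obj k)).hom ≫ j' =
          (((Over.pullback π).obj (D.obj i)).hom ≫ j') ≫ 𝟙 _
        rw [Category.comp_id, ← Category.assoc, Over.w] }
  let c' : Cone D' := (Over.forget Y').mapCone ((Over.pullback π).mapCone c)
  have hc' : IsLimit c' :=
    isLimitOfPreserves (Over.forget Y') (isLimitOfPreserves (Over.pullback π) hc)
  have hD'map : ∀ (i k : Iᵒᵖ) (a : i ⟶ k), IsClosedImmersion (D'.map a) := by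
    intro i k a
    have h1 : IsClosedImmersion ((Over.pullback π).obj (D.obj k)).hom := hsnd _ (hD k)
    have h2 : IsClosedImmersion (D'.map a ≫ ((Over.pullback π).obj (D.obj k)).hom) := by
      have : D'.map a ≫ ((Over.pullback π).obj (D.obj k)).hom =
          ((Over.pullback π).obj (D.obj i)).hom := Over.w ((Over.pullback π).map (D.map a))
      rw [this]
      exact hsnd _ (hD i)
    exact IsClosedImmersion.of_comp _ ((Over.pullback π).obj (D.obj k)).hom
  have hD'c : ∀ i, CompactSpace (D'.obj i) := by
    intro i
    have h1 : IsClosedImmersion ((Over.pullback π).obj (D.obj i)).hom := hsnd _ (hD i)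
    exact QuasiCompact.compactSpace_of_compactSpace ((Over.pullback π).obj (D.obj i)).hom
  have hD'q : ∀ i, QuasiSeparatedSpace (D'.obj i) := by
    intro i
    have h1 : IsClosedImmersion ((Over.pullback π).obj (D.obj i)).hom := hsnd _ (hD i)
    exact quasiSeparatedSpace_of_quasiSeparated ((Over.pullback π).obj (D.obj i)).hom
  have hD't : ∀ i, LocallyOfFiniteType (t.app i) := by
    intro i
    have h1 : IsClosedImmersion ((Over.pullback π).obj (D.obj i)).hom := hsnd _ (hD i)
    change LocallyOfFiniteType (((Over.pullback π).obj (D.obj i)).hom ≫ j')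
    infer_instance
  obtain ⟨i₀⟩ : Nonempty Iᵒᵖ := inferInstance
  have hpt : IsClosedImmersion (c'.π.app i₀ ≫ t.app i₀) := by
    have e1 : c'.π.app i₀ ≫ t.app i₀ = pullback.snd c.pt.hom π ≫ j' := by
      change ((Over.pullback π).map (c.π.app i₀)).left ≫
        ((Over.pullback π).obj (D.obj i₀)).hom ≫ j' = _
      rw [← Category.assoc, Over.w]
      rfl
    rw [e1]
    apply isClosedImmersion_of_isImmersion_of_isProper
    · infer_instance
    · have hcomp : IsProper ((pullback.snd c.pt.hom π ≫ j') ≫ q) := by
        have e2 : (pullback.snd c.pt.hom π ≫ j') ≫ q =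
            pullback.fst c.pt.hom π ≫ (c.pt.hom ≫ g) := by
          rw [Category.assoc, hw, ← Category.assoc, ← pullback.condition, Category.assoc]
        rw [e2]
        infer_instance
      exact IsProper.of_comp _ q
  obtain ⟨i₁, hi₁⟩ := Groth.Agent.S0594.result (CohB1.ProjSpaceOver n S) D' t c' hc' i₀
  refine ⟨i₁, ?_⟩
  have hsep : IsSeparated ((D.obj i₁).hom ≫ g) := by
    have := hD i₁
    infer_instance
  have hft : LocallyOfFiniteType ((D.obj i₁).hom ≫ g) := by
    have := hD i₁
    infer_instance
  have hqc : QuasiCompact ((D.obj i₁).hom ≫ g) := by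
    have := hD i₁
    infer_instance
  have huc : UniversallyClosed ((D.obj i₁).hom ≫ g) := by
    have hsurj : Surjective (pullback.fst (D.obj i₁).hom π) := inferInstance
    have hprop : IsProper (pullback.fst (D.obj i₁).hom π ≫ (D.obj i₁).hom ≫ g) := by
      have e3 : pullback.fst (D.obj i₁).hom π ≫ (D.obj i₁).hom ≫ g = t.app i₁ ≫ q := by
        change _ = (pullback.snd (D.obj i₁).hom π ≫ j') ≫ q
        rw [Category.assoc, hw, pullback.condition_assoc]
      rw [e3]
      infer_instance
    exact UniversallyClosed.of_comp_surjective (pullback.fst (D.obj i₁).hom π) _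
  exact { }

end Groth.Agent.Lib.Helper14.ProperLim
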