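import Mathlib
import Groth.Agent.Lib.Helper14.ProperLim2
import Groth.Agent.Lib.Helper70.ChowQcqsA
import Groth.Agent.Lib.Helper49.ProperSupport2

/-!
# ph coverings: extending a proper cover of an affine open to a proper cover (helper14)

Stacks 0DBD, key step: `ι : X ⟶ U` an open immersion with `X` affine, `p : W ⟶ X` proper
surjective.  Then (Chow's lemma + closure in projective space + the reduced complement) there is a
proper surjective `h : V ⟶ U` and an open `W' ⊆ V`, equal to `h⁻¹(X)`, with a morphism `W' ⟶ W`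
over `X`.
-/

set_option autoImplicit false
universe u

open CategoryTheory Limits AlgebraicGeometry TopologicalSpace

namespace Groth.Agent.Lib.Helper14.PhCover

open Groth.Agent.Lib.Helper14.ProperLim

lemma range_fst_of_isPullback'' {P X Y Z : Scheme.{u}} {a : P ⟶ X} {b : P ⟶ Y} {f : X ⟶ Z}
    {g : Y ⟶ Z} (h : IsPullback a b f g) : Set.range a = f ⁻¹' Set.range g := by
  rw [← Scheme.Pullback.range_fst f g, ← h.isoPullback_hom_fst, Scheme.Hom.comp_base,
    TopCat.coe_comp, Set.range_comp]
  have h1 : Set.range h.isoPullback.hom = Set.univ :=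
    Set.range_eq_univ.mpr (inferInstance : Surjective h.isoPullback.hom).surj
  rw [h1, Set.image_univ]

set_option backward.isDefEq.respectTransparency false in
/-- Key step of Stacks 0DBD. -/
theorem exists_proper_extension (chow : ChowQcqs.{u}) {U X W : Scheme.{u}} (ι : X ⟶ U)
    [IsOpenImmersion ι] [IsAffine X] [QuasiSeparatedSpace U]
    (p : W ⟶ X) [IsProper p] [Surjective p] :
    ∃ (V : Scheme.{u}) (h : V ⟶ U) (W' : Scheme.{u}) (m : W' ⟶ V) (π : W' ⟶ W),
      IsProper h ∧ Surjective h ∧ IsOpenImmersion m ∧ m ≫ h = π ≫ p ≫ ι ∧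
      (∀ v : V, h v ∈ Set.range ι → v ∈ Set.range m) := by
  classical
  obtain ⟨n, W', π, c, hc, hw, hπ, hπs⟩ := chow p
  obtain ⟨q, hq⟩ : ∃ q : CohB1.ProjSpaceOver n X ⟶ X, q = CohB1.ProjSpaceOver.toBase n X :=
    ⟨_, rfl⟩
  obtain ⟨qU, hqU⟩ : ∃ qU : CohB1.ProjSpaceOver n U ⟶ U, qU = CohB1.ProjSpaceOver.toBase n U :=
    ⟨_, rfl⟩
  rw [← hq] at hw
  have hqp : IsProper q := hq ▸ Groth.Agent.Lib.Helper17.ProjSpaceProper.isProper_toBase n X
  have hqUp : IsProper qU := hqU ▸ Groth.Agent.Lib.Helper17.ProjSpaceProper.isProper_toBase n U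
  have hccl : IsClosedImmersion c := by
    have h1 : IsProper (c ≫ q) := by rw [hw]; infer_instance
    exact isClosedImmersion_of_isImmersion_of_isProper c hc (IsProper.of_comp c q)
  have hPB := Groth.Agent.Lib.Helper70.ChowQcqsA.isPullback_projMap n ι
  rw [← hq, ← hqU] at hPB
  obtain ⟨r, hr⟩ : ∃ r : CohB1.ProjSpaceOver n X ⟶ CohB1.ProjSpaceOver n U,
      r = FGA.projMap n ι := ⟨_, rfl⟩
  rw [← hr] at hPB
  have hroi : IsOpenImmersion r := MorphismProperty.of_isPullback hPB.flip inferInstance
  have hrrange : Set.range r = qU ⁻¹' Set.range ι := range_fst_of_isPullback'' hPB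
  have hcW' : CompactSpace W' := QuasiCompact.compactSpace_of_compactSpace (π ≫ p)
  have hqsP : QuasiSeparatedSpace ↥(CohB1.ProjSpaceOver n U) :=
    quasiSeparatedSpace_of_quasiSeparated qU
  obtain ⟨d, hd⟩ : ∃ d : W' ⟶ CohB1.ProjSpaceOver n U, d = c ≫ r := ⟨_, rfl⟩
  have hdimm : IsImmersion d := by rw [hd]; infer_instance
  have hdqc : QuasiCompact d := inferInstance
  have hdfac : d.toImage ≫ d.imageι = d := d.toImage_imageι
  have htoi : IsOpenImmersion d.toImage := inferInstance
  -- the reduced complement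
  have hclosed : IsClosed (Set.range ι)ᶜ := ι.isOpenEmbedding.isOpen_range.isClosed_compl
  obtain ⟨Zc, hZc⟩ : ∃ Zc : Closeds U, (Zc : Set U) = (Set.range ι)ᶜ := ⟨⟨_, hclosed⟩, rfl⟩
  have hzrange : Set.range (Scheme.IdealSheafData.vanishingIdeal Zc).subschemeι =
      (Set.range ι)ᶜ := by
    rw [Scheme.IdealSheafData.range_subschemeι, Scheme.IdealSheafData.coe_support_vanishingIdeal,
      hZc]
  have hgbar : IsProper (d.imageι ≫ qU) := inferInstance
  have hprop : IsProper (coprod.desc (d.imageι ≫ qU)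
      (Scheme.IdealSheafData.vanishingIdeal Zc).subschemeι) :=
    Groth.Agent.Lib.Helper49.ProperSupport.isProper_coprodDesc _ _
  have hcomm : (d.toImage ≫ coprod.inl) ≫ coprod.desc (d.imageι ≫ qU)
      (Scheme.IdealSheafData.vanishingIdeal Zc).subschemeι = π ≫ p ≫ ι := by
    rw [Category.assoc, coprod.inl_desc, ← Category.assoc, hdfac, hd, Category.assoc, hPB.w,
      ← Category.assoc, hw, Category.assoc]
  refine ⟨_, coprod.desc (d.imageι ≫ qU) (Scheme.IdealSheafData.vanishingIdeal Zc).subschemeι,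
    W', d.toImage ≫ coprod.inl, π, hprop, ⟨?_⟩, inferInstance, hcomm, ?_⟩
  · -- surjectivity
    intro u
    by_cases hu : u ∈ Set.range ι
    · obtain ⟨x, rfl⟩ := hu
      obtain ⟨w, rfl⟩ := (inferInstance : Surjective p).surj x
      obtain ⟨w', rfl⟩ := hπs.surj w
      refine ⟨(d.toImage ≫ coprod.inl) w', ?_⟩
      rw [← Scheme.Hom.comp_apply, hcomm]
      rfl
    · have hu' : u ∈ Set.range (Scheme.IdealSheafData.vanishingIdeal Zc).subschemeι := by
        rw [hzrange]; exact hu
      obtain ⟨y, rfl⟩ := hu'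
      refine ⟨(coprod.inr : (Scheme.IdealSheafData.vanishingIdeal Zc).subscheme ⟶
        d.image ⨿ (Scheme.IdealSheafData.vanishingIdeal Zc).subscheme) y, ?_⟩
      rw [← Scheme.Hom.comp_apply, coprod.inr_desc]
  · -- the preimage claim
    intro v hv
    have hcases : (∃ y : d.image, (coprod.inl : d.image ⟶
        d.image ⨿ (Scheme.IdealSheafData.vanishingIdeal Zc).subscheme) y = v) ∨
        ∃ y : (Scheme.IdealSheafData.vanishingIdeal Zc).subscheme, (coprod.inr : _ ⟶
          d.image ⨿ (Scheme.IdealSheafData.vanishingIdeal Zc).subscheme) y = v := by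
      have h := (isCompl_range_inl_inr d.image
        (Scheme.IdealSheafData.vanishingIdeal Zc).subscheme).sup_eq_top
      have hv' : v ∈ (Set.range (coprod.inl : d.image ⟶
          d.image ⨿ (Scheme.IdealSheafData.vanishingIdeal Zc).subscheme) ⊔
          Set.range (coprod.inr : (Scheme.IdealSheafData.vanishingIdeal Zc).subscheme ⟶
            d.image ⨿ (Scheme.IdealSheafData.vanishingIdeal Zc).subscheme) : Set _) := by
        rw [h]; trivial
      rcases hv' with ⟨y, hy⟩ | ⟨y, hy⟩
      · exact Or.inl ⟨y, hy⟩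
      · exact Or.inr ⟨y, hy⟩
    rcases hcases with ⟨y, rfl⟩ | ⟨y, rfl⟩
    · rw [← Scheme.Hom.comp_apply, coprod.inl_desc] at hv
      -- `d.imageι y` lies in the closure of the range of `d` and over the range of `ι`
      have h1 : d.imageι y ∈ closure (Set.range d) := by
        have h2 : d.imageι y ∈ Set.range d.imageι := ⟨y, rfl⟩
        rw [Scheme.IdealSheafData.range_subschemeι, Scheme.Hom.support_ker] at h2
        exact h2
      have h3 : d.imageι y ∈ Set.range r := by
        rw [hrrange]
        exact hv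
      obtain ⟨pt, hpt⟩ := h3
      have h4 : pt ∈ closure (Set.range c) := by
        rw [r.isOpenEmbedding.isInducing.closure_eq_preimage_closure_image]
        change r pt ∈ closure (r '' Set.range c)
        rw [hpt, ← Set.range_comp]
        have : (⇑r ∘ ⇑c) = ⇑d := by rw [hd]; rfl
        rw [this]
        exact h1
      rw [c.isClosedEmbedding.isClosed_range.closure_eq] at h4
      obtain ⟨w', rfl⟩ := h4
      refine ⟨w', ?_⟩
      rw [Scheme.Hom.comp_apply]
      congr 1
      apply d.imageι.isClosedEmbedding.injective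
      rw [← hpt, ← Scheme.Hom.comp_apply, hdfac, hd]
      rfl
    · exfalso
      rw [← Scheme.Hom.comp_apply, coprod.inr_desc] at hv
      have h1 : (Scheme.IdealSheafData.vanishingIdeal Zc).subschemeι y ∈
          Set.range (Scheme.IdealSheafData.vanishingIdeal Zc).subschemeι := ⟨y, rfl⟩
      rw [hzrange] at h1
      exact h1 hv

end Groth.Agent.Lib.Helper14.PhCover
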