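import Mathlib
import Groth.Agent.Lib.Helper14.PhCoverA

/-!
# ph coverings: iterated fibre products (helper14)

Stacks 0DBD, combinatorial step.
-/

set_option autoImplicit false
universe w u

open CategoryTheory Limits AlgebraicGeometry TopologicalSpace

namespace Groth.Agent.Lib.Helper14.PhCover

/-- An affine open neighbourhood of `x` inside the preimage of an open. -/
lemma exists_affine_nhd_le {P : Scheme.{u}} (x : P) (O : P.Opens) (hx : x ∈ O) :
    ∃ A : P.Opens, IsAffineOpen A ∧ x ∈ A ∧ A ≤ O := by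
  obtain ⟨_, ⟨A, hA, rfl⟩, hxA, hle⟩ :=
    P.isBasis_affineOpens.exists_subset_of_mem_open hx O.isOpen
  exact ⟨A, hA, hxA, hle⟩

set_option backward.isDefEq.respectTransparency false in
/-- Iterated fibre products: a finite family of proper surjective `h j : V j ⟶ U`, opens `O j`
covering `U`, and precomposition-stable properties `S j` of morphisms to `U` which hold locally on
`h j ⁻¹ (O j)`.  Then there is one proper surjective `g : P ⟶ U` such that locally on `P` one of
the `S j` holds. -/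
theorem exists_proper_local {U : Scheme.{u}} {J : Type w} [Finite J] (V : J → Scheme.{u})
    (h : ∀ j, V j ⟶ U) (hp : ∀ j, IsProper (h j)) (hs : ∀ j, Surjective (h j))
    (O : J → U.Opens) (hO : ∀ u : U, ∃ j, u ∈ O j)
    (S : J → ∀ ⦃B : Scheme.{u}⦄, (B ⟶ U) → Prop)
    (hS : ∀ (j : J) ⦃B B' : Scheme.{u}⦄ (φ : B' ⟶ B) (b : B ⟶ U), S j b → S j (φ ≫ b))
    (hloc : ∀ (j : J) (v : V j), h j v ∈ O j →
      ∃ A : (V j).Opens, IsAffineOpen A ∧ v ∈ A ∧ S j (A.ι ≫ h j)) :
    ∃ (P : Scheme.{u}) (g : P ⟶ U), IsProper g ∧ Surjective g ∧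
      ∀ x : P, ∃ (j : J) (A : P.Opens), IsAffineOpen A ∧ x ∈ A ∧ S j (A.ι ≫ g) := by
  classical
  have key : ∀ l : List J, ∃ (P : Scheme.{u}) (g : P ⟶ U), IsProper g ∧ Surjective g ∧
      ∀ x : P, ∀ j ∈ l, g x ∈ O j → ∃ A : P.Opens, IsAffineOpen A ∧ x ∈ A ∧ S j (A.ι ≫ g) := by
    intro l
    induction l with
    | nil => exact ⟨U, 𝟙 U, inferInstance, inferInstance, fun x j hj => by simp at hj⟩
    | cons j₀ l ih =>
      obtain ⟨P', g', hg'p, hg's, hg'⟩ := ih
      have := hp j₀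
      have := hs j₀
      refine ⟨pullback (h j₀) g', pullback.fst (h j₀) g' ≫ h j₀, inferInstance, inferInstance, ?_⟩
      intro x j hj hx
      rcases List.mem_cons.mp hj with rfl | hj'
      · obtain ⟨A₀, hA₀, hvA₀, hSA₀⟩ := hloc j (pullback.fst (h j) g' x) hx
        obtain ⟨A, hA, hxA, hle⟩ := exists_affine_nhd_le x (pullback.fst (h j) g' ⁻¹ᵁ A₀) hvA₀
        refine ⟨A, hA, hxA, ?_⟩
        have e : A.ι ≫ pullback.fst (h j) g' ≫ h j =
            (pullback.fst (h j) g').resLE A₀ A hle ≫ A₀.ι ≫ h j := by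
          rw [← Category.assoc, ← Category.assoc, Scheme.Hom.resLE_comp_ι]
        rw [e]
        exact hS j _ _ hSA₀
      · have hx' : g' (pullback.snd (h j₀) g' x) ∈ O j := by
          have e : pullback.fst (h j₀) g' ≫ h j₀ = pullback.snd (h j₀) g' ≫ g' :=
            pullback.condition
          rw [e] at hx
          exact hx
        obtain ⟨A₀, hA₀, hvA₀, hSA₀⟩ := hg' (pullback.snd (h j₀) g' x) j hj' hx'
        obtain ⟨A, hA, hxA, hle⟩ := exists_affine_nhd_le x (pullback.snd (h j₀) g' ⁻¹ᵁ A₀) hvA₀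
        refine ⟨A, hA, hxA, ?_⟩
        have e : A.ι ≫ pullback.fst (h j₀) g' ≫ h j₀ =
            (pullback.snd (h j₀) g').resLE A₀ A hle ≫ A₀.ι ≫ g' := by
          rw [pullback.condition, ← Category.assoc, ← Category.assoc, Scheme.Hom.resLE_comp_ι]
        rw [e]
        exact hS j _ _ hSA₀
  obtain ⟨l, -, hl⟩ := Finite.exists_univ_list J
  obtain ⟨P, g, hgp, hgs, hg⟩ := key l
  refine ⟨P, g, hgp, hgs, fun x => ?_⟩
  obtain ⟨j, hj⟩ := hO (g x)
  obtain ⟨A, hA, hxA, hSA⟩ := hg x j (hl j) hj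
  exact ⟨j, A, hA, hxA, hSA⟩

end Groth.Agent.Lib.Helper14.PhCover
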