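import Mathlib
import Groth.Agent.Lib.Helper14.PhCoverB
import Groth.Prelude.Def_HTop

/-!
# ph coverings: refinements by standard ph coverings (helper14)

Stacks 0DBD.
-/

set_option autoImplicit false
universe w u

open CategoryTheory Limits AlgebraicGeometry TopologicalSpace HTop

namespace Groth.Agent.Lib.Helper14.PhCover

open Groth.Agent.Lib.Helper14.ProperLim

/-- Stacks 0DBD (1): a Zariski covering of an affine scheme is refined by a standard ph covering. -/
theorem exists_standardPh_refining_openCover {T : Scheme.{u}} [IsAffine T] (𝒰 : T.OpenCover) :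
    ∃ F : PreZeroHypercover.{0} T, IsStandardPh F ∧ Nonempty (F.Hom 𝒰.toPreZeroHypercover) := by
  classical
  have h1 : ∀ t : T, ∃ A : T.Opens, IsAffineOpen A ∧ t ∈ A ∧ A ≤ (𝒰.f (𝒰.idx t)).opensRange :=
    fun t => exists_affine_nhd_le t _ (𝒰.covers t)
  choose A hA htA hAle using h1
  obtain ⟨s, hs⟩ := isCompact_univ.elim_finite_subcover (fun t : T => ((A t : T.Opens) : Set T))
    (fun t => (A t).isOpen) (fun t _ => Set.mem_iUnion.mpr ⟨t, htA t⟩)
  let y : Fin s.card → T := fun a => (s.equivFin.symm a : T)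
  have hy : ∀ x : T, ∃ a : Fin s.card, x ∈ A (y a) := by
    intro x
    have hx := hs (Set.mem_univ x)
    simp only [Set.mem_iUnion] at hx
    obtain ⟨z, hz, hxz⟩ := hx
    exact ⟨s.equivFin ⟨z, hz⟩, by simpa [y] using hxz⟩
  have hr : ∀ a : Fin s.card, Set.range (A (y a)).ι ⊆ Set.range (𝒰.f (𝒰.idx (y a))) := by
    intro a
    rw [Scheme.Opens.range_ι]
    exact hAle (y a)
  refine ⟨{ I₀ := Fin s.card, X := fun a => (A (y a)).toScheme, f := fun a => (A (y a)).ι },
    ⟨inferInstance, inferInstance, fun a => hA (y a), ⟨T, 𝟙 T, fun a => (A (y a)).ι, inferInstance,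
      inferInstance, fun a => inferInstance, fun a => Category.comp_id _, fun x => ?_⟩⟩,
    ⟨{ s₀ := fun a => 𝒰.idx (y a)
       h₀ := fun a => IsOpenImmersion.lift (𝒰.f (𝒰.idx (y a))) (A (y a)).ι (hr a)
       w₀ := fun a => IsOpenImmersion.lift_fac _ _ _ }⟩⟩
  obtain ⟨a, ha⟩ := hy x
  refine ⟨a, ?_⟩
  rw [Scheme.Opens.range_ι]
  exact ha

set_option backward.isDefEq.respectTransparency false in
/-- Stacks 0DBD (2): a composite of standard ph coverings is refined by a standard ph covering. -/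
theorem exists_standardPh_refining_bind (chow : ChowQcqs.{u}) {T : Scheme.{u}}
    (E : PreZeroHypercover.{w} T) (hE : IsStandardPh E)
    (F : ∀ j, PreZeroHypercover.{w} (E.X j)) (hF : ∀ j, IsStandardPh (F j)) :
    ∃ F' : PreZeroHypercover.{0} T, IsStandardPh F' ∧ Nonempty (F'.Hom (E.bind F)) := by
  classical
  have hT : IsAffine T := hE.isAffine
  obtain ⟨U, f, ι, hfp, hfs, hι, hfac, hcov⟩ := hE.exists_proper
  have hfin : Finite E.I₀ := hE.finite_index
  have hcU : CompactSpace U := QuasiCompact.compactSpace_of_compactSpace f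
  have hqU : QuasiSeparatedSpace U := quasiSeparatedSpace_of_quasiSeparated f
  have hj := fun j => (hF j).exists_proper
  choose W fj κ hfjp hfjs hκ hκfac hκcov using hj
  have hAff : ∀ j, IsAffine (E.X j) := hE.isAffine_obj
  have hA := fun j => exists_proper_extension chow (ι j) (fj j)
  choose V h W' m π hhp hhs hm hmh hpre using hA
  -- the sieves
  obtain ⟨S, hSdef⟩ : ∃ S : E.I₀ → ∀ ⦃B : Scheme.{u}⦄, (B ⟶ U) → Prop,
      S = fun j B b => ∃ (i : (F j).I₀) (r : B ⟶ (F j).X i), b = r ≫ (F j).f i ≫ ι j := ⟨_, rfl⟩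
  have hS : ∀ (j : E.I₀) ⦃B B' : Scheme.{u}⦄ (φ : B' ⟶ B) (b : B ⟶ U), S j b → S j (φ ≫ b) := by
    intro j B B' φ b hb
    rw [hSdef] at hb ⊢
    obtain ⟨i, r, rfl⟩ := hb
    exact ⟨i, φ ≫ r, by rw [Category.assoc]⟩
  have hloc : ∀ (j : E.I₀) (v : V j), h j v ∈ (ι j).opensRange →
      ∃ A : (V j).Opens, IsAffineOpen A ∧ v ∈ A ∧ S j (A.ι ≫ h j) := by
    intro j v hv
    obtain ⟨w', rfl⟩ := hpre j v hv
    obtain ⟨i, hi⟩ := hκcov j (π j w')
    have hvO : m j w' ∈ (m j) ''ᵁ ((π j) ⁻¹ᵁ (κ j i).opensRange) := ⟨w', hi, rfl⟩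
    obtain ⟨A, hA, hvA, hle⟩ := exists_affine_nhd_le _ _ hvO
    refine ⟨A, hA, hvA, ?_⟩
    rw [hSdef]
    refine ⟨i, ?_⟩
    have hr1 : Set.range A.ι ⊆ Set.range (m j) := by
      rw [Scheme.Opens.range_ι]
      intro z hz
      obtain ⟨w'', -, rfl⟩ := hle hz
      exact ⟨w'', rfl⟩
    have ha : IsOpenImmersion.lift (m j) A.ι hr1 ≫ m j = A.ι := IsOpenImmersion.lift_fac _ _ _
    have hr2 : Set.range (IsOpenImmersion.lift (m j) A.ι hr1 ≫ π j) ⊆ Set.range (κ j i) := by
      rintro _ ⟨pt, rfl⟩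
      have h1 : A.ι pt ∈ (m j) ''ᵁ ((π j) ⁻¹ᵁ (κ j i).opensRange) := hle pt.2
      obtain ⟨w'', hw'', hw''eq⟩ := h1
      have h2 : IsOpenImmersion.lift (m j) A.ι hr1 pt = w'' := by
        apply (m j).isOpenEmbedding.injective
        rw [← Scheme.Hom.comp_apply, ha]
        exact hw''eq.symm
      rw [Scheme.Hom.comp_apply, h2]
      exact hw''
    refine ⟨IsOpenImmersion.lift (κ j i) (IsOpenImmersion.lift (m j) A.ι hr1 ≫ π j) hr2, ?_⟩
    rw [← hκfac j i, ← Category.assoc, ← Category.assoc, IsOpenImmersion.lift_fac, Category.assoc,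
      Category.assoc, ← hmh j, ← Category.assoc, ha]
  have hO : ∀ u : U, ∃ j, u ∈ (ι j).opensRange := hcov
  obtain ⟨P, g, hgp, hgs, hlocal⟩ := exists_proper_local V h hhp hhs
    (fun j => (ι j).opensRange) hO S hS hloc
  rw [hSdef] at hlocal
  choose jx Ax hAx hxAx ix rx hrx using hlocal
  have hcP : CompactSpace P := QuasiCompact.compactSpace_of_compactSpace (g ≫ f)
  obtain ⟨s, hs⟩ := isCompact_univ.elim_finite_subcover (fun x : P => ((Ax x : P.Opens) : Set P))
    (fun x => (Ax x).isOpen) (fun x _ => Set.mem_iUnion.mpr ⟨x, hxAx x⟩)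
  let y : Fin s.card → P := fun a => (s.equivFin.symm a : P)
  have hy : ∀ x : P, ∃ a : Fin s.card, x ∈ Ax (y a) := by
    intro x
    have hx := hs (Set.mem_univ x)
    simp only [Set.mem_iUnion] at hx
    obtain ⟨z, hz, hxz⟩ := hx
    exact ⟨s.equivFin ⟨z, hz⟩, by simpa [y] using hxz⟩
  refine ⟨{ I₀ := Fin s.card, X := fun a => (Ax (y a)).toScheme,
            f := fun a => (Ax (y a)).ι ≫ g ≫ f },
    ⟨hT, inferInstance, fun a => hAx (y a), ⟨P, g ≫ f, fun a => (Ax (y a)).ι, inferInstance,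
      inferInstance, fun a => inferInstance, fun a => rfl, fun x => ?_⟩⟩,
    ⟨{ s₀ := fun a => ⟨jx (y a), ix (y a)⟩
       h₀ := fun a => rx (y a)
       w₀ := fun a => ?_ }⟩⟩
  · obtain ⟨a, ha⟩ := hy x
    refine ⟨a, ?_⟩
    rw [Scheme.Opens.range_ι]
    exact ha
  · change rx (y a) ≫ (F (jx (y a))).f (ix (y a)) ≫ E.f (jx (y a)) = (Ax (y a)).ι ≫ g ≫ f
    rw [← hfac, ← Category.assoc (Ax (y a)).ι, hrx (y a)]
    simp only [Category.assoc]

end Groth.Agent.Lib.Helper14.PhCover
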