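import Mathlib
import Groth.Agent.Lib.Helper14.PhCoverC
import Groth.Agent.S7478

/-!
# ph coverings: the key refinement lemma, base change and composition (helper14)
-/

set_option autoImplicit false
universe w u

open CategoryTheory Limits AlgebraicGeometry TopologicalSpace HTop

namespace Groth.Agent.Lib.Helper14.PhCover

open Groth.Agent.Lib.Helper14.ProperLim

set_option backward.isDefEq.respectTransparency false in
/-- If `E` is a ph covering of `T` and `g : A ⟶ T` is a morphism from an affine scheme, then some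
standard ph covering of `A` refines `E` over `g`. -/
theorem exists_standardPh_refinesOver (chow : ChowQcqs.{u}) {A T : Scheme.{u}} [IsAffine A]
    (g : A ⟶ T) (E : PreZeroHypercover.{w} T) (hE : IsPhCover E) :
    ∃ F : PreZeroHypercover.{0} A, IsStandardPh F ∧ RefinesOver g F E := by
  classical
  have h1 : ∀ x : A, ∃ (U : T.affineOpens) (W : A.affineOpens), x ∈ W.1 ∧ W.1 ≤ g ⁻¹ᵁ U.1 := by
    intro x
    obtain ⟨U, hU, hxU, -⟩ := Opens.isBasis_iff_nbhd.mp T.isBasis_affineOpens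
      (Opens.mem_top (g x))
    obtain ⟨W, hW, hxW, hWU⟩ := Opens.isBasis_iff_nbhd.mp A.isBasis_affineOpens
      (show x ∈ g ⁻¹ᵁ U from hxU)
    exact ⟨⟨U, hU⟩, ⟨W, hW⟩, hxW, hWU⟩
  choose U W hxW hWU using h1
  obtain ⟨s, hs⟩ := isCompact_univ.elim_finite_subcover (fun x : A => ((W x).1 : Set A))
    (fun x => (W x).1.2) (fun x _ => Set.mem_iUnion.mpr ⟨x, hxW x⟩)
  choose G hGstd hGref using fun x => hE.2 (U x)
  have hWaff : ∀ x, IsAffine ((W x).1 : Scheme.{u}) := fun x => (W x).2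
  let y : Fin s.card → A := fun a => (s.equivFin.symm a : A)
  have hy : ∀ x : A, ∃ a : Fin s.card, x ∈ (W (y a)).1 := by
    intro x
    have hx := hs (Set.mem_univ x)
    simp only [Set.mem_iUnion] at hx
    obtain ⟨z, hz, hxz⟩ := hx
    exact ⟨s.equivFin ⟨z, hz⟩, by simpa [y] using hxz⟩
  -- the standard ph covering by the `W (y a)`
  let F₀ : PreZeroHypercover.{0} A :=
    { I₀ := Fin s.card, X := fun a => ((W (y a)).1 : Scheme.{u}), f := fun a => (W (y a)).1.ι }
  have hF₀ : IsStandardPh F₀ :=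
    ⟨inferInstance, inferInstance, fun a => hWaff (y a), ⟨A, 𝟙 A, fun a => (W (y a)).1.ι,
      inferInstance, inferInstance, fun a => inferInstance, fun a => Category.comp_id _,
      fun x => by
        obtain ⟨a, ha⟩ := hy x
        exact ⟨a, by rw [Scheme.Opens.range_ι]; exact ha⟩⟩⟩
  let H : ∀ a : F₀.I₀, PreZeroHypercover.{0} (F₀.X a) := fun a =>
    (G (y a)).pullback₁ (g.resLE (U (y a)).1 (W (y a)).1 (hWU _))
  have hH : ∀ a, IsStandardPh (H a) := fun a => by
    have := hWaff (y a)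
    exact Groth.Agent.S7478.result (g.resLE (U (y a)).1 (W (y a)).1 (hWU _)) (G (y a))
      (hGstd (y a))
  obtain ⟨F', hF', ⟨φ⟩⟩ := exists_standardPh_refining_bind chow F₀ hF₀ H hH
  refine ⟨F', hF', fun k => ?_⟩
  obtain ⟨i, k', hk'⟩ := hGref (y (φ.s₀ k).1) (φ.s₀ k).2
  refine ⟨i, φ.h₀ k ≫ pullback.snd _ _ ≫ k', ?_⟩
  have hw := φ.w₀ k
  change φ.h₀ k ≫ pullback.fst (g.resLE (U (y (φ.s₀ k).1)).1 (W (y (φ.s₀ k).1)).1 (hWU _))
    ((G (y (φ.s₀ k).1)).f (φ.s₀ k).2) ≫ (W (y (φ.s₀ k).1)).1.ι = F'.f k at hw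
  rw [← hw, Category.assoc, Category.assoc, hk', Category.assoc, Category.assoc,
    ← Scheme.Hom.resLE_comp_ι g (hWU (y (φ.s₀ k).1)), ← Category.assoc (pullback.snd _ _),
    ← pullback.condition, Category.assoc]

/-- Refinement is transitive along a refinement morphism. -/
lemma refinesOver_of_hom {U T : Scheme.{u}} {g : U ⟶ T} {F' : PreZeroHypercover.{0} U}
    {G' : PreZeroHypercover.{0} U} {E' : PreZeroHypercover.{w} T} (φ : F'.Hom G')
    (h : RefinesOver g G' E') : RefinesOver g F' E' := by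
  intro a
  obtain ⟨i, r, hr⟩ := h (φ.s₀ a)
  exact ⟨i, φ.h₀ a ≫ r, by rw [Category.assoc, hr, ← Category.assoc, φ.w₀]⟩

/-- Refinement of composites. -/
lemma refinesOver_bind {U T : Scheme.{u}} (g : U ⟶ T) (E : PreZeroHypercover.{w} T)
    (F : ∀ i, PreZeroHypercover.{w} (E.X i)) (G : PreZeroHypercover.{0} U)
    (H : ∀ j, PreZeroHypercover.{0} (G.X j)) (i : G.I₀ → E.I₀) (k : ∀ j, G.X j ⟶ E.X (i j))
    (hk : ∀ j, k j ≫ E.f (i j) = G.f j ≫ g) (hHF : ∀ j, RefinesOver (k j) (H j) (F (i j))) :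
    RefinesOver g (G.bind H) (E.bind F) := by
  rintro ⟨j, l⟩
  obtain ⟨m, h, hh⟩ := hHF j l
  refine ⟨⟨i j, m⟩, h, ?_⟩
  show h ≫ (F (i j)).f m ≫ E.f (i j) = ((H j).f l ≫ G.f j) ≫ g
  rw [← Category.assoc, hh, Category.assoc, hk, Category.assoc]

/-- Base change of ph coverings. -/
theorem isPhCover_pullback (chow : ChowQcqs.{u}) {T T' : Scheme.{u}} (g : T' ⟶ T)
    (E : PreZeroHypercover.{w} T) (hE : IsPhCover E) : IsPhCover (E.pullback₁ g) := by
  refine ⟨fun i => ?_, fun U' => ?_⟩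
  · have := hE.1 i
    change LocallyOfFiniteType (pullback.fst g (E.f i))
    infer_instance
  · have : IsAffine ((U' : T'.Opens) : Scheme.{u}) := U'.2
    obtain ⟨F, hF, hFE⟩ := exists_standardPh_refinesOver chow ((U' : T'.Opens).ι ≫ g) E hE
    refine ⟨F, hF, fun j => ?_⟩
    obtain ⟨i, h, hh⟩ := hFE j
    refine ⟨i, pullback.lift (F.f j ≫ (U' : T'.Opens).ι) h ?_, ?_⟩
    · rw [hh, Category.assoc]
    · exact pullback.lift_fst _ _ _

/-- Composition of ph coverings. -/
theorem isPhCover_bind (chow : ChowQcqs.{u}) {T : Scheme.{u}} (E : PreZeroHypercover.{w} T)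
    (hE : IsPhCover E) (F : ∀ i, PreZeroHypercover.{w} (E.X i)) (hF : ∀ i, IsPhCover (F i)) :
    IsPhCover (E.bind F) := by
  refine ⟨fun ij => ?_, fun U => ?_⟩
  · have := hE.1 ij.1
    have := (hF ij.1).1 ij.2
    change LocallyOfFiniteType ((F ij.1).f ij.2 ≫ E.f ij.1)
    infer_instance
  · obtain ⟨G, hG, hGE⟩ := hE.2 U
    choose i k hk using hGE
    have hGaff : ∀ j, IsAffine (G.X j) := hG.isAffine_obj
    choose H hH hHF using fun j => exists_standardPh_refinesOver chow (k j) (F (i j)) (hF (i j))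
    obtain ⟨F', hF', ⟨φ⟩⟩ := exists_standardPh_refining_bind chow G hG H hH
    exact ⟨F', hF', refinesOver_of_hom φ (refinesOver_bind _ E F G H i k hk hHF)⟩

end Groth.Agent.Lib.Helper14.PhCover
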