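import Mathlib
import Groth.Agent.S2074
import Groth.Agent.Lib.Helper2.StalkLimit
import Groth.Agent.Lib.Helper7.ProperDescent
import Groth.Agent.Lib.Helper29.CplFlat

/-!
# Properness over the completion of a local ring spreads to a neighbourhood (helper14)
-/

set_option autoImplicit false
universe u

open CategoryTheory Limits AlgebraicGeometry TopologicalSpace

namespace Groth.Agent.Lib.Helper14.ProperCpl

open Groth.Agent.Lib.Helper2.StalkLimit

lemma range_fst_of_isPullback' {P X Y Z : Scheme.{u}} {a : P ⟶ X} {b : P ⟶ Y} {f : X ⟶ Z}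
    {g : Y ⟶ Z} (h : IsPullback a b f g) : Set.range a = f ⁻¹' Set.range g := by
  rw [← Scheme.Pullback.range_fst f g, ← h.isoPullback_hom_fst, Scheme.Hom.comp_base,
    TopCat.coe_comp, Set.range_comp]
  have h1 : Set.range h.isoPullback.hom = Set.univ :=
    Set.range_eq_univ.mpr (inferInstance : Surjective h.isoPullback.hom).surj
  rw [h1, Set.image_univ]

/-- Re-basing a fibre product along a factorisation of the base morphism. -/
lemma exists_isPullback_rebase {Y S T T' : Scheme.{u}} (g : Y ⟶ S) (τ : T ⟶ S) (ρ : T' ⟶ T)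
    (ι : T' ⟶ S) (h : ρ ≫ τ = ι) :
    ∃ m : pullback g ι ⟶ pullback g τ, m ≫ pullback.fst g τ = pullback.fst g ι ∧
      IsPullback m (pullback.snd g ι) (pullback.snd g τ) ρ := by
  subst h
  refine ⟨pullback.lift (pullback.fst g (ρ ≫ τ)) (pullback.snd g (ρ ≫ τ) ≫ ρ)
    (by rw [Category.assoc]; exact pullback.condition), pullback.lift_fst _ _ _, ?_⟩
  refine IsPullback.of_right ?_ (pullback.lift_snd _ _ _) (IsPullback.of_hasPullback g τ)
  rw [pullback.lift_fst]
  exact IsPullback.of_hasPullback g (ρ ≫ τ)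

/-- `Spec` of a faithfully flat ring map is a flat, surjective, quasi-compact morphism. -/
lemma fpqc_specMap {A B : Type u} [CommRing A] [CommRing B] [Algebra A B]
    [Module.FaithfullyFlat A B] :
    (@Surjective ⊓ @Flat ⊓ @QuasiCompact : MorphismProperty Scheme.{u})
      (Spec.map (CommRingCat.ofHom (algebraMap A B))) := by
  refine ⟨⟨⟨?_⟩, ?_⟩, inferInstance⟩
  · exact PrimeSpectrum.comap_surjective_of_faithfullyFlat (A := A) (B := B)
  · rw [HasRingHomProperty.Spec_iff (P := @Flat)]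
    exact (RingHom.flat_algebraMap_iff.mpr inferInstance)


set_option backward.isDefEq.respectTransparency false in
/-- Properness over the completed local ring at a point spreads to a neighbourhood. -/
theorem exists_nhd_isProper (S : Scheme.{u}) [IsLocallyNoetherian S]
    {X Y : Scheme.{u}} (f : X ⟶ Y) (g : Y ⟶ S)
    [QuasiCompact g] [QuasiSeparated g] [LocallyOfFinitePresentation g]
    [QuasiCompact (f ≫ g)] [QuasiSeparated (f ≫ g)] [LocallyOfFinitePresentation (f ≫ g)]
    (s : S)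
    (hR : IsProper (Limits.pullback.snd f (Limits.pullback.fst g
      (Spec.map (CommRingCat.ofHom (algebraMap (S.presheaf.stalk s) (EGA4.Cpl (S.presheaf.stalk s)))) ≫
        S.fromSpecStalk s)))) :
    ∃ W : S.Opens, s ∈ W ∧ IsProper (f ∣_ (g ⁻¹ᵁ W)) := by
  classical
  have hff : Module.FaithfullyFlat (S.presheaf.stalk s) (EGA4.Cpl (S.presheaf.stalk s)) :=
    Groth.Agent.Lib.Helper29.faithfullyFlat_cpl _
  have hσ := fpqc_specMap (A := S.presheaf.stalk s) (B := EGA4.Cpl (S.presheaf.stalk s))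
  obtain ⟨σ, hσdef⟩ : ∃ σ : Spec (CommRingCat.of (EGA4.Cpl (S.presheaf.stalk s))) ⟶
      Spec (CommRingCat.of (S.presheaf.stalk s)),
      σ = Spec.map (CommRingCat.ofHom (algebraMap (S.presheaf.stalk s)
        (EGA4.Cpl (S.presheaf.stalk s)))) := ⟨_, rfl⟩
  rw [← hσdef] at hσ hR
  -- descent to the local ring
  obtain ⟨m, hm1, hm2⟩ := exists_isPullback_rebase g (S.fromSpecStalk s) σ
    (σ ≫ S.fromSpecStalk s) rfl
  have hmQ : (@Surjective ⊓ @Flat ⊓ @QuasiCompact : MorphismProperty Scheme.{u}) m :=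
    MorphismProperty.of_isPullback hm2.flip hσ
  obtain ⟨n, hn1, hn2⟩ := exists_isPullback_rebase f (pullback.fst g (S.fromSpecStalk s)) m
    (pullback.fst g (σ ≫ S.fromSpecStalk s)) hm1
  have hfO : IsProper (pullback.snd f (pullback.fst g (S.fromSpecStalk s))) :=
    MorphismProperty.of_isPullback_of_descendsAlong (P := @IsProper)
      (Q := (@Surjective ⊓ @Flat ⊓ @QuasiCompact : MorphismProperty Scheme.{u})) hn2.flip hmQ hR
  -- the limit presentation of the local ring
  obtain ⟨N₀⟩ : Nonempty (AffNhd S s) := inferInstance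
  have hcone : ∀ N : AffNhd S s, (cone S s).π.app N ≫ toX S s N = S.fromSpecStalk s :=
    fun N => cone_π_toX S s N
  obtain ⟨qY, hqY1, hqY2⟩ := exists_isPullback_rebase g (toX S s N₀) ((cone S s).π.app N₀)
    (S.fromSpecStalk s) (hcone N₀)
  obtain ⟨qX, hqX1, hqX2⟩ := exists_isPullback_rebase f (pullback.fst g (toX S s N₀)) qY
    (pullback.fst g (S.fromSpecStalk s)) hqY1
  have haffD : ∀ (i j : AffNhd S s) (a : i ⟶ j), IsAffineHom ((D S s).map a) := by
    intro i j a
    rw [D_map]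
    infer_instance
  have hcD : CompactSpace ((D S s).obj N₀) := by rw [D_obj]; infer_instance
  have hqD : QuasiSeparatedSpace ((D S s).obj N₀) := by rw [D_obj]; infer_instance
  have hoi : ∀ N : AffNhd S s, IsOpenImmersion (toX S s N) := fun N => by
    unfold toX; infer_instance
  -- finiteness conditions at the stage `N₀`
  have hg₀ : QuasiCompact (pullback.snd g (toX S s N₀)) := inferInstance
  have hg₀' : QuasiSeparated (pullback.snd g (toX S s N₀)) := inferInstance
  have hcY₀ : CompactSpace ↥(pullback g (toX S s N₀)) :=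
    QuasiCompact.compactSpace_of_compactSpace (pullback.snd g (toX S s N₀))
  have hqY₀ : QuasiSeparatedSpace ↥(pullback g (toX S s N₀)) :=
    quasiSeparatedSpace_of_quasiSeparated (pullback.snd g (toX S s N₀))
  have hf1 : QuasiCompact f := QuasiCompact.of_comp f g
  have hf2 : QuasiSeparated f := QuasiSeparated.of_comp f g
  have hf3 : LocallyOfFiniteType f := locallyOfFiniteType_of_comp f g
  have hcX₀ : CompactSpace ↥(pullback f (pullback.fst g (toX S s N₀))) :=
    QuasiCompact.compactSpace_of_compactSpace (pullback.snd f (pullback.fst g (toX S s N₀)))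
  have hqX₀ : QuasiSeparatedSpace ↥(pullback f (pullback.fst g (toX S s N₀))) :=
    quasiSeparatedSpace_of_quasiSeparated (pullback.snd f (pullback.fst g (toX S s N₀)))
  obtain ⟨N, φ, Xi, Yi, fi, gi, pY, pX, h1, h2, h3⟩ :=
    Groth.Agent.S2074.result (D S s) (cone S s) (isLimitCone S s) N₀
      (pullback.snd f (pullback.fst g (toX S s N₀))) (pullback.snd g (toX S s N₀))
      (pullback.snd f (pullback.fst g (S.fromSpecStalk s))) (pullback.snd g (S.fromSpecStalk s))
      qY qX hqY2 hqX2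
  -- back to an open of `S`
  have hu : IsPullback (pY ≫ pullback.fst g (toX S s N₀)) gi g ((D S s).map φ ≫ toX S s N₀) :=
    h1.paste_horiz (IsPullback.of_hasPullback g (toX S s N₀))
  rw [D_map_toX] at hu
  have hX' : IsPullback (pX ≫ pullback.fst f (pullback.fst g (toX S s N₀))) fi f
      (pY ≫ pullback.fst g (toX S s N₀)) :=
    h2.paste_horiz (IsPullback.of_hasPullback f (pullback.fst g (toX S s N₀)))
  obtain ⟨u, hudef⟩ : ∃ u : Yi ⟶ Y, u = pY ≫ pullback.fst g (toX S s N₀) := ⟨_, rfl⟩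
  rw [← hudef] at hu hX'
  have huoi : IsOpenImmersion u := MorphismProperty.of_isPullback hu.flip (hoi N)
  have hurange : Set.range u = g ⁻¹' (N.1 : Set S) := by
    rw [range_fst_of_isPullback' hu, range_toX]
  refine ⟨N.1, N.2.2, ?_⟩
  have hVrange : Set.range (g ⁻¹ᵁ N.1).ι = Set.range u := by
    rw [hurange, Scheme.Opens.range_ι]
    rfl
  obtain ⟨θ, hθ⟩ : ∃ θ : (g ⁻¹ᵁ N.1).toScheme ⟶ Yi, θ ≫ u = (g ⁻¹ᵁ N.1).ι :=
    ⟨(IsOpenImmersion.isoOfRangeEq (g ⁻¹ᵁ N.1).ι u hVrange).hom,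
      IsOpenImmersion.isoOfRangeEq_hom_fac _ _ _⟩
  have hbig : IsPullback (f ⁻¹ᵁ g ⁻¹ᵁ N.1).ι (f ∣_ (g ⁻¹ᵁ N.1)) f (θ ≫ u) := by
    rw [hθ]
    exact (isPullback_morphismRestrict f (g ⁻¹ᵁ N.1)).flip
  obtain ⟨lam, hlam1, hlam2⟩ : ∃ lam : (f ⁻¹ᵁ g ⁻¹ᵁ N.1).toScheme ⟶ Xi,
      lam ≫ (pX ≫ pullback.fst f (pullback.fst g (toX S s N₀))) = (f ⁻¹ᵁ g ⁻¹ᵁ N.1).ι ∧
      lam ≫ fi = f ∣_ (g ⁻¹ᵁ N.1) ≫ θ :=
    ⟨hX'.lift (f ⁻¹ᵁ g ⁻¹ᵁ N.1).ι (f ∣_ (g ⁻¹ᵁ N.1) ≫ θ) (by rw [Category.assoc]; exact hbig.w),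
      hX'.lift_fst _ _ _, hX'.lift_snd _ _ _⟩
  have hleft : IsPullback lam (f ∣_ (g ⁻¹ᵁ N.1)) fi θ := by
    refine IsPullback.of_right ?_ hlam2 hX'
    rw [hlam1]
    exact hbig
  exact MorphismProperty.of_isPullback hleft h3

end Groth.Agent.Lib.Helper14.ProperCpl
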