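import Mathlib
import Groth.Agent.Lib.Helper14.ProperLim2
import Groth.Agent.S7395
import Groth.Agent.S7379

/-!
# A proper morphism over a qcqs base is a limit of proper f.p. morphisms (helper14)

Stacks 09ZR, modulo Chow's lemma (`ChowQcqs`, the statement of S7409).
-/

set_option autoImplicit false
universe u

open CategoryTheory Limits AlgebraicGeometry TopologicalSpace

namespace Groth.Agent.Lib.Helper14.ProperLim

/-- Restriction of a directed preorder to the elements above a given one. -/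
abbrev Above {I : Type u} [Preorder I] (i₁ : I) : Type u := {i : I // i₁ ≤ i}

instance {I : Type u} [Preorder I] [IsDirected I (· ≤ ·)] (i₁ : I) :
    IsDirected (Above i₁) (· ≤ ·) :=
  ⟨fun a b => by
    obtain ⟨k, hak, hbk⟩ := exists_ge_ge a.1 b.1
    exact ⟨⟨k, a.2.trans hak⟩, hak, hbk⟩⟩

instance {I : Type u} [Preorder I] (i₁ : I) : Nonempty (Above i₁) := ⟨⟨i₁, le_rfl⟩⟩

/-- the inclusion functor -/
abbrev aboveIncl {I : Type u} [Preorder I] (i₁ : I) : Above i₁ ⥤ I :=
  (Subtype.mono_coe (fun i => i₁ ≤ i)).functor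

instance {I : Type u} [Preorder I] [IsDirected I (· ≤ ·)] (i₁ : I) :
    (aboveIncl i₁).Final := by
  rw [Monotone.final_functor_iff]
  intro k
  obtain ⟨m, h1, h2⟩ := exists_ge_ge i₁ k
  exact ⟨⟨m, h1⟩, h2⟩

set_option backward.isDefEq.respectTransparency false in
/-- Stacks 09ZR modulo Chow. -/
theorem exists_limit_proper_fp (chow : ChowQcqs.{u}) {X S : Scheme.{u}} (f : X ⟶ S) [IsProper f]
    [CompactSpace S] [QuasiSeparatedSpace S] :
    ∃ (I : Type u) (_ : SmallCategory I) (_ : IsCofiltered I) (D : I ⥤ Over S)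
      (c : Limits.Cone D) (_ : Limits.IsLimit c) (e : c.pt ≅ Over.mk f),
      (∀ (i j : I) (a : i ⟶ j), IsClosedImmersion (D.map a).left) ∧
      (∀ i, IsClosedImmersion (c.π.app i).left ∧ IsProper (D.obj i).hom ∧
        LocallyOfFinitePresentation (D.obj i).hom) := by
  obtain ⟨Y, g, j, hg1, hg2, hg3, hj, hjg⟩ := Groth.Agent.S7395.result f
  have hcY : CompactSpace Y := QuasiCompact.compactSpace_of_compactSpace g
  have hqY : QuasiSeparatedSpace Y := quasiSeparatedSpace_of_quasiSeparated g
  obtain ⟨I, i1, i2, i3, D, c, hc, hD, ⟨e⟩⟩ := Groth.Agent.S7379.result j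
  have hcl : IsClosedImmersion c.pt.hom := by
    have h1 : c.pt.hom = e.hom.left ≫ j := (Over.w e.hom).symm
    rw [h1]
    infer_instance
  have hX : IsProper (c.pt.hom ≫ g) := by
    have h1 : c.pt.hom ≫ g = e.hom.left ≫ f := by
      rw [← Over.w e.hom, Category.assoc]
      change _ ≫ j ≫ g = _
      rw [hjg]
    rw [h1]
    infer_instance
  obtain ⟨i₁, hi₁⟩ := exists_isProper_of_closed_transitions chow g D c hc
    (fun i => (hD i).1) hcl hX
  have hconn : IsConnected (Above i₁.unop)ᵒᵖ := IsCofiltered.isConnected _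
  have hmapcl : ∀ (a b : Iᵒᵖ) (m : a ⟶ b), IsClosedImmersion (D.map m).left := by
    intro a b m
    have h1 := (hD b).1
    have h2 : IsClosedImmersion ((D.map m).left ≫ (D.obj b).hom) := by
      rw [Over.w]
      exact (hD a).1
    exact IsClosedImmersion.of_comp _ (D.obj b).hom
  have hprop : ∀ k : (Above i₁.unop)ᵒᵖ,
      IsProper ((D.obj ((aboveIncl i₁.unop).op.obj k)).hom ≫ g) := by
    intro k
    have hle : i₁.unop ≤ k.unop.1 := k.unop.2
    have hm := hmapcl ((aboveIncl i₁.unop).op.obj k) i₁ (homOfLE hle).op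
    have h1 : (D.obj ((aboveIncl i₁.unop).op.obj k)).hom ≫ g =
        (D.map (homOfLE hle).op : (D.obj ((aboveIncl i₁.unop).op.obj k)) ⟶ D.obj i₁).left ≫
          ((D.obj i₁).hom ≫ g) := by
      rw [← Category.assoc, Over.w]
    rw [h1]
    infer_instance
  let cW : Cone ((aboveIncl i₁.unop).op ⋙ D) := c.whisker (aboveIncl i₁.unop).op
  have hcW : IsLimit cW := (Functor.Initial.isLimitWhiskerEquiv (aboveIncl i₁.unop).op c).symm hc
  have hcS : IsLimit ((Over.map g).mapCone cW) := by
    have h1 : IsLimit ((Over.forget Y).mapCone cW) := isLimitOfPreserves (Over.forget Y) hcW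
    exact isLimitOfReflects (Over.forget S) h1
  refine ⟨(Above i₁.unop)ᵒᵖ, inferInstance, inferInstance,
    ((aboveIncl i₁.unop).op ⋙ D) ⋙ Over.map g, (Over.map g).mapCone cW, hcS,
    (Over.map g).mapIso e ≪≫ Over.isoMk (Iso.refl _) ?_, ?_, ?_⟩
  · change 𝟙 _ ≫ f = j ≫ g
    rw [Category.id_comp, hjg]
  · intro a b m
    exact hmapcl _ _ ((aboveIncl i₁.unop).op.map m)
  · intro k
    refine ⟨?_, hprop k, ?_⟩
    · change IsClosedImmersion (c.π.app ((aboveIncl i₁.unop).op.obj k)).left
      have h1 := (hD ((aboveIncl i₁.unop).op.obj k)).1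
      have h2 : IsClosedImmersion ((c.π.app ((aboveIncl i₁.unop).op.obj k)).left ≫
          (D.obj ((aboveIncl i₁.unop).op.obj k)).hom) := by
        rw [Over.w]
        exact hcl
      exact IsClosedImmersion.of_comp _ (D.obj ((aboveIncl i₁.unop).op.obj k)).hom
    · change LocallyOfFinitePresentation ((D.obj ((aboveIncl i₁.unop).op.obj k)).hom ≫ g)
      have h1 := (hD ((aboveIncl i₁.unop).op.obj k)).2
      infer_instance

end Groth.Agent.Lib.Helper14.ProperLim
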