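import Mathlib
import Groth.Agent.Lib.Helper14.ProperLim3
import Groth.Agent.Lib.Helper14.ClosedStage
import Groth.Agent.S0591

/-!
# A proper morphism to a limit, of finite type over the base, is proper over a stage (helper14)

Stacks 0A0P, modulo Chow's lemma (`ChowQcqs`, the statement of S7409).
-/

set_option autoImplicit false
universe u

open CategoryTheory Limits AlgebraicGeometry TopologicalSpace

namespace Groth.Agent.Lib.Helper14.ProperLim

open Groth.Agent.Lib.Helper13.LimDescent Groth.Agent.Lib.Helper14.FTImm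

set_option backward.isDefEq.respectTransparency false in
/-- Stacks 0A0P modulo Chow. -/
theorem exists_isProper_comp_π (chow : ChowQcqs.{u}) {I : Type u} [SmallCategory I]
    [IsCofiltered I] (S : Scheme.{u})
    (D : I ⥤ Scheme.{u}) (t : D ⟶ (Functor.const I).obj S) (c : Limits.Cone D)
    (hc : Limits.IsLimit c)
    [∀ (i j : I) (a : i ⟶ j), IsAffineHom (D.map a)]
    [∀ i, CompactSpace (D.obj i)] [∀ i, QuasiSeparatedSpace (D.obj i)] (i₀ : I)
    {Y : Scheme.{u}} (h : Y ⟶ c.pt) [IsProper h]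
    [LocallyOfFiniteType (h ≫ c.π.app i₀ ≫ t.app i₀)] :
    ∃ i₁ : I, ∀ (i : I) (_ : i ⟶ i₁), IsProper (h ≫ c.π.app i) := by
  classical
  have hE : ∀ {i j : I} (f : i ⟶ j), IsAffineHom (D.map f) := fun f => inferInstance
  have hπaff : ∀ i, IsAffineHom (c.π.app i) := fun i => isAffineHom_π_app D c hc i
  have hcX : CompactSpace c.pt := QuasiCompact.compactSpace_of_compactSpace (c.π.app i₀)
  have hqX : QuasiSeparatedSpace c.pt := quasiSeparatedSpace_of_quasiSeparated (c.π.app i₀)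
  have hts : ∀ i, c.π.app i ≫ t.app i = c.π.app i₀ ≫ t.app i₀ := by
    intro i
    have h1 : ∀ {a b : I} (u : a ⟶ b), c.π.app a ≫ t.app a = c.π.app b ≫ t.app b := by
      intro a b u
      have h2 := t.naturality u
      rw [← c.w u, Category.assoc, h2]
      simp
    rw [← h1 (IsCofiltered.minToLeft i i₀), h1 (IsCofiltered.minToRight i i₀)]
  obtain ⟨J, iJ1, iJ2, E, cE, hcE, e, hE1, hE2⟩ := exists_limit_proper_fp chow h
  obtain ⟨j⟩ : Nonempty J := IsCofiltered.nonempty
  obtain ⟨hj1, hj2, hj3⟩ := hE2 j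
  obtain ⟨Y', p, ι, hp2, hp3, hι, hιp⟩ : ∃ (Y' : Scheme.{u}) (p : Y' ⟶ c.pt) (ι : Y ⟶ Y'),
      IsProper p ∧ LocallyOfFinitePresentation p ∧ IsClosedImmersion ι ∧ ι ≫ p = h :=
    ⟨(E.obj j).left, (E.obj j).hom, e.inv.left ≫ (cE.π.app j).left, hj2, hj3, inferInstance, by
      rw [Category.assoc, Over.w]; exact Over.w e.inv⟩
  obtain ⟨i₁, Y₁, p₁, g, hp1a, hp1b, hp1c, hpb⟩ := Groth.Agent.S0591.result D c hc Y' p
  have hcY1 : CompactSpace Y₁ := QuasiCompact.compactSpace_of_compactSpace p₁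
  have hqY1 : QuasiSeparatedSpace Y₁ := quasiSeparatedSpace_of_quasiSeparated p₁
  have hlft1 : LocallyOfFiniteType p₁ := inferInstance
  have hprop : IsProper (pullback.fst (c.π.app i₁) p₁) := by
    have e1 : pullback.fst (c.π.app i₁) p₁ = hpb.flip.isoPullback.inv ≫ p := by
      rw [Iso.eq_inv_comp]
      exact hpb.flip.isoPullback_hom_fst
    rw [e1]
    infer_instance
  obtain ⟨k, hk⟩ := exists_isProper_pullback_fst D c i₁ chow hc p₁ hprop
  -- the system of base changes of `Y₁`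
  let t' : ∀ k' : Over i₁, (sys D i₁ p₁).obj k' ⟶ S := fun k' =>
    pullback.fst (D.map k'.hom) p₁ ≫ t.app k'.left
  have ht' : ∀ {a b : Over i₁} (u : a ⟶ b), (sys D i₁ p₁).map u ≫ t' b = t' a := by
    intro a b u
    change (sys D i₁ p₁).map u ≫ pullback.fst (D.map b.hom) p₁ ≫ t.app b.left =
      pullback.fst (D.map a.hom) p₁ ≫ t.app a.left
    rw [← Category.assoc, sys_map_fst, Category.assoc]
    have h2 := t.naturality u.left
    rw [h2]
    simp
  obtain ⟨h', hh'def⟩ : ∃ h' : Y ⟶ (sysCone D c i₁ p₁).pt, h' = ι ≫ hpb.flip.isoPullback.hom :=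
    ⟨_, rfl⟩
  have hh'1 : h' ≫ pullback.fst (c.π.app i₁) p₁ = h := by
    rw [hh'def, Category.assoc, hpb.flip.isoPullback_hom_fst, hιp]
  have hh'cl : IsClosedImmersion h' := by
    rw [hh'def]
    infer_instance
  have hlft' : LocallyOfFiniteType (h' ≫ (sysCone D c i₁ p₁).π.app k ≫ t' k) := by
    have e2 : h' ≫ (sysCone D c i₁ p₁).π.app k ≫ t' k = h ≫ c.π.app i₀ ≫ t.app i₀ := by
      change h' ≫ (sysCone D c i₁ p₁).π.app k ≫ pullback.fst (D.map k.hom) p₁ ≫ t.app k.left = _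
      rw [← Category.assoc ((sysCone D c i₁ p₁).π.app k), sysCone_π_fst, Category.assoc,
        ← Category.assoc h', hh'1, hts]
    rw [e2]
    infer_instance
  obtain ⟨k'', a, hcl⟩ := exists_isClosedImmersion_comp_π (sys D i₁ p₁) (sysCone D c i₁ p₁)
    (isLimitSysCone D c i₁ p₁ hc) t' ht' h' k
  have hk'' : IsProper (pullback.fst (D.map k''.hom) p₁) :=
    stage_of_hom D i₁ p₁ @IsProper a hk
  have hfin : IsProper (h ≫ c.π.app k''.left) := by
    have e3 : h ≫ c.π.app k''.left =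
        (h' ≫ (sysCone D c i₁ p₁).π.app k'') ≫ pullback.fst (D.map k''.hom) p₁ := by
      rw [Category.assoc, sysCone_π_fst, ← Category.assoc, hh'1]
    rw [e3]
    infer_instance
  refine ⟨k''.left, fun i u => ?_⟩
  have e4 : (h ≫ c.π.app i) ≫ D.map u = h ≫ c.π.app k''.left := by rw [Category.assoc, c.w]
  have h5 : IsProper ((h ≫ c.π.app i) ≫ D.map u) := e4 ▸ hfin
  exact IsProper.of_comp _ (D.map u)

end Groth.Agent.Lib.Helper14.ProperLim
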