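import Mathlib
import Groth.Agent.Lib.Helper49.KunnethH0
import Groth.Agent.Lib.Helper70.GrpTransC

/-!
# A quasi-affine group scheme over a field is affine

* `grpObjOfDense` : a group object structure on the target of a "dense" map `a : G ⟶ A` out of a
  group object to which multiplication and inverse extend.
* `isIso_tensorHom_left_appTop` : Künneth in degree zero for maps inducing isomorphisms on global
  sections.
* `isAffine_of_isQuasiAffine_grp` : a quasi-affine group scheme over a field is affine: the group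
  structure extends to `Spec Γ(G)`, and the open immersion `G ⟶ Spec Γ(G)` is then a homomorphism of
  group schemes over a field, hence a closed immersion.
-/

set_option autoImplicit false
universe v u
open CategoryTheory CategoryTheory.Limits MonoidalCategory CartesianMonoidalCategory MonObj
  AlgebraicGeometry

namespace Groth.Agent.Lib.Helper14.QuasiAffineGroup

section

variable {C : Type u} [Category.{v} C] [CartesianMonoidalCategory C] {G A : C} [GrpObj G]
  (a : G ⟶ A)
  (h1 : ∀ f g : A ⟶ A, a ≫ f = a ≫ g → f = g)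
  (h3 : ∀ f g : (A ⊗ A) ⊗ A ⟶ A, ((a ⊗ₘ a) ⊗ₘ a) ≫ f = ((a ⊗ₘ a) ⊗ₘ a) ≫ g → f = g)
  (m : A ⊗ A ⟶ A) (hm : (a ⊗ₘ a) ≫ m = μ[G] ≫ a)
  (v : A ⟶ A) (hv : a ≫ v = ι[G] ≫ a)

omit [GrpObj G] in
include h1 in
theorem dense_cancel_left {f g : 𝟙_ C ⊗ A ⟶ A} (h : (𝟙_ C ◁ a) ≫ f = (𝟙_ C ◁ a) ≫ g) : f = g := by
  have := h1 ((λ_ A).inv ≫ f) ((λ_ A).inv ≫ g) (by
    rw [← Category.assoc, ← Category.assoc, leftUnitor_inv_naturality, Category.assoc,
      Category.assoc, h])
  exact (cancel_epi (λ_ A).inv).mp this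

omit [GrpObj G] in
include h1 in
theorem dense_cancel_right {f g : A ⊗ 𝟙_ C ⟶ A} (h : (a ▷ 𝟙_ C) ≫ f = (a ▷ 𝟙_ C) ≫ g) : f = g := by
  have := h1 ((ρ_ A).inv ≫ f) ((ρ_ A).inv ≫ g) (by
    rw [← Category.assoc, ← Category.assoc, rightUnitor_inv_naturality, Category.assoc,
      Category.assoc, h])
  exact (cancel_epi (ρ_ A).inv).mp this

/-- The group object structure on the target of a "dense" map `a : G ⟶ A` to which multiplication
and inverse extend. -/
@[reducible] noncomputable def grpObjOfDense : GrpObj A where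
  one := η[G] ≫ a
  mul := m
  inv := v
  one_mul := by
    apply dense_cancel_left a h1
    have e1 : (𝟙_ C ◁ a) ≫ ((η[G] ≫ a) ▷ A) = (η[G] ▷ G) ≫ (a ⊗ₘ a) := by
      rw [← tensorHom_id, ← id_tensorHom, ← tensorHom_id, tensorHom_comp_tensorHom,
        tensorHom_comp_tensorHom]
      simp
    rw [← Category.assoc, e1, Category.assoc, hm, ← Category.assoc, MonObj.one_mul,
      leftUnitor_naturality]
  mul_one := by
    apply dense_cancel_right a h1
    have e1 : (a ▷ 𝟙_ C) ≫ (A ◁ (η[G] ≫ a)) = (G ◁ η[G]) ≫ (a ⊗ₘ a) := by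
      rw [← tensorHom_id, ← id_tensorHom, ← id_tensorHom, tensorHom_comp_tensorHom,
        tensorHom_comp_tensorHom]
      simp
    rw [← Category.assoc, e1, Category.assoc, hm, ← Category.assoc, MonObj.mul_one,
      rightUnitor_naturality]
  mul_assoc := by
    apply h3
    have e1 : ((a ⊗ₘ a) ⊗ₘ a) ≫ (m ▷ A) = (μ[G] ▷ G) ≫ (a ⊗ₘ a) := by
      rw [← tensorHom_id, ← tensorHom_id, tensorHom_comp_tensorHom, tensorHom_comp_tensorHom, hm]
      simp
    have e2 : (a ⊗ₘ (a ⊗ₘ a)) ≫ (A ◁ m) = (G ◁ μ[G]) ≫ (a ⊗ₘ a) := by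
      rw [← id_tensorHom, ← id_tensorHom, tensorHom_comp_tensorHom, tensorHom_comp_tensorHom, hm]
      simp
    have eL : ((a ⊗ₘ a) ⊗ₘ a) ≫ (m ▷ A) ≫ m = (μ[G] ▷ G ≫ μ[G]) ≫ a := by
      rw [← Category.assoc, e1, Category.assoc, hm, Category.assoc]
    have eR : ((a ⊗ₘ a) ⊗ₘ a) ≫ (α_ A A A).hom ≫ (A ◁ m) ≫ m =
        ((α_ G G G).hom ≫ G ◁ μ[G] ≫ μ[G]) ≫ a := by
      rw [← Category.assoc, associator_naturality, Category.assoc, ← Category.assoc _ (A ◁ m), e2,
        Category.assoc, hm]
      simp only [Category.assoc]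
    rw [eL, eR, MonObj.mul_assoc]
  left_inv := by
    apply h1
    have e1 : a ≫ lift v (𝟙 A) = lift ι[G] (𝟙 G) ≫ (a ⊗ₘ a) := by
      rw [comp_lift, lift_map, hv]; simp
    rw [← Category.assoc, e1, Category.assoc, hm, ← Category.assoc, GrpObj.left_inv,
      Category.assoc, ← Category.assoc a, toUnit_unique (a ≫ toUnit A) (toUnit G)]
  right_inv := by
    apply h1
    have e1 : a ≫ lift (𝟙 A) v = lift (𝟙 G) ι[G] ≫ (a ⊗ₘ a) := by
      rw [comp_lift, lift_map, hv]; simp
    rw [← Category.assoc, e1, Category.assoc, hm, ← Category.assoc, GrpObj.right_inv,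
      Category.assoc, ← Category.assoc a, toUnit_unique (a ≫ toUnit A) (toUnit G)]

theorem isMonHom_of_grpObjOfDense :
    letI := grpObjOfDense a h1 h3 m hm v hv
    IsMonHom a :=
  letI := grpObjOfDense a h1 h3 m hm v hv
  { one_hom := rfl
    mul_hom := hm.symm }

include h1 h3 hm hv in
theorem exists_grpObj_of_dense : ∃ _ : GrpObj A, IsMonHom a :=
  ⟨grpObjOfDense a h1 h3 m hm v hv, isMonHom_of_grpObjOfDense a h1 h3 m hm v hv⟩

end


/-- maps into an affine scheme are determined after precomposition with a map inducing an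
isomorphism on global sections. -/
theorem ext_of_isIso_appTop {X Y Z : Scheme.{u}} [IsAffine Z] (q : X ⟶ Y) [IsIso q.appTop]
    {f g : Y ⟶ Z} (h : q ≫ f = q ≫ g) : f = g := by
  apply ext_of_isAffine
  have := congrArg Scheme.Hom.appTop h
  rw [Scheme.Hom.comp_appTop, Scheme.Hom.comp_appTop] at this
  exact (cancel_mono q.appTop).mp this

/-- maps into an affine scheme extend along a map inducing an isomorphism on global sections. -/
theorem exists_lift_of_isIso_appTop {X Y Z : Scheme.{u}} [IsAffine Z] (q : X ⟶ Y) [IsIso q.appTop]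
    (h : X ⟶ Z) : ∃ f : Y ⟶ Z, q ≫ f = h := by
  refine ⟨Y.toSpecΓ ≫ Spec.map (h.appTop ≫ inv q.appTop) ≫ Z.isoSpec.inv, ?_⟩
  rw [← Category.assoc, Scheme.toSpecΓ_naturality, Category.assoc, ← Category.assoc (Spec.map _),
    ← Spec.map_comp, Category.assoc, IsIso.inv_hom_id, Category.comp_id, ← Category.assoc,
    ← Scheme.toSpecΓ_naturality, Category.assoc]
  change h ≫ Z.isoSpec.hom ≫ Z.isoSpec.inv = h
  rw [Iso.hom_inv_id, Category.comp_id]

variable {S : Scheme.{u}} [IsAffine S]

omit [IsAffine S] in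
theorem over_ext_of_isIso_appTop {X Y Z : Over S} [IsAffine Z.left] (q : X ⟶ Y)
    [IsIso q.left.appTop] {f g : Y ⟶ Z} (h : q ≫ f = q ≫ g) : f = g := by
  apply Over.OverMorphism.ext
  apply ext_of_isIso_appTop q.left
  rw [← Over.comp_left, ← Over.comp_left, h]

theorem over_exists_lift_of_isIso_appTop {X Y Z : Over S} [IsAffine Z.left] (q : X ⟶ Y)
    [IsIso q.left.appTop] (h : X ⟶ Z) : ∃ f : Y ⟶ Z, q ≫ f = h := by
  obtain ⟨f₀, hf₀⟩ := exists_lift_of_isIso_appTop q.left h.left
  have hw : f₀ ≫ Z.hom = Y.hom := by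
    apply ext_of_isIso_appTop q.left
    rw [← Category.assoc, hf₀, Over.w, Over.w]
  refine ⟨Over.homMk f₀ hw, ?_⟩
  apply Over.OverMorphism.ext
  simpa using hf₀


variable {k : Type u} [Field k]

/-- Künneth in degree zero: tensor products of maps inducing isomorphisms on global sections
induce isomorphisms on global sections (qcqs schemes over a field). -/
theorem isIso_tensorHom_left_appTop {X' X Y' Y : Over (Spec (CommRingCat.of k))}
    [CompactSpace X'.left] [QuasiSeparatedSpace X'.left]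
    [CompactSpace X.left] [QuasiSeparatedSpace X.left]
    [CompactSpace Y'.left] [QuasiSeparatedSpace Y'.left]
    [CompactSpace Y.left] [QuasiSeparatedSpace Y.left]
    (x : X' ⟶ X) (y : Y' ⟶ Y) [IsIso x.left.appTop] [IsIso y.left.appTop] :
    IsIso (x ⊗ₘ y).left.appTop := by
  have P := Groth.Agent.Lib.Helper49.KunnethH0.isPushout_appTop_of_field k X.hom Y.hom
  have P' := Groth.Agent.Lib.Helper49.KunnethH0.isPushout_appTop_of_field k X'.hom Y'.hom
  have hx : X'.hom.appTop = X.hom.appTop ≫ x.left.appTop := by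
    rw [← Scheme.Hom.comp_appTop, Over.w]
  have hy : Y'.hom.appTop = Y.hom.appTop ≫ y.left.appTop := by
    rw [← Scheme.Hom.comp_appTop, Over.w]
  have h1 : (pullback.fst X.hom Y.hom).appTop ≫ (x ⊗ₘ y).left.appTop =
      x.left.appTop ≫ (pullback.fst X'.hom Y'.hom).appTop := by
    rw [← Scheme.Hom.comp_appTop, ← Scheme.Hom.comp_appTop]
    congr 1
    simp
  have h2 : (pullback.snd X.hom Y.hom).appTop ≫ (x ⊗ₘ y).left.appTop =
      y.left.appTop ≫ (pullback.snd X'.hom Y'.hom).appTop := by
    rw [← Scheme.Hom.comp_appTop, ← Scheme.Hom.comp_appTop]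
    congr 1
    simp
  let ψ := P'.desc (inv x.left.appTop ≫ (pullback.fst X.hom Y.hom).appTop)
    (inv y.left.appTop ≫ (pullback.snd X.hom Y.hom).appTop) (by
      rw [hx, hy, Category.assoc, Category.assoc, IsIso.hom_inv_id_assoc, IsIso.hom_inv_id_assoc]
      exact P.w)
  refine ⟨ψ, ?_, ?_⟩
  · apply P.hom_ext
    · rw [← Category.assoc, h1, Category.assoc, P'.inl_desc, IsIso.hom_inv_id_assoc]
      exact (Category.comp_id _).symm
    · rw [← Category.assoc, h2, Category.assoc, P'.inr_desc, IsIso.hom_inv_id_assoc]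
      exact (Category.comp_id _).symm
  · apply P'.hom_ext
    · rw [← Category.assoc, P'.inl_desc, Category.assoc, h1, IsIso.inv_hom_id_assoc]
      exact (Category.comp_id _).symm
    · rw [← Category.assoc, P'.inr_desc, Category.assoc, h2, IsIso.inv_hom_id_assoc]
      exact (Category.comp_id _).symm


variable {S : Scheme.{u}} [IsAffine S]

theorem compactSpace_tensorObj_left (X Y : Over S) [CompactSpace X.left] [CompactSpace Y.left] :
    CompactSpace (X ⊗ Y).left := by
  have : QuasiCompact X.hom := inferInstance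
  have : QuasiCompact (pullback.snd X.hom Y.hom) := inferInstance
  exact QuasiCompact.compactSpace_of_compactSpace (pullback.snd X.hom Y.hom)

omit [IsAffine S] in
theorem quasiSeparatedSpace_tensorObj_left (X Y : Over S) [QuasiSeparatedSpace X.left]
    [QuasiSeparatedSpace Y.left] : QuasiSeparatedSpace (X ⊗ Y).left := by
  have : QuasiSeparated X.hom := inferInstance
  have : QuasiSeparated (pullback.snd X.hom Y.hom) := inferInstance
  exact quasiSeparatedSpace_of_quasiSeparated (pullback.snd X.hom Y.hom)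


section main

variable {k : Type u} [Field k]

/-- A quasi-affine group scheme over a field is affine. -/
theorem isAffine_of_isQuasiAffine_grp (G : Over (Spec (CommRingCat.of k))) [GrpObj G]
    [G.left.IsQuasiAffine] : IsAffine G.left := by
  have hS : IsIso (Spec (CommRingCat.of k)).toSpecΓ := inferInstance
  let 𝔸 : Over (Spec (CommRingCat.of k)) :=
    Over.mk (Spec.map G.hom.appTop ≫ inv (Spec (CommRingCat.of k)).toSpecΓ)
  have hw : G.left.toSpecΓ ≫ 𝔸.hom = G.hom := by
    change G.left.toSpecΓ ≫ Spec.map G.hom.appTop ≫ inv (Spec (CommRingCat.of k)).toSpecΓ = G.hom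
    rw [← Category.assoc, ← Scheme.toSpecΓ_naturality, Category.assoc, IsIso.hom_inv_id,
      Category.comp_id]
  let a : G ⟶ 𝔸 := Over.homMk G.left.toSpecΓ hw
  have hA : IsAffine 𝔸.left := inferInstanceAs (IsAffine (Spec _))
  have ha : IsIso a.left.appTop := by
    change IsIso G.left.toSpecΓ.appTop
    rw [Scheme.toSpecΓ_appTop]; infer_instance
  have hG1 : CompactSpace G.left := inferInstance
  have hG2 : QuasiSeparatedSpace G.left := inferInstance
  have hA1 : CompactSpace 𝔸.left := inferInstance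
  have hA2 : QuasiSeparatedSpace 𝔸.left := inferInstance
  have hGG1 := compactSpace_tensorObj_left G G
  have hGG2 := quasiSeparatedSpace_tensorObj_left G G
  have hAA1 := compactSpace_tensorObj_left 𝔸 𝔸
  have hAA2 := quasiSeparatedSpace_tensorObj_left 𝔸 𝔸
  have haa : IsIso (a ⊗ₘ a).left.appTop := isIso_tensorHom_left_appTop a a
  have haaa : IsIso ((a ⊗ₘ a) ⊗ₘ a).left.appTop := isIso_tensorHom_left_appTop (a ⊗ₘ a) a
  obtain ⟨m, hm⟩ := over_exists_lift_of_isIso_appTop (a ⊗ₘ a) (μ[G] ≫ a)
  obtain ⟨v, hv⟩ := over_exists_lift_of_isIso_appTop a (ι[G] ≫ a)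
  obtain ⟨inst, hmon⟩ := exists_grpObj_of_dense a (fun f g h => over_ext_of_isIso_appTop a h)
    (fun f g h => over_ext_of_isIso_appTop ((a ⊗ₘ a) ⊗ₘ a) h) m hm v hv
  have hi : IsImmersion a.left := (inferInstance : IsImmersion G.left.toSpecΓ)
  have hc := Groth.Agent.Lib.Helper70.GrpTrans.isClosedImmersion_of_isImmersion a
  exact isAffine_of_isAffineHom a.left

end main

end Groth.Agent.Lib.Helper14.QuasiAffineGroup
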