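import Groth.Agent.Lib.Helper14.FpqcExt
import Mathlib.AlgebraicGeometry.Morphisms.Immersion
import Mathlib.AlgebraicGeometry.PullbackCarrier
import Mathlib.CategoryTheory.Monoidal.Cartesian.Over

set_option autoImplicit false
universe u
open CategoryTheory CategoryTheory.Limits AlgebraicGeometry TopologicalSpace

namespace Groth.Agent.Lib.Helper14

set_option backward.isDefEq.respectTransparency false in
/-- A closed immersion through which a morphism `j` factors, with `j` injective on sections over
affine opens, is an isomorphism. -/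
theorem isIso_of_isClosedImmersion_of_app_injective {Z W V' : Scheme.{u}} (i : Z ⟶ W)
    [IsClosedImmersion i] (j : V' ⟶ W) (k : V' ⟶ Z) (hk : k ≫ i = j)
    (hj : ∀ U₀ : W.affineOpens, Function.Injective (j.app U₀.1)) : IsIso i := by
  rw [IsClosedImmersion.isIso_iff_ker_eq_bot, eq_bot_iff, Scheme.IdealSheafData.le_def]
  intro U₀
  refine (i.ideal_ker_le U₀).trans ?_
  rw [Scheme.IdealSheafData.ideal_bot]
  intro x hx
  rw [RingHom.mem_ker] at hx
  have h0 : j.app U₀.1 x = 0 := by
    subst hk
    rw [Scheme.Hom.comp_app, ConcreteCategory.comp_apply, hx, map_zero]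
  exact hj U₀ (h0.trans (map_zero _).symm)

set_option backward.isDefEq.respectTransparency false in
theorem eq_of_eq_on_relSchDense_of_fibres_separated (S : Scheme.{u}) (X Y : Over S)
    (U : X.left.Opens)
    (hU : (∀ (S' : Scheme.{u}) (g : S' ⟶ S),
      CInt.IsSchematicallyDense ((pullback.fst X.hom g) ⁻¹ᵁ U)))
    (hY : ∀ s : S, IsSeparated (pullback.snd Y.hom (S.fromSpecResidueField s)))
    (f g : X ⟶ Y) (h : U.ι ≫ f.left = U.ι ≫ g.left) : f = g := by
  ext1
  have ha : f.left ≫ Y.hom = X.hom := Over.w f
  have hb : g.left ≫ Y.hom = X.hom := Over.w g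
  have hfib : ∀ s : S, pullback.fst X.hom (S.fromSpecResidueField s) ≫ f.left =
      pullback.fst X.hom (S.fromSpecResidueField s) ≫ g.left := by
    intro s
    have : IsSeparated (pullback.snd Y.hom (S.fromSpecResidueField s)) := hY s
    obtain ⟨a_s, ha1, ha2⟩ : ∃ a_s : pullback X.hom (S.fromSpecResidueField s) ⟶
        pullback Y.hom (S.fromSpecResidueField s),
        a_s ≫ pullback.fst Y.hom (S.fromSpecResidueField s) =
          pullback.fst X.hom (S.fromSpecResidueField s) ≫ f.left ∧
        a_s ≫ pullback.snd Y.hom (S.fromSpecResidueField s) =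
          pullback.snd X.hom (S.fromSpecResidueField s) :=
      ⟨pullback.lift (pullback.fst X.hom (S.fromSpecResidueField s) ≫ f.left)
        (pullback.snd X.hom (S.fromSpecResidueField s))
        (by rw [Category.assoc, ha, pullback.condition]), pullback.lift_fst _ _ _,
        pullback.lift_snd _ _ _⟩
    obtain ⟨b_s, hb1, hb2⟩ : ∃ b_s : pullback X.hom (S.fromSpecResidueField s) ⟶
        pullback Y.hom (S.fromSpecResidueField s),
        b_s ≫ pullback.fst Y.hom (S.fromSpecResidueField s) =
          pullback.fst X.hom (S.fromSpecResidueField s) ≫ g.left ∧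
        b_s ≫ pullback.snd Y.hom (S.fromSpecResidueField s) =
          pullback.snd X.hom (S.fromSpecResidueField s) :=
      ⟨pullback.lift (pullback.fst X.hom (S.fromSpecResidueField s) ≫ g.left)
        (pullback.snd X.hom (S.fromSpecResidueField s))
        (by rw [Category.assoc, hb, pullback.condition]), pullback.lift_fst _ _ _,
        pullback.lift_snd _ _ _⟩
    have e : a_s = b_s := by
      refine ext_of_schematicallyDense_of_isSeparated
        (pullback.snd Y.hom (S.fromSpecResidueField s)) ?_ _
        (hU _ (S.fromSpecResidueField s)) ?_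
      · rw [ha2, hb2]
      · apply pullback.hom_ext
        · rw [Category.assoc, Category.assoc, ha1, hb1,
            ← morphismRestrict_ι_assoc, ← morphismRestrict_ι_assoc, h]
        · rw [Category.assoc, Category.assoc, ha2, hb2]
    rw [← ha1, ← hb1, e]
  have hsurj : Function.Surjective (equalizer.ι f.left g.left) := by
    intro x
    obtain ⟨z, hz1, hz2⟩ := Scheme.Pullback.exists_preimage_pullback (f := X.hom)
      (g := S.fromSpecResidueField (X.hom x)) x default
      (by rw [Scheme.fromSpecResidueField_apply])
    refine ⟨equalizer.lift _ (hfib (X.hom x)) z, ?_⟩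
    rw [← Scheme.Hom.comp_apply, equalizer.lift_ι, hz1]
  have : IsClosedImmersion (equalizer.ι f.left g.left) :=
    .of_isPreimmersion _ (by rw [hsurj.range_eq]; exact isClosed_univ)
  have : IsIso (equalizer.ι f.left g.left) := by
    have hd := hU S (𝟙 S)
    refine isIso_of_isClosedImmersion_of_app_injective (equalizer.ι f.left g.left)
      ((pullback.fst X.hom (𝟙 S) ⁻¹ᵁ U).ι ≫ pullback.fst X.hom (𝟙 S))
      ((pullback.fst X.hom (𝟙 S) ∣_ U) ≫ equalizer.lift U.ι h) ?_ ?_
    · rw [Category.assoc, equalizer.lift_ι, morphismRestrict_ι]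
    · intro U₀
      rw [Scheme.Hom.comp_app]
      intro x y hxy
      rw [ConcreteCategory.comp_apply, ConcreteCategory.comp_apply] at hxy
      have h1 := ι_app_injective_of_schematicallyDense _ hd _ hxy
      exact (ConcreteCategory.bijective_of_isIso
        ((pullback.fst X.hom (𝟙 S)).app U₀.1)).1 h1
  rw [← cancel_epi (equalizer.ι f.left g.left)]
  exact equalizer.condition f.left g.left

end Groth.Agent.Lib.Helper14
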