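import Mathlib

/-!
# Algebra for the rigidity lemma of anti-affine schemes

* `exists_sub_one_mem_and_mul_eq_zero` : Krull + Nakayama.
* `exists_tmul_mul_eq_zero` : an ideal of `A ⊗[K] B` dying in all `A ⊗ B/mⁿ` is killed by `1 ⊗ s`,
  `s ≡ 1 mod m` (the "tube" in the rigidity lemma).
-/

set_option autoImplicit false
universe u
open TensorProduct

namespace Groth.Agent.Lib.Helper14.Rigidity

/-- Krull + Nakayama: in a noetherian ring there is `s ≡ 1 mod m` killing `⋂ mⁿ`. -/
theorem exists_sub_one_mem_and_mul_eq_zero {B : Type u} [CommRing B] [IsNoetherianRing B]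
    (m : Ideal B) : ∃ s : B, s - 1 ∈ m ∧ ∀ b : B, (∀ n : ℕ, b ∈ m ^ n) → s * b = 0 := by
  let J : Submodule B B := ⨅ i : ℕ, (m ^ i • ⊤ : Submodule B B)
  have hJ : ∀ b : B, (∀ n : ℕ, b ∈ m ^ n) → b ∈ J := by
    intro b hb
    rw [Submodule.mem_iInf]
    intro i
    have : (m ^ i • ⊤ : Submodule B B) = m ^ i := by simp
    rw [this]
    exact hb i
  have hle : J ≤ m • J := by
    intro b hb
    obtain ⟨r, hr⟩ := (Ideal.mem_iInf_smul_pow_eq_bot_iff m b).mp hb
    rw [← hr]
    exact Submodule.smul_mem_smul r.2 hb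
  obtain ⟨s, hs1, hs2⟩ := Submodule.exists_sub_one_mem_and_smul_eq_zero_of_fg_of_le_smul m J
    (IsNoetherian.noetherian J) hle
  exact ⟨s, hs1, fun b hb => by simpa using hs2 b (hJ b hb)⟩

variable (K A B : Type u) [Field K] [CommRing A] [CommRing B] [Algebra K A] [Algebra K B]

/-- If an ideal of `A ⊗ B` dies in `A ⊗ B/mⁿ` for all `n` (`B` noetherian, `K` a field), then it is
killed by `1 ⊗ s` for some `s ≡ 1 mod m`. -/
theorem exists_tmul_mul_eq_zero [IsNoetherianRing B] (m : Ideal B) (I : Ideal (A ⊗[K] B))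
    (hI : ∀ n : ℕ, ∀ x ∈ I,
      Algebra.TensorProduct.map (AlgHom.id K A) (Ideal.Quotient.mkₐ K (m ^ n)) x = 0) :
    ∃ s : B, s - 1 ∈ m ∧ ∀ x ∈ I, ((1 : A) ⊗ₜ[K] s) * x = 0 := by
  classical
  obtain ⟨s, hs1, hs2⟩ := exists_sub_one_mem_and_mul_eq_zero m
  refine ⟨s, hs1, fun x hx => ?_⟩
  let bA := Module.Free.chooseBasis K A
  let e := TensorProduct.equivFinsuppOfBasisLeft (N := B) bA
  -- coordinates are compatible with right multiplication
  have hmul : ∀ (y : A ⊗[K] B) (i), e (((1 : A) ⊗ₜ[K] s) * y) i = s * e y i := by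
    intro y i
    induction y using TensorProduct.induction_on with
    | zero => simp
    | tmul a b =>
      rw [Algebra.TensorProduct.tmul_mul_tmul, one_mul]
      simp only [e, TensorProduct.equivFinsuppOfBasisLeft_apply_tmul_apply]
      rw [mul_smul_comm]
    | add y z hy hz =>
      rw [mul_add, map_add, Finsupp.add_apply, hy, hz, map_add, Finsupp.add_apply, mul_add]
  -- coordinates are compatible with reduction mod `mⁿ`
  have hred : ∀ (n : ℕ) (y : A ⊗[K] B) (i),
      TensorProduct.equivFinsuppOfBasisLeft (N := B ⧸ m ^ n) bA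
        (Algebra.TensorProduct.map (AlgHom.id K A) (Ideal.Quotient.mkₐ K (m ^ n)) y) i =
      Ideal.Quotient.mk (m ^ n) (e y i) := by
    intro n y i
    induction y using TensorProduct.induction_on with
    | zero => simp
    | tmul a b =>
      simp only [e, Algebra.TensorProduct.map_tmul, AlgHom.coe_id, id_eq,
        TensorProduct.equivFinsuppOfBasisLeft_apply_tmul_apply, Ideal.Quotient.mkₐ_eq_mk]
      rw [Algebra.smul_def, Algebra.smul_def, map_mul]
      rfl
    | add y z hy hz =>
      rw [map_add, map_add, Finsupp.add_apply, hy, hz, map_add, Finsupp.add_apply, map_add]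
  have hcoord : ∀ i, s * e x i = 0 := by
    intro i
    apply hs2
    intro n
    rw [← Ideal.Quotient.eq_zero_iff_mem, ← hred, hI n x hx]
    simp
  apply e.injective
  rw [map_zero]
  ext i
  rw [hmul, hcoord]
  rfl

end Groth.Agent.Lib.Helper14.Rigidity
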