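import Mathlib

/-!
# Subgroup objects from monomorphisms

A monomorphism `i : K ⟶ G` into a group object of a cartesian monoidal category through which the
unit, the restricted multiplication and the restricted inverse factor carries a unique group object
structure making `i` a homomorphism.
-/

set_option autoImplicit false
universe v u
open CategoryTheory MonoidalCategory CartesianMonoidalCategory MonObj

namespace Groth.Agent.Lib.Helper14

section

variable {C : Type u} [Category.{v} C] [CartesianMonoidalCategory C] {G K : C} [GrpObj G]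
  (i : K ⟶ G) (m' : K ⊗ K ⟶ K) (hm : m' ≫ i = (i ⊗ₘ i) ≫ μ[G])

include hm in
theorem subgroup_key {T : C} (a b : T ⟶ K) : (lift a b ≫ m') ≫ i = (a ≫ i) * (b ≫ i) := by
  rw [Category.assoc, hm, ← Category.assoc, lift_map, Hom.mul_def]

variable [Mono i] (e' : 𝟙_ C ⟶ K) (he : e' ≫ i = η[G]) (v' : K ⟶ K) (hv : v' ≫ i = i ≫ ι[G])

/-- The group object structure on a "subgroup" `i : K ⟶ G`. -/
@[reducible] noncomputable def grpObjOfMono : GrpObj K where
  one := e'
  mul := m'
  inv := v'
  one_mul := by
    rw [← cancel_mono i]
    have h1 : e' ▷ K = lift (fst _ _ ≫ e') (snd _ _) := by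
      apply CartesianMonoidalCategory.hom_ext <;> simp
    rw [h1, subgroup_key i m' hm, Category.assoc, he, leftUnitor_hom]
    have h2 : fst (𝟙_ C) K ≫ η[G] = 1 := by
      rw [Hom.one_def, toUnit_unique (fst (𝟙_ C) K) (toUnit _)]
    rw [h2, _root_.one_mul]
  mul_one := by
    rw [← cancel_mono i]
    have h1 : K ◁ e' = lift (fst _ _) (snd _ _ ≫ e') := by
      apply CartesianMonoidalCategory.hom_ext <;> simp
    rw [h1, subgroup_key i m' hm, Category.assoc, he, rightUnitor_hom]
    have h2 : snd K (𝟙_ C) ≫ η[G] = 1 := by
      rw [Hom.one_def, toUnit_unique (snd K (𝟙_ C)) (toUnit _)]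
    rw [h2, _root_.mul_one]
  mul_assoc := by
    rw [← cancel_mono i]
    have h1 : m' ▷ K = lift (lift (fst _ _ ≫ fst _ _) (fst _ _ ≫ snd _ _) ≫ m') (snd _ _) := by
      apply CartesianMonoidalCategory.hom_ext
      · simp only [whiskerRight_fst, lift_fst]
        congr 1
        apply CartesianMonoidalCategory.hom_ext <;> simp
      · simp
    have h2 : (α_ K K K).hom ≫ K ◁ m' =
        lift (fst _ _ ≫ fst _ _) (lift (fst _ _ ≫ snd _ _) (snd _ _) ≫ m') := by
      apply CartesianMonoidalCategory.hom_ext
      · simp
      · simp only [Category.assoc, whiskerLeft_snd, lift_snd]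
        rw [← Category.assoc]
        congr 1
        apply CartesianMonoidalCategory.hom_ext <;> simp
    rw [h1, ← Category.assoc (α_ K K K).hom, h2, subgroup_key i m' hm, subgroup_key i m' hm,
      subgroup_key i m' hm, subgroup_key i m' hm, _root_.mul_assoc]
  left_inv := by
    rw [← cancel_mono i, subgroup_key i m' hm, hv, Category.id_comp, Category.assoc, he,
      ← Hom.inv_def, inv_mul_cancel, Hom.one_def]
  right_inv := by
    rw [← cancel_mono i, subgroup_key i m' hm, hv, Category.id_comp, Category.assoc, he,
      ← Hom.inv_def, mul_inv_cancel, Hom.one_def]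

theorem isMonHom_of_grpObjOfMono :
    letI := grpObjOfMono i m' hm e' he v' hv
    IsMonHom i :=
  letI := grpObjOfMono i m' hm e' he v' hv
  { one_hom := he
    mul_hom := hm }

end

end Groth.Agent.Lib.Helper14
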