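import Mathlib
import Groth.Agent.Lib.Helper14.SubgroupOfMono
import Groth.Agent.Lib.Helper14.DominantQC
import Groth.Agent.Lib.Helper48.SchemeImage3

/-!
# The schematic image of a quasi-compact homomorphism of group schemes over a field is a closed
subgroup scheme (SGA3 VI_B 1.2 / VI_A 0.5.2)
-/

set_option autoImplicit false
universe u
open CategoryTheory CategoryTheory.Limits MonoidalCategory CartesianMonoidalCategory MonObj
  AlgebraicGeometry

namespace Groth.Agent.Lib.Helper14

section General

variable {S : Scheme.{u}} {H G : Over S} (f : H ⟶ G)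

/-- the schematic image as an object over `S` -/
noncomputable def imgObj : Over S := Over.mk (f.left.imageι ≫ G.hom)

/-- the inclusion of the schematic image -/
noncomputable def imgι : imgObj f ⟶ G := Over.homMk f.left.imageι rfl

/-- the map to the schematic image -/
noncomputable def toImg : H ⟶ imgObj f :=
  Over.homMk f.left.toImage (by
    show f.left.toImage ≫ f.left.imageι ≫ G.hom = H.hom
    rw [Scheme.Hom.toImage_imageι_assoc, Over.w f])

@[reassoc (attr := simp)]
theorem toImg_imgι : toImg f ≫ imgι f = f := by
  apply Over.OverMorphism.ext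
  show f.left.toImage ≫ f.left.imageι = f.left
  exact Scheme.Hom.toImage_imageι _

instance : IsClosedImmersion (imgι f).left :=
  inferInstanceAs (IsClosedImmersion f.left.imageι)

instance : Mono (imgι f) := by
  have : Mono ((Over.forget S).map (imgι f)) := inferInstanceAs (Mono f.left.imageι)
  exact (Over.forget S).mono_of_mono_map this

instance [QuasiCompact f.left] : QuasiCompact (toImg f).left :=
  inferInstanceAs (QuasiCompact f.left.toImage)

instance [QuasiCompact f.left] : IsSchemeTheoreticallyDominant (toImg f).left :=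
  Groth.Agent.Lib.Helper48.isSchemeTheoreticallyDominant_toImage f.left

/-- A morphism to `G` which, after precomposition with a schematically dominant morphism,
factors through the schematic image of `f`, factors through the schematic image. -/
theorem exists_lift_imgι {P Q : Over S} (a : P ⟶ Q) [IsSchemeTheoreticallyDominant a.left]
    (b : Q ⟶ G) (c : P ⟶ imgObj f) (h : a ≫ b = c ≫ imgι f) :
    ∃ b' : Q ⟶ imgObj f, b' ≫ imgι f = b := by
  have h1 : (a.left ≫ b.left).ker = b.left.ker := by
    rw [Scheme.Hom.ker_comp, Scheme.Hom.ker_eq_bot a.left, Scheme.IdealSheafData.map_bot]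
  have h2 : (imgι f).left.ker ≤ (c.left ≫ (imgι f).left).ker := by
    rw [Scheme.Hom.ker_comp, ← Scheme.IdealSheafData.map_bot]
    exact Scheme.IdealSheafData.map_mono _ bot_le
  have h3 : a.left ≫ b.left = c.left ≫ (imgι f).left := by
    have := congrArg (fun t => t.left) h
    exact this
  have hle : (imgι f).left.ker ≤ b.left.ker := by
    rw [← h1, h3]; exact h2
  refine ⟨Over.homMk (IsClosedImmersion.lift (imgι f).left b.left hle) ?_, ?_⟩
  · rw [← Over.w (imgι f), IsClosedImmersion.lift_fac_assoc, Over.w b]
  · apply Over.OverMorphism.ext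
    show IsClosedImmersion.lift (imgι f).left b.left hle ≫ (imgι f).left = b.left
    exact IsClosedImmersion.lift_fac _ _ _

end General

section Field

variable {k : Type u} [Field k] {H G : Over (Spec (CommRingCat.of k))}

/-- Over a field, the product of two schematically dominant quasi-compact morphisms is
schematically dominant. -/
theorem isSchemeTheoreticallyDominant_tensorHom {P P' Q Q' : Over (Spec (CommRingCat.of k))}
    (a : P ⟶ Q) (a' : P' ⟶ Q') [IsSchemeTheoreticallyDominant a.left] [QuasiCompact a.left]
    [IsSchemeTheoreticallyDominant a'.left] [QuasiCompact a'.left] :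
    IsSchemeTheoreticallyDominant (a ⊗ₘ a').left := by
  have e : (a ⊗ₘ a').left = (a ▷ P').left ≫ (Q ◁ a').left := by
    rw [MonoidalCategory.tensorHom_def]; rfl
  have hfl1 : Flat (fst Q P').left := by rw [Over.fst_left]; infer_instance
  have hfl2 : Flat (snd Q Q').left := by rw [Over.snd_left]; infer_instance
  have h1 : IsSchemeTheoreticallyDominant (a ▷ P').left :=
    IsSchemeTheoreticallyDominant.of_isPullback (isPullback_whiskerRight_fst' P' a).flip
  have h2 : IsSchemeTheoreticallyDominant (Q ◁ a').left :=
    IsSchemeTheoreticallyDominant.of_isPullback (isPullback_whiskerLeft_snd' Q a').flip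
  rw [e]
  infer_instance

variable [GrpObj H] [GrpObj G] (f : H ⟶ G) [IsMonHom f] [QuasiCompact f.left]

theorem exists_mul_imgObj :
    ∃ m' : imgObj f ⊗ imgObj f ⟶ imgObj f, m' ≫ imgι f = (imgι f ⊗ₘ imgι f) ≫ μ[G] := by
  have := isSchemeTheoreticallyDominant_tensorHom (toImg f) (toImg f)
  refine exists_lift_imgι f (toImg f ⊗ₘ toImg f) _ (μ[H] ≫ toImg f) ?_
  rw [← Category.assoc, MonoidalCategory.tensorHom_comp_tensorHom, toImg_imgι, Category.assoc,
    toImg_imgι, IsMonHom.mul_hom]

theorem exists_inv_imgObj :
    ∃ v' : imgObj f ⟶ imgObj f, v' ≫ imgι f = imgι f ≫ ι[G] := by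
  refine exists_lift_imgι f (toImg f) _ (ι[H] ≫ toImg f) ?_
  rw [← Category.assoc, toImg_imgι, Category.assoc, toImg_imgι]
  exact (GrpObj.inv_hom f).symm

/-- SGA3 VI_B 1.2: the schematic image of a quasi-compact homomorphism of group schemes over a
field is a closed subgroup scheme, onto which the homomorphism is surjective. -/
theorem exists_grpObj_image :
    ∃ (H' : Over (Spec (CommRingCat.of k))) (_ : GrpObj H') (i : H' ⟶ G) (f' : H ⟶ H'),
      IsMonHom i ∧ IsMonHom f' ∧ f' ≫ i = f ∧ IsClosedImmersion i.left ∧
      IsSchemeTheoreticallyDominant f'.left ∧ QuasiCompact f'.left ∧ Surjective f'.left ∧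
      H' = imgObj f ∧ HEq i (imgι f) ∧ HEq f' (toImg f) := by
  obtain ⟨m', hm⟩ := exists_mul_imgObj f
  obtain ⟨v', hv⟩ := exists_inv_imgObj f
  have he : (η[H] ≫ toImg f) ≫ imgι f = η[G] := by
    rw [Category.assoc, toImg_imgι, IsMonHom.one_hom]
  let inst : GrpObj (imgObj f) := grpObjOfMono (imgι f) m' hm (η[H] ≫ toImg f) he v' hv
  have hi : IsMonHom (imgι f) := isMonHom_of_grpObjOfMono (imgι f) m' hm (η[H] ≫ toImg f) he v' hv
  have hf' : IsMonHom (toImg f) :=
    { one_hom := rfl
      mul_hom := by
        rw [← cancel_mono (imgι f), Category.assoc, toImg_imgι, Category.assoc]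
        have : (μ[imgObj f] : imgObj f ⊗ imgObj f ⟶ imgObj f) ≫ imgι f =
            (imgι f ⊗ₘ imgι f) ≫ μ[G] := hm
        rw [this, ← Category.assoc, MonoidalCategory.tensorHom_comp_tensorHom, toImg_imgι,
          IsMonHom.mul_hom] }
  refine ⟨imgObj f, inst, imgι f, toImg f, hi, hf', toImg_imgι f, inferInstance, inferInstance,
    inferInstance, ?_, rfl, HEq.rfl, HEq.rfl⟩
  have hd : DenseRange (toImg f).left :=
    (inferInstance : IsDominant f.left.toImage).denseRange
  exact surjective_of_denseRange_grpHom (toImg f) hd

end Field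

end Groth.Agent.Lib.Helper14
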