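import Groth.Agent.Lib.Helper14.SchImageGroup

/-!
# Schematic image factorisations of homomorphisms of group schemes over a field

A version of `exists_grpObj_image` for an arbitrary factorisation `H ⟶ K ⟶ G` of a quasi-compact
homomorphism into a schematically dominant morphism followed by a closed immersion.
-/

set_option autoImplicit false
universe u
open CategoryTheory CategoryTheory.Limits MonoidalCategory CartesianMonoidalCategory MonObj
  AlgebraicGeometry

namespace Groth.Agent.Lib.Helper14

section General

variable {S : Scheme.{u}} {G K : Over S}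

/-- A morphism to `G` which, after precomposition with a schematically dominant morphism,
factors through a closed immersion `i`, factors through `i`. -/
theorem exists_lift_closedImmersion (i : K ⟶ G) [IsClosedImmersion i.left] {P Q : Over S}
    (a : P ⟶ Q) [IsSchemeTheoreticallyDominant a.left]
    (b : Q ⟶ G) (c : P ⟶ K) (h : a ≫ b = c ≫ i) :
    ∃ b' : Q ⟶ K, b' ≫ i = b := by
  have h1 : (a.left ≫ b.left).ker = b.left.ker := by
    rw [Scheme.Hom.ker_comp, Scheme.Hom.ker_eq_bot a.left, Scheme.IdealSheafData.map_bot]
  have h2 : i.left.ker ≤ (c.left ≫ i.left).ker := by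
    rw [Scheme.Hom.ker_comp, ← Scheme.IdealSheafData.map_bot]
    exact Scheme.IdealSheafData.map_mono _ bot_le
  have h3 : a.left ≫ b.left = c.left ≫ i.left := by
    have := congrArg (fun t => t.left) h
    exact this
  have hle : i.left.ker ≤ b.left.ker := by
    rw [← h1, h3]; exact h2
  refine ⟨Over.homMk (IsClosedImmersion.lift i.left b.left hle) ?_, ?_⟩
  · rw [← Over.w i, IsClosedImmersion.lift_fac_assoc, Over.w b]
  · apply Over.OverMorphism.ext
    show IsClosedImmersion.lift i.left b.left hle ≫ i.left = b.left
    exact IsClosedImmersion.lift_fac _ _ _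

end General

section Field

variable {k : Type u} [Field k] {H G K : Over (Spec (CommRingCat.of k))} [GrpObj H] [GrpObj G]

/-- For a factorisation `f = g ≫ i` of a quasi-compact homomorphism of group schemes over a field
with `i` a closed immersion and `g` schematically dominant, the group law restricts to `K`, and
`g` is surjective. -/
theorem exists_grpObj_of_factorisation (f : H ⟶ G) [IsMonHom f] [QuasiCompact f.left]
    (i : K ⟶ G) [IsClosedImmersion i.left] (g : H ⟶ K) (hgi : g ≫ i = f)
    [IsSchemeTheoreticallyDominant g.left] :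
    ∃ (m' : K ⊗ K ⟶ K) (v' : K ⟶ K), m' ≫ i = (i ⊗ₘ i) ≫ μ[G] ∧ v' ≫ i = i ≫ ι[G] ∧
      (η[H] ≫ g) ≫ i = η[G] ∧ Surjective g.left := by
  have hqc : QuasiCompact g.left := by
    have : QuasiCompact (g.left ≫ i.left) := by rw [← Over.comp_left, hgi]; infer_instance
    exact QuasiCompact.of_comp g.left i.left
  have hmono : Mono i := by
    have : Mono ((Over.forget _).map i) := inferInstanceAs (Mono i.left)
    exact (Over.forget _).mono_of_mono_map this
  have hdomgg := isSchemeTheoreticallyDominant_tensorHom g g
  obtain ⟨m', hm⟩ : ∃ m' : K ⊗ K ⟶ K, m' ≫ i = (i ⊗ₘ i) ≫ μ[G] := by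
    refine exists_lift_closedImmersion i (g ⊗ₘ g) _ (μ[H] ≫ g) ?_
    rw [← Category.assoc, MonoidalCategory.tensorHom_comp_tensorHom, hgi, Category.assoc, hgi,
      IsMonHom.mul_hom]
  obtain ⟨v', hv⟩ : ∃ v' : K ⟶ K, v' ≫ i = i ≫ ι[G] := by
    refine exists_lift_closedImmersion i g _ (ι[H] ≫ g) ?_
    rw [← Category.assoc, hgi, Category.assoc, hgi]
    exact (GrpObj.inv_hom f).symm
  have he : (η[H] ≫ g) ≫ i = η[G] := by
    rw [Category.assoc, hgi, IsMonHom.one_hom]
  refine ⟨m', v', hm, hv, he, ?_⟩
  let inst : GrpObj K := grpObjOfMono i m' hm (η[H] ≫ g) he v' hv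
  have hi : IsMonHom i := isMonHom_of_grpObjOfMono i m' hm (η[H] ≫ g) he v' hv
  have hg : IsMonHom g :=
    { one_hom := rfl
      mul_hom := by
        rw [← cancel_mono i, Category.assoc, hgi, Category.assoc]
        have : (μ[K] : K ⊗ K ⟶ K) ≫ i = (i ⊗ₘ i) ≫ μ[G] := hm
        rw [this, ← Category.assoc, MonoidalCategory.tensorHom_comp_tensorHom, hgi,
          IsMonHom.mul_hom] }
  have hd : DenseRange g.left := (inferInstance : IsDominant g.left).denseRange
  exact surjective_of_denseRange_grpHom g hd

end Field

end Groth.Agent.Lib.Helper14
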