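import Groth.Agent.Lib.Helper14.SmoothFibreRelAux
import Groth.Agent.Lib.Helper14.SmoothFibre
import Mathlib

/-!
# Relative fibre criterion for smoothness at a point

* `formallySmooth_localization_of_fiber_rel`: `R → A → B`, `B` f.p. over `A`, `p` a prime of `R`,
  `Q₀` a prime of `κ(p) ⊗[R] B` with contraction `q` to `B`. If `B_q` is flat over `R` and
  `(κ(p) ⊗[R] B)_{Q₀}` is formally smooth over `κ(p) ⊗[R] A`, then `B_q` is formally smooth
  over `A`.
* `isSmoothAt_under_of_isPushout_field_rel`: pushout form with an arbitrary field `K` over `R`: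
  `AK = A ⊗[R] K`, `BK = B ⊗[A] AK`, `Q` a prime of `BK`; if `B` is flat over `R` at `q = Q ∩ B`
  and `BK` is smooth over `AK` at `Q`, then `B` is smooth over `A` at `q`.
-/

set_option autoImplicit false
universe u
open TensorProduct IsLocalRing

namespace Groth.Agent.Lib.Helper14

local notation "𝓀[" R "]" => ResidueField R
local notation "𝓂[" R "]" => maximalIdeal R

set_option linter.style.haveILetI false in
open Algebra in
attribute [local instance] Algebra.TensorProduct.rightAlgebra in
theorem formallySmooth_localization_of_fiber_rel {R A B : Type u} [CommRing R] [CommRing A]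
    [CommRing B] [Algebra R A] [Algebra R B] [Algebra A B] [IsScalarTower R A B]
    [Algebra.FinitePresentation A B]
    (p : Ideal R) [p.IsPrime] (Q₀ : Ideal (p.ResidueField ⊗[R] B)) [Q₀.IsPrime]
    (hflat : Module.Flat R (Localization.AtPrime (Q₀.comap
      (Algebra.TensorProduct.includeRight (R := R) (A := p.ResidueField) (B := B)))))
    (hsm : letI := (Algebra.TensorProduct.map (AlgHom.id p.ResidueField p.ResidueField)
        (IsScalarTower.toAlgHom R A B)).toRingHom.toAlgebra
      Algebra.FormallySmooth (p.ResidueField ⊗[R] A) (Localization.AtPrime Q₀)) :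
    Algebra.FormallySmooth A (Localization.AtPrime (Q₀.comap
      (Algebra.TensorProduct.includeRight (R := R) (A := p.ResidueField) (B := B)))) := by
  let k := p.ResidueField
  let FA := k ⊗[R] A
  let FB := k ⊗[R] B
  let q : Ideal B := Q₀.comap (Algebra.TensorProduct.includeRight (R := R) (A := k) (B := B))
  let Bq := Localization.AtPrime q
  let T := k ⊗[R] Bq
  let β₀ : FA →ₐ[k] FB := Algebra.TensorProduct.map (.id _ _) (IsScalarTower.toAlgHom R A B)
  let γ : FB →ₐ[k] T := Algebra.TensorProduct.map (.id _ _) (IsScalarTower.toAlgHom R B Bq)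
  let δ : FA →ₐ[k] T := Algebra.TensorProduct.map (.id _ _) (IsScalarTower.toAlgHom R A Bq)
  algebraize [β₀.toRingHom, γ.toRingHom, δ.toRingHom]
  have := IsScalarTower.of_algebraMap_eq' β₀.comp_algebraMap.symm
  have := IsScalarTower.of_algebraMap_eq' γ.comp_algebraMap.symm
  have := IsScalarTower.of_algebraMap_eq' δ.comp_algebraMap.symm
  have : IsScalarTower FA FB T := .of_algebraMap_eq' <| by
    show δ.toRingHom = γ.toRingHom.comp β₀.toRingHom
    refine RingHom.ext fun z => ?_
    induction z using TensorProduct.induction_on with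
    | zero => simp
    | tmul c a =>
      show c ⊗ₜ[R] (algebraMap A Bq a) = c ⊗ₜ[R] (algebraMap B Bq (algebraMap A B a))
      rw [← IsScalarTower.algebraMap_apply A B Bq]
    | add x y hx hy => simp only [map_add, hx, hy]
  have : IsScalarTower R FB T := .to₁₃₄ R k FB T
  -- `T` is the localization of `FB` at `Q₀`
  have hloc : IsLocalization (q.primeCompl.map
      (Algebra.TensorProduct.includeRight (R := R) (A := k) (B := B))) T :=
    IsLocalization.tensorProduct_tensorProduct_right R k q.primeCompl Bq (by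
      refine RingHom.ext fun b => ?_
      rfl)
  have hunitk : ∀ r : R, r ∉ p → IsUnit (algebraMap R k r) := fun r hr => by
    rw [isUnit_iff_ne_zero, Ne, Ideal.algebraMap_residueField_eq_zero]
    exact hr
  have hsmul : ∀ t : FB, ∃ r : R, r ∉ p ∧ ∃ b : B, r • t = (1 : k) ⊗ₜ[R] b := fun t =>
    Ideal.Fiber.exists_smul_eq_one_tmul p t
  have hmemQ : ∀ (t : FB) (r : R), r ∉ p → (r • t ∈ Q₀ ↔ t ∈ Q₀) := by
    intro t r hr
    rw [Algebra.smul_def]
    constructor
    · intro h
      rcases (Ideal.IsPrime.mem_or_mem inferInstance h) with h | h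
      · exact absurd (Q₀.eq_top_of_isUnit_mem h ((hunitk r hr).map (algebraMap k FB)))
          (Ideal.IsPrime.ne_top inferInstance)
      · exact h
    · intro h
      exact Q₀.mul_mem_left _ h
  have hb : ∀ b : B, ((1 : k) ⊗ₜ[R] b ∈ Q₀ ↔ b ∈ q) := fun b => Iff.rfl
  have hAt : IsLocalization.AtPrime T Q₀ := by
    refine IsLocalization.of_le (q.primeCompl.map
      (Algebra.TensorProduct.includeRight (R := R) (A := k) (B := B))) Q₀.primeCompl ?_ ?_
    · rintro _ ⟨b, hb', rfl⟩
      exact hb'
    · intro t ht
      obtain ⟨r, hr, b, e⟩ := hsmul t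
      have hbq : b ∉ q := fun h => ht ((hmemQ t r hr).mp (e ▸ (hb b).mpr h))
      have h1 : IsUnit (algebraMap FB T (r • t)) := by
        rw [e]
        show IsUnit ((1 : k) ⊗ₜ[R] (algebraMap B Bq b))
        exact (IsLocalization.map_units Bq (⟨b, hbq⟩ : q.primeCompl)).map
          (Algebra.TensorProduct.includeRight (R := R) (A := k) (B := Bq))
      rw [Algebra.smul_def, map_mul] at h1
      exact isUnit_of_mul_isUnit_right h1
  have : IsLocalRing T := IsLocalization.AtPrime.isLocalRing T Q₀
  let e : Localization.AtPrime Q₀ ≃ₐ[FB] T := IsLocalization.algEquiv Q₀.primeCompl _ _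
  have hfibT : Algebra.FormallySmooth FA T :=
    Algebra.FormallySmooth.of_equiv (R := FA) (A := Localization.AtPrime Q₀)
      (e.restrictScalars FA)
  have : Q₀.LiesOver q := ⟨Ideal.ext fun _ => Iff.rfl⟩
  have : q.LiesOver p := Ideal.LiesOver.tower_bot Q₀ q p
  let _ := Localization.AtPrime.algebraOfLiesOver p q
  have hrq : ∀ r : R, r ∉ p → algebraMap R 𝓀[Bq] r ≠ 0 := by
    intro r hr
    rw [IsScalarTower.algebraMap_apply R Bq 𝓀[Bq], Ne, IsLocalRing.ResidueField.algebraMap_eq,
      IsLocalRing.residue_eq_zero_iff, IsScalarTower.algebraMap_apply R B Bq]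
    intro h
    have h2 : algebraMap R B r ∈ q := by
      rwa [IsLocalization.AtPrime.to_map_mem_maximal_iff Bq q] at h
    exact hr (by rw [Ideal.LiesOver.over (P := q) (p := p)]; exact h2)
  have h₃ : ∀ x ∈ 𝓂[k ⊗[R] Bq], Algebra.TensorProduct.lift (IsScalarTower.toAlgHom R k 𝓀[Bq])
      (IsScalarTower.toAlgHom R Bq 𝓀[Bq]) (fun _ _ ↦ .all _ _) x = 0 := by
    set ψ : T →ₐ[R] 𝓀[Bq] := Algebra.TensorProduct.lift (IsScalarTower.toAlgHom R k 𝓀[Bq])
      (IsScalarTower.toAlgHom R Bq 𝓀[Bq]) (fun _ _ ↦ .all _ _) with hψ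
    have hle : 𝓂[T] ≤ RingHom.ker ψ.toRingHom := by
      rw [← IsLocalization.AtPrime.map_eq_maximalIdeal Q₀ T, Ideal.map_le_iff_le_comap]
      intro t ht
      obtain ⟨r, hr, b, e'⟩ := hsmul t
      have hbq : b ∈ q := (hb b).mp (e' ▸ (hmemQ t r hr).mpr ht)
      have h1 : ψ (algebraMap FB T (r • t)) = 0 := by
        rw [e']
        show ψ ((1 : k) ⊗ₜ[R] (algebraMap B Bq b)) = 0
        rw [hψ, Algebra.TensorProduct.lift_tmul, map_one, one_mul]
        show algebraMap Bq 𝓀[Bq] (algebraMap B Bq b) = 0
        rw [IsLocalRing.ResidueField.algebraMap_eq, IsLocalRing.residue_eq_zero_iff,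
          IsLocalization.AtPrime.to_map_mem_maximal_iff Bq q]
        exact hbq
      rw [Algebra.smul_def, map_mul, map_mul, ← IsScalarTower.algebraMap_apply R FB T,
        AlgHom.commutes, mul_eq_zero] at h1
      rcases h1 with h1 | h1
      · exact absurd h1 (hrq r hr)
      · exact h1
    exact fun x hx => hle hx
  exact formallySmooth_of_tensor_rel (R := R) (k := k) (A := A) (S := Bq) (P₀ := B) h₃ hfibT
    q.primeCompl

set_option linter.style.haveILetI false in
open Algebra in
attribute [local instance] Algebra.TensorProduct.rightAlgebra in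
/-- Relative fibre criterion for smoothness at a point, pushout form, with the fibre taken over
an arbitrary field-valued point of the base. -/
theorem isSmoothAt_under_of_isPushout_field_rel {R A B K AK BK : Type u} [CommRing R]
    [CommRing A] [CommRing B] [CommRing K] [CommRing AK] [CommRing BK]
    [Algebra R A] [Algebra A B] [Algebra R B] [IsScalarTower R A B]
    [Algebra R K] [Algebra A AK] [Algebra K AK] [Algebra R AK]
    [IsScalarTower R A AK] [IsScalarTower R K AK] [Algebra.IsPushout R A K AK]
    [Algebra B BK] [Algebra AK BK] [Algebra A BK]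
    [IsScalarTower A B BK] [IsScalarTower A AK BK] [Algebra.IsPushout A B AK BK]
    [Algebra.FinitePresentation A B] (hK : IsField K)
    (Q : Ideal BK) [Q.IsPrime]
    (hflat : Module.Flat R (Localization.AtPrime (Q.under B)))
    (hsm : Algebra.IsSmoothAt AK Q) : Algebra.IsSmoothAt A (Q.under B) := by
  let q : Ideal B := Q.under B
  let p : Ideal R := q.under R
  -- algebra structures over `R` and `K` on `BK`
  let _ : Algebra K BK := ((algebraMap AK BK).comp (algebraMap K AK)).toAlgebra
  have : IsScalarTower K AK BK := .of_algebraMap_eq' rfl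
  let _ : Algebra R BK := ((algebraMap A BK).comp (algebraMap R A)).toAlgebra
  have : IsScalarTower R A BK := .of_algebraMap_eq' rfl
  have : IsScalarTower R B BK := .to₁₃₄ R A B BK
  have : IsScalarTower R AK BK := .to₁₃₄ R A AK BK
  have : IsScalarTower R K BK := .to₁₂₄ R K AK BK
  have hQK : ∀ x : K, algebraMap K BK x ∈ Q → x = 0 := by
    intro x hx
    by_contra hne
    obtain ⟨y, hy⟩ := hK.mul_inv_cancel hne
    have : algebraMap K BK x * algebraMap K BK y = 1 := by rw [← map_mul, hy, map_one]
    exact (Ideal.IsPrime.ne_top inferInstance) (Q.eq_top_of_isUnit_mem hx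
      (IsUnit.of_mul_eq_one _ this))
  have hp : ∀ x : R, x ∈ p ↔ algebraMap R K x = 0 := by
    intro x
    constructor
    · intro hx
      apply hQK
      rw [← IsScalarTower.algebraMap_apply]
      have : algebraMap B BK (algebraMap R B x) ∈ Q := hx
      rwa [← IsScalarTower.algebraMap_apply] at this
    · intro hx
      show algebraMap B BK (algebraMap R B x) ∈ Q
      rw [← IsScalarTower.algebraMap_apply, IsScalarTower.algebraMap_apply R K BK, hx, map_zero]
      exact Q.zero_mem
  let k := p.ResidueField
  let φ : k →+* K := Ideal.ResidueField.lift p (algebraMap R K)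
    (fun x hx => (hp x).mp hx) (fun x hx => by
      have : algebraMap R K x ≠ 0 := fun h => hx ((hp x).mpr h)
      obtain ⟨y, hy⟩ := hK.mul_inv_cancel this
      exact IsUnit.of_mul_eq_one _ hy)
  let _ : Algebra k K := φ.toAlgebra
  have : IsScalarTower R k K := .of_algebraMap_eq fun x => by
    exact (Ideal.ResidueField.lift_algebraMap p (algebraMap R K) _ _ x).symm
  let _ : Algebra k AK := ((algebraMap K AK).comp (algebraMap k K)).toAlgebra
  have : IsScalarTower k K AK := .of_algebraMap_eq' rfl
  have : IsScalarTower R k AK := .to₁₂₄ R k K AK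
  let _ : Algebra k BK := ((algebraMap AK BK).comp (algebraMap k AK)).toAlgebra
  have : IsScalarTower k AK BK := .of_algebraMap_eq' rfl
  have : IsScalarTower R k BK := .to₁₂₄ R k AK BK
  let FA := k ⊗[R] A
  let FB := k ⊗[R] B
  let β₀ : FA →ₐ[k] FB := Algebra.TensorProduct.map (.id _ _) (IsScalarTower.toAlgHom R A B)
  let ψA : FA →ₐ[k] AK := Algebra.TensorProduct.lift (Algebra.ofId k AK)
    (IsScalarTower.toAlgHom R A AK) (fun _ _ => .all _ _)
  let ψB : FB →ₐ[k] BK := Algebra.TensorProduct.lift (Algebra.ofId k BK)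
    (IsScalarTower.toAlgHom R B BK) (fun _ _ => .all _ _)
  algebraize [β₀.toRingHom, ψA.toRingHom, ψB.toRingHom,
    (algebraMap AK BK).comp ψA.toRingHom, (algebraMap B FB).comp (algebraMap A B)]
  have := IsScalarTower.of_algebraMap_eq' β₀.comp_algebraMap.symm
  have := IsScalarTower.of_algebraMap_eq' ψA.comp_algebraMap.symm
  have := IsScalarTower.of_algebraMap_eq' ψB.comp_algebraMap.symm
  have hψA : ∀ (c : k) (a : A), ψA (c ⊗ₜ[R] a) = algebraMap k AK c * algebraMap A AK a :=
    fun c a => Algebra.TensorProduct.lift_tmul _ _ _ c a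
  have hψB : ∀ (c : k) (b : B), ψB (c ⊗ₜ[R] b) = algebraMap k BK c * algebraMap B BK b :=
    fun c b => Algebra.TensorProduct.lift_tmul _ _ _ c b
  have : IsScalarTower A FA AK := .of_algebraMap_eq fun a => by
    show algebraMap A AK a = ψA (1 ⊗ₜ a)
    rw [hψA, map_one, one_mul]
  have : IsScalarTower B FB BK := .of_algebraMap_eq fun b => by
    show algebraMap B BK b = ψB (1 ⊗ₜ b)
    rw [hψB, map_one, one_mul]
  have : IsScalarTower FA AK BK := .of_algebraMap_eq' rfl
  have : IsScalarTower A B FB := .of_algebraMap_eq' rfl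
  have : IsScalarTower A FA FB := .of_algebraMap_eq fun a => by
    show (1 : k) ⊗ₜ[R] algebraMap A B a = β₀ ((1 : k) ⊗ₜ[R] a)
    rfl
  have : IsScalarTower FA FB BK := .of_algebraMap_eq' <| by
    show (algebraMap AK BK).comp ψA.toRingHom = ψB.toRingHom.comp β₀.toRingHom
    refine RingHom.ext fun z => ?_
    induction z using TensorProduct.induction_on with
    | zero => simp
    | tmul c a =>
      show algebraMap AK BK (ψA (c ⊗ₜ[R] a)) = ψB (c ⊗ₜ[R] (algebraMap A B a))
      rw [hψA, hψB, map_mul, ← IsScalarTower.algebraMap_apply k AK BK,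
        ← IsScalarTower.algebraMap_apply A AK BK, ← IsScalarTower.algebraMap_apply A B BK]
    | add x y hx hy => simp only [map_add, hx, hy]
  have : IsScalarTower A FB BK := .to₁₃₄ A B FB BK
  have : IsScalarTower R FA AK := .to₁₃₄ R k FA AK
  have : IsScalarTower R A FB := .to₁₂₄ R A B FB
  have : IsScalarTower R FA FB := .to₁₃₄ R k FA FB
  have hpoA : Algebra.IsPushout k K FA AK :=
    (Algebra.IsPushout.comp_iff R k A FA).mp (Algebra.IsPushout.symm inferInstance)
  have hpoF : Algebra.IsPushout A B FA FB :=
    (Algebra.IsPushout.comp_iff R A k FA (T := B) (T' := FB)).mp inferInstance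
  have hpoF' : Algebra.IsPushout A FA B FB := hpoF.symm
  have hpoB : Algebra.IsPushout FA FB AK BK := by
    have h := (Algebra.IsPushout.comp_iff A FA B FB (T := AK) (T' := BK)).mp
      (Algebra.IsPushout.symm inferInstance)
    exact h.symm
  have hflatAK : Module.Flat FA AK := Module.Flat.isBaseChange k FA K AK hpoA.symm.out
  have hflat' : Module.Flat FA (Localization.AtPrime (Q.under AK)) := Module.Flat.trans FA AK _
  have hfp : Algebra.FinitePresentation FA FB :=
    .equiv (Algebra.IsPushout.equiv A FA B FB)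
  let Q₀ : Ideal FB := Q.under FB
  have hQ₀ : Algebra.IsSmoothAt FA Q₀ :=
    isSmoothAt_under_of_isPushout_of_flat (R := FA) (A := FB) (S := AK) (B := BK) Q hflat' hsm
  let r : Ideal B := Q₀.comap (Algebra.TensorProduct.includeRight (R := R) (A := k) (B := B))
  have hr : r = q := by
    ext b
    show algebraMap FB BK ((1 : k) ⊗ₜ[R] b) ∈ Q ↔ algebraMap B BK b ∈ Q
    rw [IsScalarTower.algebraMap_apply B FB BK]
    rfl
  have key1 : ∀ (I J : Ideal B) [I.IsPrime] [J.IsPrime], I = J →
      Module.Flat R (Localization.AtPrime I) → Module.Flat R (Localization.AtPrime J) := by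
    intro I J _ _ h; subst h; exact id
  have key2 : ∀ (I J : Ideal B) [I.IsPrime] [J.IsPrime], I = J →
      Algebra.IsSmoothAt A I → Algebra.IsSmoothAt A J := by
    intro I J _ _ h; subst h; exact id
  refine key2 r q hr ?_
  exact formallySmooth_localization_of_fiber_rel p Q₀ (key1 q r hr.symm hflat) hQ₀

end Groth.Agent.Lib.Helper14
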