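import Mathlib

/-!
# Relative fibre criterion for formal smoothness (ring level)

Generalisation of Mathlib's `Algebra.FormallySmooth.of_formallySmooth_residueField_tensor` to a
relative situation `R → A → S`: if `S` is a local ring, flat over `R`, essentially of finite
presentation over `A`, `k` is an `R`-algebra such that `k ⊗[R] S` is local with residue field
compatible with that of `S`, and `k ⊗[R] S` is formally smooth over `k ⊗[R] A`, then `S` is
formally smooth over `A`. (`A` need not be flat over `R`.)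

* `formallySmooth_of_tensor_rel_aux`: version with a given presentation `P ↠ S`.
* `formallySmooth_of_tensor_rel`: `S` a localization of a finitely presented `A`-algebra.
-/

set_option autoImplicit false
universe u
open TensorProduct IsLocalRing

namespace Groth.Agent.Lib.Helper14

local notation "𝓀[" R "]" => ResidueField R
local notation "𝓂[" R "]" => maximalIdeal R

open Algebra KaehlerDifferential in
set_option backward.defeqAttrib.useBackward true in
set_option backward.isDefEq.respectTransparency false in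
attribute [local instance] TensorProduct.rightAlgebra in
theorem formallySmooth_of_tensor_rel_aux
    {R k A S P : Type u} [CommRing R] [CommRing k] [CommRing A] [CommRing S] [CommRing P]
    [Algebra R k] [Algebra R A] [Algebra R S] [Algebra A S] [IsScalarTower R A S]
    [Algebra R P] [Algebra A P] [IsScalarTower R A P] [Algebra P S] [IsScalarTower A P S]
    [IsScalarTower R P S]
    [Module.Flat R S] [IsLocalRing S] [Algebra k 𝓀[S]] [IsScalarTower R k 𝓀[S]]
    [IsLocalRing (k ⊗[R] S)]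
    (h₃ : ∀ x ∈ 𝓂[k ⊗[R] S], Algebra.TensorProduct.lift (IsScalarTower.toAlgHom R k 𝓀[S])
      (IsScalarTower.toAlgHom R S 𝓀[S]) (fun _ _ ↦ .all _ _) x = 0)
    (hfib : letI := (Algebra.TensorProduct.map (AlgHom.id k k)
        (IsScalarTower.toAlgHom R A S)).toRingHom.toAlgebra
      Algebra.FormallySmooth (k ⊗[R] A) (k ⊗[R] S))
    [Algebra.FormallySmooth A P] [Module.Free P Ω[P⁄A]] [Module.Finite P Ω[P⁄A]]
    (h₁ : Function.Surjective (algebraMap P S)) (h₂ : (RingHom.ker (algebraMap P S)).FG) :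
    Algebra.FormallySmooth A S := by
  let Ap := k ⊗[R] A
  let Sp := k ⊗[R] S
  let Pp := k ⊗[R] P
  let α : Ap →ₐ[k] Pp := Algebra.TensorProduct.map (.id _ _) (IsScalarTower.toAlgHom _ _ _)
  let φ : Pp →ₐ[k] Sp := Algebra.TensorProduct.map (.id _ _) (IsScalarTower.toAlgHom _ _ _)
  let β : Ap →ₐ[k] Sp := Algebra.TensorProduct.map (.id _ _) (IsScalarTower.toAlgHom _ _ _)
  let ψ : Sp →ₐ[R] 𝓀[S] := Algebra.TensorProduct.lift (IsScalarTower.toAlgHom _ _ _)
    (IsScalarTower.toAlgHom _ _ _) fun _ _ ↦ .all _ _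
  algebraize [α.toRingHom, φ.toRingHom, β.toRingHom, (φ.toRingHom.comp (algebraMap P Pp)),
    ψ.toRingHom, ψ.toRingHom.comp φ.toRingHom, (algebraMap P Pp).comp (algebraMap A P)]
  have := IsScalarTower.of_algebraMap_eq' φ.comp_algebraMap.symm
  have := IsScalarTower.of_algebraMap_eq' α.comp_algebraMap.symm
  have := IsScalarTower.of_algebraMap_eq' β.comp_algebraMap.symm
  have := IsScalarTower.of_algebraMap_eq' ψ.comp_algebraMap.symm
  have : IsScalarTower P S Sp := .of_algebraMap_eq' rfl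
  have : IsScalarTower S Sp 𝓀[S] := .of_algebraMap_eq fun r ↦ by
    simp [RingHom.algebraMap_toAlgebra, ψ, Sp]
  have : IsScalarTower P Sp 𝓀[S] := .to₁₃₄ _ S _ _
  have : IsScalarTower P Pp 𝓀[S] := .to₁₂₄ _ _ Sp _
  have : IsScalarTower A P Pp := .of_algebraMap_eq' rfl
  have : IsScalarTower Ap Pp Sp := .of_algebraMap_eq' <| by
    show β.toRingHom = φ.toRingHom.comp α.toRingHom
    ext x
    · show x ⊗ₜ[R] (algebraMap A S 1) = x ⊗ₜ[R] (algebraMap P S (algebraMap A P 1))
      rw [← IsScalarTower.algebraMap_apply A P S]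
    · show (1 : k) ⊗ₜ[R] (algebraMap A S x) =
        (1 : k) ⊗ₜ[R] (algebraMap P S (algebraMap A P x))
      rw [← IsScalarTower.algebraMap_apply A P S]
  have : IsScalarTower A Ap Pp := .of_algebraMap_eq fun a ↦ by
    show (1 : k) ⊗ₜ[R] algebraMap A P a = α ((1 : k) ⊗ₜ[R] a)
    rfl
  have : IsScalarTower R Ap Pp := .to₁₃₄ R k Ap Pp
  have : IsScalarTower R A Pp := .to₁₂₄ R A P Pp
  have hpo : Algebra.IsPushout A Ap P Pp := by
    have h := (Algebra.IsPushout.comp_iff R A k Ap (T := P) (T' := Pp)).mp inferInstance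
    exact h.symm
  have : Algebra.FormallySmooth Ap Pp := by
    have : Algebra.FormallySmooth Ap (Ap ⊗[A] P) := inferInstance
    exact .of_equiv (Algebra.IsPushout.equiv A Ap P Pp)
  let e₀ : Ω[Pp⁄Ap] ≃ₗ[Pp] Pp ⊗[P] Ω[P⁄A] :=
    (KaehlerDifferential.tensorKaehlerEquiv A Ap P Pp).symm
  have : Module.Free Pp Ω[Pp⁄Ap] := .of_equiv e₀.symm
  have : Module.Finite Pp Ω[Pp⁄Ap] := .of_surjective e₀.symm.toLinearMap e₀.symm.surjective
  let e₁ : RingHom.ker φ ≃ₗ[Pp] Pp ⊗[P] RingHom.ker (algebraMap P S) :=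
    kerTensorProductMapIdToAlgHomEquiv _ _ _ _ h₁
  have h₁' : Function.Surjective φ := LinearMap.lTensor_surjective _ h₁
  have h₂' : (RingHom.ker φ).FG := by
    suffices Module.Finite Pp (RingHom.ker φ) from (Submodule.fg_top _).mp this.1
    have : Module.Finite P (RingHom.ker (algebraMap P S)) := ⟨(Submodule.fg_top _).mpr h₂⟩
    exact .equiv e₁.symm
  have h₃ : 𝓂[Sp] ≤ RingHom.ker ψ := fun x hx ↦ h₃ x hx
  rw [Algebra.FormallySmooth.iff_injective_cotangentComplexBaseChange_residueField (P := P) h₁ h₂]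
  have := (Algebra.FormallySmooth.iff_injective_cotangentComplexBaseChange
    (R := Ap) (S := Sp) (P := Pp) (K := 𝓀[S]) h₁' h₂' h₃).mp hfib
  let eᵣ : 𝓀[S] ⊗[Pp] Ω[Pp⁄Ap] ≃ₗ[S] 𝓀[S] ⊗[P] Ω[P⁄A] :=
    (AlgebraTensorModule.congr (.refl 𝓀[S] _) e₀).restrictScalars S ≪≫ₗ
      (AlgebraTensorModule.cancelBaseChange P Pp Sp 𝓀[S] Ω[P⁄A]).restrictScalars S
  let eₗ : 𝓀[S] ⊗[Pp] RingHom.ker φ ≃ₗ[S] 𝓀[S] ⊗[P] RingHom.ker (algebraMap P S) :=
    (AlgebraTensorModule.congr (.refl 𝓀[S] 𝓀[S]) e₁).restrictScalars S ≪≫ₗ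
      (AlgebraTensorModule.cancelBaseChange P Pp Sp 𝓀[S] _).restrictScalars S
  convert! (eᵣ.injective.comp this).comp eₗ.symm.injective
  ext x
  dsimp
  induction x with
  | zero => simp only [LinearEquiv.map_zero, LinearMap.map_zero]
  | add x y _ _ => simp only [LinearEquiv.map_add, LinearMap.map_add, *]
  | tmul x y =>
  dsimp [eₗ, eᵣ, e₁, KaehlerDifferential.cotangentComplexBaseChange,
    TensorProduct.one_def, Pp, smul_tmul']
  rw [kerTensorProductMapIdToAlgHomEquiv_symm_apply]
  have hD : (KaehlerDifferential.tensorKaehlerEquiv A Ap P Pp).symm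
      (D Ap Pp ((1 : k) ⊗ₜ[R] (y : P))) = (1 : Pp) ⊗ₜ[P] D A P (y : P) := by
    rw [LinearEquiv.symm_apply_eq, KaehlerDifferential.tensorKaehlerEquiv_tmul_D, one_smul]
    rfl
  simp only [e₀, Pp, one_mul]
  erw [hD]
  simp

open Algebra in
/-- Relative version of `Algebra.FormallySmooth.of_formallySmooth_residueField_tensor`:
`R` local, `S` a local flat `R`-algebra (local hom), `A` an `R`-algebra, `S` an `A`-algebra which
is a localization of a finitely presented `A`-algebra `P₀`. If `k ⊗[R] S` is formally smooth over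
`k ⊗[R] A` (`k` the residue field of `R`), then `S` is formally smooth over `A`. -/
theorem formallySmooth_of_tensor_rel
    {R k A S P₀ : Type u} [CommRing R] [CommRing k] [CommRing A] [CommRing S] [CommRing P₀]
    [Algebra R k] [Algebra R A] [Algebra R S] [Algebra A S] [IsScalarTower R A S]
    [Algebra A P₀] [Algebra P₀ S] [IsScalarTower A P₀ S]
    [Module.Flat R S] [IsLocalRing S] [Algebra k 𝓀[S]] [IsScalarTower R k 𝓀[S]]
    [IsLocalRing (k ⊗[R] S)]
    (h₃ : ∀ x ∈ 𝓂[k ⊗[R] S], Algebra.TensorProduct.lift (IsScalarTower.toAlgHom R k 𝓀[S])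
      (IsScalarTower.toAlgHom R S 𝓀[S]) (fun _ _ ↦ .all _ _) x = 0)
    (hfib : letI := (Algebra.TensorProduct.map (AlgHom.id k k)
        (IsScalarTower.toAlgHom R A S)).toRingHom.toAlgebra
      Algebra.FormallySmooth (k ⊗[R] A) (k ⊗[R] S))
    (M : Submonoid P₀) [IsLocalization M S] [Algebra.FinitePresentation A P₀] :
    Algebra.FormallySmooth A S := by
  obtain ⟨n, f₀, hf₀⟩ := Algebra.FiniteType.iff_quotient_mvPolynomial''.mp
    (inferInstance : Algebra.FiniteType A P₀)
  let M' := M.comap f₀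
  let P' := Localization M'
  let fP : P' →ₐ[A] S := IsLocalization.liftAlgHom (M := M')
      (f := (IsScalarTower.toAlgHom A P₀ S).comp f₀) fun x ↦ by
    simpa using IsLocalization.map_units (M := M) _ ⟨f₀ x.1, x.2⟩
  have hf₁ : Function.Surjective fP := by
    intro x
    obtain ⟨x, ⟨s, hs⟩, rfl⟩ := IsLocalization.exists_mk'_eq M x
    obtain ⟨x, rfl⟩ := hf₀ x
    obtain ⟨s, rfl⟩ := hf₀ s
    refine ⟨IsLocalization.mk' (M := M') _ x ⟨s, hs⟩, ?_⟩
    simp [fP, IsLocalization.lift_mk', Units.mul_inv_eq_iff_eq_mul, IsUnit.liftRight]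
  have hfP : (RingHom.ker fP).FG := by
    have := Algebra.FinitePresentation.ker_fG_of_surjective _ hf₀
    convert! this.map (algebraMap _ P')
    refine le_antisymm ?_ (Ideal.map_le_iff_le_comap.mpr fun x hx ↦ by simp_all [fP])
    intro x hx
    obtain ⟨x, s, rfl⟩ := IsLocalization.exists_mk'_eq M' x
    obtain ⟨a, ha, e⟩ : ∃ a ∈ M, a * f₀ x = 0 := by
      simpa [fP, IsLocalization.lift_mk', IsLocalization.map_eq_zero_iff M] using hx
    obtain ⟨a, rfl⟩ := hf₀ a
    rw [IsLocalization.mk'_mem_map_algebraMap_iff]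
    exact ⟨a, ha, by simpa⟩
  algebraize [fP.toRingHom]
  have : FormallyEtale (MvPolynomial (Fin n) A) P' := .of_isLocalization M'
  have : FormallySmooth A P' := .comp _ (MvPolynomial (Fin n) A) _
  have : Module.Free P' Ω[P'⁄A] :=
    .of_equiv (KaehlerDifferential.tensorKaehlerEquivOfFormallyEtale A (MvPolynomial (Fin n) A) P')
  have : IsScalarTower A P' S := .of_algebraMap_eq' fP.comp_algebraMap.symm
  have : IsScalarTower R P' S := .to₁₃₄ R A P' S
  exact formallySmooth_of_tensor_rel_aux (R := R) (k := k) (A := A) (S := S) (P := P')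
    h₃ hfib hf₁ hfP

end Groth.Agent.Lib.Helper14
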