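import Mathlib
import Groth.Agent.Lib.Helper14.SchImageGroup
import Groth.Agent.Lib.Helper48.SchemeImage2
import Groth.Agent.Lib.Helper54.Reduced
import Groth.Agent.S5331

/-!
# The reduced image of a homomorphism from a smooth group scheme over a field is smooth
-/

set_option autoImplicit false
universe u
open CategoryTheory CategoryTheory.Limits MonoidalCategory CartesianMonoidalCategory MonObj
  AlgebraicGeometry

namespace Groth.Agent.Lib.Helper14

section

variable {k : Type u} [Field k]

/-- If `f' : G ⟶ H'` is a schematically dominant quasi-compact morphism of `k`-schemes with `G`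
smooth over `k`, then `H'` is geometrically reduced over `k`. -/
theorem geometricallyReduced_of_isSchemeTheoreticallyDominant {G H' : Scheme.{u}}
    (g : G ⟶ Spec (CommRingCat.of k)) (h : H' ⟶ Spec (CommRingCat.of k)) [Smooth g]
    (f' : G ⟶ H') (hf' : f' ≫ h = g) [IsSchemeTheoreticallyDominant f'] [QuasiCompact f'] :
    GeometricallyReduced h := by
  refine ⟨?_⟩
  rw [geometrically_iff_of_commRing]
  intro K _ _ Y fst' snd' hY
  have hflat : Flat fst' := MorphismProperty.of_isPullback (P := @Flat) hY.flip inferInstance
  have hP : IsPullback (pullback.fst f' fst') (pullback.snd f' fst' ≫ snd') g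
      (Spec.map (CommRingCat.ofHom (algebraMap k K))) := by
    rw [← hf']
    exact IsPullback.paste_vert (IsPullback.of_hasPullback f' fst') hY
  have hsm : Smooth (pullback.snd f' fst' ≫ snd') :=
    MorphismProperty.of_isPullback (P := @Smooth) hP inferInstance
  have hredP : IsReduced (pullback f' fst') :=
    Groth.Agent.Lib.Helper54.isReduced_of_smooth_scheme (pullback.snd f' fst' ≫ snd')
  exact IsSchemeTheoreticallyDominant.isReduced (pullback.snd f' fst')

variable {G G' : Over (Spec (CommRingCat.of k))} [GrpObj G] [GrpObj G']

/-- The image of a homomorphism from a smooth quasi-compact group scheme over a field, with its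
reduced structure, is smooth. -/
theorem smooth_reduced_range_of_hom [Smooth G.hom] [QuasiCompact G.hom]
    [LocallyOfFiniteType G'.hom] (f : G ⟶ G') [IsMonHom f]
    (H : Scheme.{u}) (i : H ⟶ G'.left) [IsClosedImmersion i] [IsReduced H]
    (hH : Set.range i = Set.range f.left) : Smooth (i ≫ G'.hom) := by
  have hdisc : DiscreteTopology (Spec (CommRingCat.of k)) :=
    inferInstanceAs (DiscreteTopology (PrimeSpectrum k))
  have hsep : IsSeparated G'.hom := Groth.Agent.S5331.result _ G'
  have hqc : QuasiCompact f.left := by
    have : QuasiCompact (f.left ≫ G'.hom) := by rw [Over.w]; infer_instance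
    exact QuasiCompact.of_comp f.left G'.hom
  obtain ⟨H', inst, j, f', hj, hf', hfac, hcl, hdom, hqc', hsurj, -⟩ := exists_grpObj_image f
  have hredG : IsReduced G.left := Groth.Agent.Lib.Helper54.isReduced_of_smooth_scheme G.hom
  have hredH' : IsReduced H'.left := IsSchemeTheoreticallyDominant.isReduced f'.left
  -- ranges agree
  have hrange : Set.range j.left = Set.range i := by
    rw [hH, ← hfac]
    show Set.range j.left = Set.range (f'.left ≫ j.left)
    rw [Scheme.Hom.comp_base, TopCat.coe_comp, Set.range_comp, hsurj.surj.range_eq, Set.image_univ]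
  have hker : i.ker = j.left.ker := by
    rw [Groth.Agent.Lib.Helper48.ker_eq_vanishingIdeal_of_isReduced,
      Groth.Agent.Lib.Helper48.ker_eq_vanishingIdeal_of_isReduced]
    congr 2
    exact hrange.symm
  have hiso : IsIso (IsClosedImmersion.lift j.left i hker.ge) :=
    IsClosedImmersion.isIso_lift j.left i hker.symm
  have hlft : LocallyOfFiniteType H'.hom := by
    rw [← Over.w j]; infer_instance
  have hgr : GeometricallyReduced H'.hom :=
    geometricallyReduced_of_isSchemeTheoreticallyDominant G.hom H'.hom f'.left (Over.w f')
  have hsm : Smooth H'.hom := by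
    have : GrpObj (Over.mk H'.hom) := inst
    exact smooth_of_grpObj H'.hom
  have e : i ≫ G'.hom = IsClosedImmersion.lift j.left i hker.ge ≫ H'.hom := by
    rw [← Over.w j, IsClosedImmersion.lift_fac_assoc]
  rw [e]
  infer_instance

end

end Groth.Agent.Lib.Helper14
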