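import Groth.Agent.Lib.Helper14.StalkAlg2

set_option autoImplicit false
universe u

namespace Groth.Agent.Lib.Helper14

open IsLocalRing

theorem residueField_algebra_eq {A B : Type u} [CommRing A] [CommRing B] [IsLocalRing A]
    [IsLocalRing B] [Algebra A B] [IsLocalHom (algebraMap A B)] :
    (ResidueField.map (algebraMap A B)).toAlgebra =
      (inferInstance : Algebra (ResidueField A) (ResidueField B)) := by
  apply Algebra.algebra_ext
  intro r
  obtain ⟨r, rfl⟩ := IsLocalRing.residue_surjective r
  rfl

/-- A local homomorphism essentially of finite type is formally unramified iff the maximal ideal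
generates the maximal ideal and the residue field extension is finite separable. -/
theorem formallyUnramified_iff_map_maximalIdeal {A B : Type u} [CommRing A] [CommRing B]
    [IsLocalRing A] [IsLocalRing B] (φ : A →+* B) [IsLocalHom φ] (hφ : φ.EssFiniteType) :
    φ.FormallyUnramified ↔
      ((maximalIdeal A).map φ = maximalIdeal B ∧
        letI := (ResidueField.map φ).toAlgebra
        Module.Finite (ResidueField A) (ResidueField B) ∧
          Algebra.IsSeparable (ResidueField A) (ResidueField B)) := by
  algebraize [φ]
  have : IsLocalHom (algebraMap A B) := ‹IsLocalHom φ›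
  have heq : (ResidueField.map φ).toAlgebra =
      (inferInstance : Algebra (ResidueField A) (ResidueField B)) := residueField_algebra_eq
  rw [heq]
  show Algebra.FormallyUnramified A B ↔ _
  rw [Algebra.FormallyUnramified.iff_map_maximalIdeal_eq]
  constructor
  · rintro ⟨h1, h2⟩
    have : Algebra.FormallyUnramified A B := Algebra.FormallyUnramified.of_map_maximalIdeal h2
    exact ⟨h2, inferInstance, h1⟩
  · rintro ⟨h1, -, h3⟩
    exact ⟨h3, h1⟩

end Groth.Agent.Lib.Helper14
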