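import Mathlib
import Groth.Agent.Lib.Helper70.SteinUH
import Groth.Agent.S0415

set_option autoImplicit false
universe u

namespace Groth.Agent.Lib.Helper14.SteinPB

open CategoryTheory CategoryTheory.Limits AlgebraicGeometry

/-- Given that the first map of the Stein factorisation of the proper morphism `f` is
geometrically connected (general Stein factorisation), the comparison map from the Stein factor
of a base change to the base change of the Stein factor is a universal homeomorphism. -/
theorem isUnivHomeo_normalizationPullback {X S T : Scheme.{u}} (f : X ⟶ S) [IsProper f]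
    (g : T ⟶ S) (hgc : GeometricallyConnected f.toNormalization) :
    FlatMor.IsUnivHomeo (f.normalizationPullback g) := by
  set n := f.fromNormalization with hn
  set t := f.toNormalization with ht
  have htn : t ≫ n = f := f.toNormalization_fromNormalization
  set fT := pullback.snd f g with hfT
  set tT := fT.toNormalization with htT
  set nT := fT.fromNormalization with hnT
  set h := f.normalizationPullback g with hh
  have htnT : tT ≫ nT = fT := fT.toNormalization_fromNormalization
  have h1 : tT ≫ h ≫ pullback.fst n g = pullback.fst f g ≫ t :=
    f.toNormalization_normalizationPullback_fst g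
  have h2 : h ≫ pullback.snd n g = nT := f.normalizationPullback_snd g
  -- the canonical map `X_T ⟶ S' ×_S T`
  let tK : pullback f g ⟶ pullback n g :=
    pullback.lift (pullback.fst f g ≫ t) (pullback.snd f g)
      (by rw [Category.assoc, htn]; exact pullback.condition)
  have htK1 : tK ≫ pullback.fst n g = pullback.fst f g ≫ t := pullback.lift_fst _ _ _
  have htK2 : tK ≫ pullback.snd n g = pullback.snd f g := pullback.lift_snd _ _ _
  have htK : tT ≫ h = tK := by
    apply pullback.hom_ext
    · rw [Category.assoc, h1, htK1]
    · rw [Category.assoc, h2, htnT, htK2]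
  have hsq : IsPullback tK (pullback.fst f g) (pullback.fst n g) t := by
    have hbig : IsPullback (pullback.fst f g) (pullback.snd f g) f g := IsPullback.of_hasPullback f g
    have hright : IsPullback (pullback.fst n g) (pullback.snd n g) n g :=
      IsPullback.of_hasPullback n g
    have h1 : IsPullback (pullback.fst f g) (tK ≫ pullback.snd n g) (t ≫ n) g := by
      rw [htK2, htn]; exact hbig
    exact IsPullback.of_right h1.flip htK1 hright.flip
  have hgcK : GeometricallyConnected tK :=
    MorphismProperty.of_isPullback (P := @GeometricallyConnected) hsq.flip hgc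
  have hsurjK : Surjective tK := inferInstance
  have hsurjh : Surjective h := by
    constructor
    intro z
    obtain ⟨x, hx⟩ := hsurjK.surj z
    refine ⟨tT x, ?_⟩
    rw [← Scheme.Hom.comp_apply, htK]; exact hx
  -- `tT` is surjective
  have hsepT : IsSeparated nT := inferInstance
  have hucT : UniversallyClosed (tT ≫ nT) := by rw [htnT]; infer_instance
  have huctT : UniversallyClosed tT := UniversallyClosed.of_comp_of_isSeparated tT nT
  have hdomT : IsDominant tT := inferInstance
  have hsurjT : Surjective tT := Surjective.of_universallyClosed_of_isDominant tT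
  rw [Groth.Agent.S0415.result]
  refine ⟨inferInstance, ?_, hsurjh⟩
  apply ((tfae_universallyInjective (f := h)).out 0 1).mpr
  intro K _ a b hab
  dsimp only at hab
  set y : Spec (CommRingCat.of K) ⟶ pullback n g := a ≫ h with hy
  -- the fibre of `tK` over `y` is connected
  have hXK : ConnectedSpace ↑(pullback tK y) :=
    GeometricallyConnected.geometrically_connectedSpace y _ _ (IsPullback.of_hasPullback tK y)
  -- it surjects onto the fibre of `h` over `y`
  let tZ : pullback tK y ⟶ pullback h y :=
    pullback.lift (pullback.fst tK y ≫ tT) (pullback.snd tK y)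
      (by rw [Category.assoc, htK]; exact pullback.condition)
  have htZ1 : tZ ≫ pullback.fst h y = pullback.fst tK y ≫ tT := pullback.lift_fst _ _ _
  have htZ2 : tZ ≫ pullback.snd h y = pullback.snd tK y := pullback.lift_snd _ _ _
  have hsqZ : IsPullback tZ (pullback.fst tK y) (pullback.fst h y) tT := by
    have hbig : IsPullback (pullback.fst tK y) (pullback.snd tK y) tK y :=
      IsPullback.of_hasPullback tK y
    have hright : IsPullback (pullback.fst h y) (pullback.snd h y) h y :=
      IsPullback.of_hasPullback h y
    have h1 : IsPullback (pullback.fst tK y) (tZ ≫ pullback.snd h y) (tT ≫ h) y := by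
      rw [htZ2, htK]; exact hbig
    exact IsPullback.of_right h1.flip htZ1 hright.flip
  have hsurjtZ : Surjective tZ := MorphismProperty.of_isPullback hsqZ.flip hsurjT
  have hNK : ConnectedSpace ↑(pullback h y) := by
    have hne : Nonempty ↑(pullback h y) := by
      obtain ⟨z⟩ := hXK.toNonempty
      exact ⟨tZ z⟩
    have : PreconnectedSpace ↑(pullback h y) := by
      constructor
      have := (isPreconnected_univ (α := ↑(pullback tK y))).image tZ tZ.continuous.continuousOn
      rwa [Set.image_univ, Set.range_eq_univ.mpr hsurjtZ.surj] at this
    exact ⟨hne⟩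
  let a' : Spec (CommRingCat.of K) ⟶ pullback h y :=
    pullback.lift a (𝟙 _) (by rw [Category.id_comp])
  let b' : Spec (CommRingCat.of K) ⟶ pullback h y :=
    pullback.lift b (𝟙 _) (by rw [Category.id_comp]; exact hab.symm)
  have ha1 : a' ≫ pullback.fst h y = a := pullback.lift_fst _ _ _
  have ha2 : a' ≫ pullback.snd h y = 𝟙 _ := pullback.lift_snd _ _ _
  have hb1 : b' ≫ pullback.fst h y = b := pullback.lift_fst _ _ _
  have hb2 : b' ≫ pullback.snd h y = 𝟙 _ := pullback.lift_snd _ _ _
  have hab' : a' = b' :=
    Groth.Agent.Lib.Helper70.SteinUH.section_unique (pullback.snd h y) a' b' ha2 hb2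
  rw [← ha1, ← hb1, hab']

end Groth.Agent.Lib.Helper14.SteinPB
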