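import Mathlib

/-!
# Properness and thickenings; reduced structure inside a closed subscheme (helper14)
-/

set_option autoImplicit false
universe u

open CategoryTheory Limits AlgebraicGeometry TopologicalSpace

namespace Groth.Agent.Lib.Helper14.SuppProper

/-- If `r : R ⟶ T` is surjective and universally closed, `r ≫ φ` is separated, then `φ` is
separated. -/
theorem isSeparated_of_comp_surjective {R T Y : Scheme.{u}} (r : R ⟶ T) (φ : T ⟶ Y)
    [IsClosedImmersion r] [Surjective r] (h : IsSeparated (r ≫ φ)) : IsSeparated φ := by
  constructor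
  apply IsClosedImmersion.of_isPreimmersion
  have hcompst : MorphismProperty.IsStableUnderComposition @IsClosedImmersion.{u} :=
    (inferInstance :
      MorphismProperty.IsMultiplicative @IsClosedImmersion.{u}).toIsStableUnderComposition
  have hm : IsClosedImmersion (pullback.map (r ≫ φ) (r ≫ φ) φ φ r r (𝟙 Y)
      ((Category.comp_id _).trans rfl) ((Category.comp_id _).trans rfl)) :=
    MorphismProperty.pullbackMap (P := @IsClosedImmersion.{u}) inferInstance inferInstance rfl rfl
  set m := pullback.map (r ≫ φ) (r ≫ φ) φ φ r r (𝟙 Y)
      ((Category.comp_id _).trans rfl) ((Category.comp_id _).trans rfl) with hmdef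
  have hcomm : pullback.diagonal (r ≫ φ) ≫ m = r ≫ pullback.diagonal φ := by
    apply pullback.hom_ext
    · simp only [hmdef, pullback.map, Category.assoc, pullback.diagonal_fst, Category.comp_id]
      rw [pullback.lift_fst, pullback.diagonal_fst_assoc]
    · simp only [hmdef, pullback.map, Category.assoc, pullback.diagonal_snd, Category.comp_id]
      rw [pullback.lift_snd, pullback.diagonal_snd_assoc]
  have hrange : Set.range (pullback.diagonal φ) =
      m '' Set.range (pullback.diagonal (r ≫ φ)) := by
    have h1 : Set.range (pullback.diagonal φ) = Set.range (r ≫ pullback.diagonal φ) := by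
      rw [Scheme.Hom.comp_base, TopCat.coe_comp, Set.range_comp,
        (Surjective.surj (f := r)).range_eq, Set.image_univ]
    rw [h1, ← hcomm, Scheme.Hom.comp_base, TopCat.coe_comp, Set.range_comp]
  rw [hrange]
  exact m.isClosedEmbedding.isClosedMap _ (pullback.diagonal (r ≫ φ)).isClosedEmbedding.isClosed_range

/-- Properness is insensitive to surjective closed immersions. -/
theorem isProper_of_comp_surjective {R T Y : Scheme.{u}} (r : R ⟶ T) (φ : T ⟶ Y)
    [IsClosedImmersion r] [Surjective r] [LocallyOfFiniteType φ] [QuasiCompact φ]
    (h : IsProper (r ≫ φ)) : IsProper φ := by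
  have h1 : IsSeparated φ := isSeparated_of_comp_surjective r φ inferInstance
  have h2 : UniversallyClosed φ := UniversallyClosed.of_comp_surjective r φ
  exact { }

/-- The reduced structure on a closed subset of the range of a closed immersion factors through
the closed immersion. -/
theorem exists_lift_vanishingIdeal {T X : Scheme.{u}} (j : T ⟶ X) [IsClosedImmersion j]
    (Z : Closeds X) (hZ : (Z : Set X) ⊆ Set.range j) :
    ∃ r : (Scheme.IdealSheafData.vanishingIdeal Z).subscheme ⟶ T,
      r ≫ j = (Scheme.IdealSheafData.vanishingIdeal Z).subschemeι ∧ IsClosedImmersion r := by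
  have hker : j.ker ≤ (Scheme.IdealSheafData.vanishingIdeal Z).subschemeι.ker := by
    rw [Scheme.IdealSheafData.ker_subschemeι,
      ← Scheme.IdealSheafData.le_support_iff_le_vanishingIdeal]
    intro z hz
    change z ∈ (j.ker.support : Set X)
    rw [Scheme.Hom.support_ker, j.isClosedEmbedding.isClosed_range.closure_eq]
    exact hZ hz
  refine ⟨IsClosedImmersion.lift j _ hker, IsClosedImmersion.lift_fac j _ hker, ?_⟩
  have h1 : IsClosedImmersion (IsClosedImmersion.lift j _ hker ≫ j) := by
    rw [IsClosedImmersion.lift_fac]
    infer_instance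
  exact IsClosedImmersion.of_comp _ j

/-- If moreover the closed subset is the whole range, the lift is surjective. -/
theorem surjective_of_lift {T X : Scheme.{u}} (j : T ⟶ X) [IsClosedImmersion j]
    (Z : Closeds X) (hZ : (Z : Set X) = Set.range j)
    (r : (Scheme.IdealSheafData.vanishingIdeal Z).subscheme ⟶ T)
    (hr : r ≫ j = (Scheme.IdealSheafData.vanishingIdeal Z).subschemeι) : Surjective r := by
  constructor
  intro t
  have h1 : j t ∈ Set.range (Scheme.IdealSheafData.vanishingIdeal Z).subschemeι := by
    rw [Scheme.IdealSheafData.range_subschemeι, Scheme.IdealSheafData.coe_support_vanishingIdeal,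
      hZ]
    exact ⟨t, rfl⟩
  obtain ⟨w, hw⟩ := h1
  refine ⟨w, j.isClosedEmbedding.injective ?_⟩
  rw [← hw, ← hr]
  rfl

end Groth.Agent.Lib.Helper14.SuppProper
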