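import Mathlib
import Groth.Agent.Lib.Helper14.SuppProper
import Groth.Agent.Lib.Helper1.SupportClosed
import Groth.Agent.S4357
import Groth.Agent.S2074
import Groth.Prelude.Def_ClSub2

/-!
# Properness of the support descends through limits (helper14)
-/

set_option autoImplicit false
universe u

open CategoryTheory Limits AlgebraicGeometry TopologicalSpace

namespace Groth.Agent.Lib.Helper14.SuppProper

lemma range_fst_of_isPullback {P X Y Z : Scheme.{u}} {a : P ⟶ X} {b : P ⟶ Y} {f : X ⟶ Z}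
    {g : Y ⟶ Z} (h : IsPullback a b f g) : Set.range a = f ⁻¹' Set.range g := by
  rw [← Scheme.Pullback.range_fst f g, ← h.isoPullback_hom_fst, Scheme.Hom.comp_base,
    TopCat.coe_comp, Set.range_comp]
  have h1 : Set.range h.isoPullback.hom = Set.univ :=
    Set.range_eq_univ.mpr (inferInstance : Surjective h.isoPullback.hom).surj
  rw [h1, Set.image_univ]

set_option backward.isDefEq.respectTransparency false in
/-- Properness of the support of a finite type quasi-coherent module descends through limits. -/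
theorem support_proper_descent {I : Type u} [SmallCategory I] [IsCofiltered I]
    (D : I ⥤ Scheme.{u}) (c : Limits.Cone D) (hc : Limits.IsLimit c)
    [∀ (i j : I) (f : i ⟶ j), IsAffineHom (D.map f)] (i₀ : I) [CompactSpace (D.obj i₀)]
    [QuasiSeparatedSpace (D.obj i₀)] {X₀ Y₀ : Scheme.{u}} (f₀ : X₀ ⟶ Y₀) (g₀ : Y₀ ⟶ D.obj i₀)
    [CompactSpace X₀] [QuasiSeparatedSpace X₀] [CompactSpace Y₀] [QuasiSeparatedSpace Y₀]
    [LocallyOfFiniteType f₀] (F₀ : X₀.Modules) [Coh.IsQCoh F₀] (hF₀ : CohB1.IsFT F₀)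
    {X Y : Scheme.{u}} (f : X ⟶ Y) (g : Y ⟶ c.pt) (qY : Y ⟶ Y₀) (qX : X ⟶ X₀)
    (hY : IsPullback qY g g₀ (c.π.app i₀)) (hX : IsPullback qX f f₀ qY)
    (hF : ClSub.IsProperOver f (CohB1.support ((Scheme.Modules.pullback qX).obj F₀))) :
    ∃ (i : I) (φ : i ⟶ i₀) (Xi Yi : Scheme.{u}) (fi : Xi ⟶ Yi) (gi : Yi ⟶ D.obj i) (pY : Yi ⟶ Y₀)
      (pX : Xi ⟶ X₀), IsPullback pY gi g₀ (D.map φ) ∧ IsPullback pX fi f₀ pY ∧
        ClSub.IsProperOver fi (CohB1.support ((Scheme.Modules.pullback pX).obj F₀)) := by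
  classical
  have hZ₀cl : IsClosed (CohB1.support F₀) :=
    Groth.Agent.Lib.Helper1.isClosed_support_of_isFiniteType F₀ hF₀
  obtain ⟨Z₀, hZ₀⟩ : ∃ Z₀ : Closeds X₀, (Z₀ : Set X₀) = CohB1.support F₀ :=
    ⟨⟨CohB1.support F₀, hZ₀cl⟩, rfl⟩
  obtain ⟨A₀, ι₀, hι₀cl, hι₀range⟩ : ∃ (A₀ : Scheme.{u}) (ι₀ : A₀ ⟶ X₀),
      IsClosedImmersion ι₀ ∧ Set.range ι₀ = CohB1.support F₀ := by
    refine ⟨_, (Scheme.IdealSheafData.vanishingIdeal Z₀).subschemeι, inferInstance, ?_⟩
    rw [Scheme.IdealSheafData.range_subschemeι, Scheme.IdealSheafData.coe_support_vanishingIdeal,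
      hZ₀]
  obtain ⟨hcl, hprop⟩ := hF
  have hsuppF : CohB1.support ((Scheme.Modules.pullback qX).obj F₀) =
      qX ⁻¹' CohB1.support F₀ := Groth.Agent.S4357.result qX F₀ hF₀
  -- the closed subscheme `T` of `X`
  obtain ⟨jT, hjT⟩ : ∃ jT : pullback qX ι₀ ⟶ X, jT = pullback.fst qX ι₀ := ⟨_, rfl⟩
  have hjTcl : IsClosedImmersion jT := by rw [hjT]; infer_instance
  have hjTrange : Set.range jT = qX ⁻¹' Set.range ι₀ := by
    rw [hjT]; exact Scheme.Pullback.range_fst qX ι₀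
  obtain ⟨ZX, hZX⟩ : ∃ ZX : Closeds X,
      ZX = ⟨CohB1.support ((Scheme.Modules.pullback qX).obj F₀), hcl⟩ := ⟨_, rfl⟩
  have hZXr : (ZX : Set X) = Set.range jT := by
    rw [hjTrange, hι₀range, hZX]; exact hsuppF
  obtain ⟨r, hr, hrcl⟩ := exists_lift_vanishingIdeal jT ZX hZXr.le
  have hrs : Surjective r := surjective_of_lift jT ZX hZXr r hr
  have hqcf₀ : QuasiCompact f₀ := inferInstance
  have hlftf : LocallyOfFiniteType f := MorphismProperty.of_isPullback hX inferInstance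
  have hqcf : QuasiCompact f := MorphismProperty.of_isPullback hX hqcf₀
  have hTprop : IsProper (jT ≫ f) := by
    have h1 : IsProper (r ≫ jT ≫ f) := by
      rw [← Category.assoc, hr, hZX]
      exact hprop
    exact isProper_of_comp_surjective r (jT ≫ f) h1
  have hXT : IsPullback (pullback.snd qX ι₀) (jT ≫ f) (ι₀ ≫ f₀) qY := by
    rw [hjT]
    exact (IsPullback.of_hasPullback qX ι₀).flip.paste_vert hX
  have hcA : CompactSpace A₀ := QuasiCompact.compactSpace_of_compactSpace ι₀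
  have hqA : QuasiSeparatedSpace A₀ := quasiSeparatedSpace_of_quasiSeparated ι₀
  obtain ⟨i, φ, Ti, Yi, fi', gi, pY, pT, h1, h2, h3⟩ :=
    Groth.Agent.S2074.result D c hc i₀ (ι₀ ≫ f₀) g₀ (jT ≫ f) g qY (pullback.snd qX ι₀) hY hXT
  refine ⟨i, φ, pullback f₀ pY, Yi, pullback.snd f₀ pY, gi, pY, pullback.fst f₀ pY, h1,
    IsPullback.of_hasPullback f₀ pY, ?_⟩
  obtain ⟨ji, hji1, hji2⟩ : ∃ ji : Ti ⟶ pullback f₀ pY,
      ji ≫ pullback.fst f₀ pY = pT ≫ ι₀ ∧ ji ≫ pullback.snd f₀ pY = fi' :=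
    ⟨pullback.lift (pT ≫ ι₀) fi' (by rw [Category.assoc]; exact h2.w),
      pullback.lift_fst _ _ _, pullback.lift_snd _ _ _⟩
  have hsq : IsPullback pT ji ι₀ (pullback.fst f₀ pY) := by
    refine IsPullback.of_bot ?_ hji1.symm (IsPullback.of_hasPullback f₀ pY)
    rw [hji2]
    exact h2
  have hjicl : IsClosedImmersion ji := MorphismProperty.of_isPullback hsq hι₀cl
  have hjirange : Set.range ji = (pullback.fst f₀ pY) ⁻¹' Set.range ι₀ :=
    range_fst_of_isPullback hsq.flip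
  have hsuppFi : CohB1.support ((Scheme.Modules.pullback (pullback.fst f₀ pY)).obj F₀) =
      (pullback.fst f₀ pY) ⁻¹' CohB1.support F₀ :=
    Groth.Agent.S4357.result (pullback.fst f₀ pY) F₀ hF₀
  have hcli : IsClosed (CohB1.support ((Scheme.Modules.pullback (pullback.fst f₀ pY)).obj F₀)) := by
    rw [hsuppFi]
    exact hZ₀cl.preimage (pullback.fst f₀ pY).continuous
  refine ⟨hcli, ?_⟩
  have hZir : ((⟨_, hcli⟩ : Closeds ↥(pullback f₀ pY)) : Set ↥(pullback f₀ pY)) = Set.range ji := by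
    rw [hjirange, hι₀range]
    exact hsuppFi
  obtain ⟨ri, hri, hricl⟩ := exists_lift_vanishingIdeal ji ⟨_, hcli⟩ hZir.le
  rw [← hri, Category.assoc, hji2]
  infer_instance

end Groth.Agent.Lib.Helper14.SuppProper
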