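import Groth.Prelude.Def_Flat
import Groth.Prelude.Def_CInt
import Mathlib.AlgebraicGeometry.Morphisms.Finite
import Mathlib.AlgebraicGeometry.Morphisms.Separated
import Mathlib.AlgebraicGeometry.Morphisms.FiniteType
import Mathlib.AlgebraicGeometry.ZariskisMainTheorem

set_option autoImplicit false
universe u
open CategoryTheory CategoryTheory.Limits AlgebraicGeometry TopologicalSpace

namespace Groth.Agent.Lib.Helper14

/-- A schematically dense open subset is topologically dense. -/
theorem dense_of_schematicallyDense {X : Scheme.{u}} (V : X.Opens)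
    (hV : CInt.IsSchematicallyDense V) : Dense (V : Set X) := by
  rw [dense_iff_inter_open]
  intro W hW hne
  by_contra hcon
  rw [Set.not_nonempty_iff_eq_empty] at hcon
  have hbot : (⟨W, hW⟩ : X.Opens) ⊓ V = ⊥ := by
    ext x
    simp only [Opens.coe_inf, Opens.coe_mk, Opens.coe_bot]
    rw [hcon]
  have hinj := hV ⟨W, hW⟩
  have h10 : (1 : Γ(X, ⟨W, hW⟩)) = 0 := by
    apply hinj
    have : Subsingleton Γ(X, (⟨W, hW⟩ : X.Opens) ⊓ V) := by rw [hbot]; infer_instance
    exact Subsingleton.elim _ _
  have hW' : (⟨W, hW⟩ : X.Opens) = ⊥ := by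
    rw [← X.basicOpen_of_isUnit (isUnit_one : IsUnit (1 : Γ(X, ⟨W, hW⟩))), h10, X.basicOpen_zero]
  obtain ⟨x, hx⟩ := hne
  have : x ∈ (⟨W, hW⟩ : X.Opens) := hx
  rw [hW'] at this
  exact this

end Groth.Agent.Lib.Helper14

namespace Groth.Agent.Lib.Helper14

theorem isUnivHomeo_of_schDense_homeo_restrict {X S : Scheme.{u}} (f : X ⟶ S)
    [QuasiCompact f] [IsSeparated f] (U : S.Opens)
    (hdense : CInt.IsSchematicallyDense (f ⁻¹ᵁ U)) (hU : IsHomeomorph (f ∣_ U).base)
    (e : S ⟶ X) (he : e ≫ f = 𝟙 S) :
    FlatMor.IsUnivHomeo f ∧ (LocallyOfFiniteType f → IsFinite f) := by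
  -- the section is a closed immersion
  have hce : IsClosedImmersion e := by
    have : IsClosedImmersion (e ≫ f) := by rw [he]; infer_instance
    exact IsClosedImmersion.of_comp e f
  -- the section is surjective
  have hes : Surjective e := by
    constructor
    have hcl : IsClosed (Set.range e) := e.isClosedEmbedding.isClosed_range
    have hsub : ((f ⁻¹ᵁ U : X.Opens) : Set X) ⊆ Set.range e := by
      intro x hx
      refine ⟨f x, ?_⟩
      have hx' : f (e (f x)) = f x := by
        rw [← Scheme.Hom.comp_apply, he]; rfl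
      have hmem : e (f x) ∈ f ⁻¹ᵁ U := by
        show f (e (f x)) ∈ U
        rw [hx']; exact hx
      have := hU.injective (a₁ := ⟨e (f x), hmem⟩) (a₂ := ⟨x, hx⟩) (by
        rw [morphismRestrict_base]
        apply Subtype.ext
        exact hx')
      exact congrArg Subtype.val this
    have hd := dense_of_schematicallyDense _ hdense
    intro x
    have : x ∈ closure ((f ⁻¹ᵁ U : X.Opens) : Set X) := hd x
    exact (hcl.closure_subset_iff.2 hsub) this
  have huh : FlatMor.IsUnivHomeo f := by
    intro X' Y' i₁ i₂ f' hf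
    have he'1 : hf.lift (𝟙 Y') (i₂ ≫ e)
        (by rw [Category.id_comp, Category.assoc, he, Category.comp_id]) ≫ f' = 𝟙 Y' :=
      hf.lift_fst _ _ _
    have he'2 : hf.lift (𝟙 Y') (i₂ ≫ e)
        (by rw [Category.id_comp, Category.assoc, he, Category.comp_id]) ≫ i₁ = i₂ ≫ e :=
      hf.lift_snd _ _ _
    generalize hf.lift (𝟙 Y') (i₂ ≫ e)
        (by rw [Category.id_comp, Category.assoc, he, Category.comp_id]) = e' at he'1 he'2
    have hpb : IsPullback e' i₂ i₁ e := by
      refine IsPullback.of_right ?_ he'2 hf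
      rw [he'1, he]
      exact IsPullback.of_horiz_isIso ⟨by simp⟩
    have hes' : Surjective e' := MorphismProperty.of_isPullback hpb.flip hes
    show IsHomeomorph f'
    rw [isHomeomorph_iff_exists_inverse]
    refine ⟨f'.continuous, e', ?_, ?_, e'.continuous⟩
    · intro x
      obtain ⟨y, rfl⟩ := hes'.surj x
      have : f' (e' y) = y := by rw [← Scheme.Hom.comp_apply, he'1]; rfl
      rw [this]
    · intro y
      rw [← Scheme.Hom.comp_apply, he'1]; rfl
  refine ⟨huh, fun hlft => ?_⟩
  have hinj : Function.Injective f := by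
    intro x y hxy
    obtain ⟨a, rfl⟩ := hes.surj x
    obtain ⟨b, rfl⟩ := hes.surj y
    have ha : f (e a) = a := by rw [← Scheme.Hom.comp_apply, he]; rfl
    have hb : f (e b) = b := by rw [← Scheme.Hom.comp_apply, he]; rfl
    rw [ha, hb] at hxy
    rw [hxy]
  have hqf : LocallyQuasiFinite f := LocallyQuasiFinite.of_injective hinj
  have huc : UniversallyClosed f := by
    constructor
    intro X' Y' i₁ i₂ f' hf
    exact (huh i₁ i₂ f' hf).isClosedMap
  have : IsProper f := {}
  exact IsFinite.of_isProper_of_locallyQuasiFinite f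

end Groth.Agent.Lib.Helper14
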