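import Mathlib

/-!
# Values of iterated commutator words and the derived / lower central series (helper14)

For a group `Γ`, `dv Γ n` is the set of values of the `n`-fold iterated commutator word
`w₀ = x`, `w_{n+1} = ⁅w_n, w_n'⁆` and `lv Γ n` the set of values of the left-normed commutator word
`v₀ = x`, `v_{n+1} = ⁅v_n, y⁆`.  If all values of `w_n` (resp. `v_n`) are trivial then the `n`-th
term of the derived series (resp. lower central series) is trivial.
-/

set_option autoImplicit false
universe u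

namespace Groth.Agent.Lib.Helper14.WordSeries

open scoped commutatorElement

/-- Values of the iterated commutator word of depth `n`. -/
def dv (Γ : Type u) [Group Γ] : ℕ → Set Γ
  | 0 => Set.univ
  | n + 1 => {c | ∃ a ∈ dv Γ n, ∃ b ∈ dv Γ n, ⁅a, b⁆ = c}

/-- Values of the left-normed commutator word of length `n + 1`. -/
def lv (Γ : Type u) [Group Γ] : ℕ → Set Γ
  | 0 => Set.univ
  | n + 1 => {c | ∃ a ∈ lv Γ n, ∃ g : Γ, ⁅a, g⁆ = c}

variable {Γ Γ' : Type u} [Group Γ] [Group Γ']

theorem conj_mem_dv (n : ℕ) {a : Γ} (ha : a ∈ dv Γ n) (g : Γ) : g * a * g⁻¹ ∈ dv Γ n := by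
  induction n generalizing a with
  | zero => exact Set.mem_univ _
  | succ n ih =>
    obtain ⟨b, hb, c, hc, rfl⟩ := ha
    exact ⟨g * b * g⁻¹, ih hb, g * c * g⁻¹, ih hc, (conjugate_commutatorElement b c g).symm⟩

theorem conj_mem_lv (n : ℕ) {a : Γ} (ha : a ∈ lv Γ n) (g : Γ) : g * a * g⁻¹ ∈ lv Γ n := by
  induction n generalizing a with
  | zero => exact Set.mem_univ _
  | succ n ih =>
    obtain ⟨b, hb, c, rfl⟩ := ha
    exact ⟨g * b * g⁻¹, ih hb, g * c * g⁻¹, (conjugate_commutatorElement b c g).symm⟩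

theorem exists_dv_of_surjective (f : Γ →* Γ') (hf : Function.Surjective f) (n : ℕ) {a' : Γ'}
    (ha' : a' ∈ dv Γ' n) : ∃ a ∈ dv Γ n, f a = a' := by
  induction n generalizing a' with
  | zero =>
    obtain ⟨a, rfl⟩ := hf a'
    exact ⟨a, Set.mem_univ _, rfl⟩
  | succ n ih =>
    obtain ⟨b', hb', c', hc', rfl⟩ := ha'
    obtain ⟨b, hb, rfl⟩ := ih hb'
    obtain ⟨c, hc, rfl⟩ := ih hc'
    exact ⟨⁅b, c⁆, ⟨b, hb, c, hc, rfl⟩, map_commutatorElement f b c⟩

theorem exists_lv_of_surjective (f : Γ →* Γ') (hf : Function.Surjective f) (n : ℕ) {a' : Γ'}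
    (ha' : a' ∈ lv Γ' n) : ∃ a ∈ lv Γ n, f a = a' := by
  induction n generalizing a' with
  | zero =>
    obtain ⟨a, rfl⟩ := hf a'
    exact ⟨a, Set.mem_univ _, rfl⟩
  | succ n ih =>
    obtain ⟨b', hb', c', rfl⟩ := ha'
    obtain ⟨b, hb, rfl⟩ := ih hb'
    obtain ⟨c, rfl⟩ := hf c'
    exact ⟨⁅b, c⁆, ⟨b, hb, c, rfl⟩, map_commutatorElement f b c⟩

theorem normal_closure_of_conj_mem {S : Set Γ} (hS : ∀ a ∈ S, ∀ g : Γ, g * a * g⁻¹ ∈ S) :
    (Subgroup.closure S).Normal := by
  refine ⟨fun a ha g => ?_⟩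
  induction ha using Subgroup.closure_induction with
  | mem x hx => exact Subgroup.subset_closure (hS x hx g)
  | one => simp
  | mul x y _ _ hx hy =>
    have : g * (x * y) * g⁻¹ = (g * x * g⁻¹) * (g * y * g⁻¹) := by group
    rw [this]
    exact mul_mem hx hy
  | inv x _ hx =>
    have : g * x⁻¹ * g⁻¹ = (g * x * g⁻¹)⁻¹ := by group
    rw [this]
    exact inv_mem hx

/-- If all values of the iterated commutator word of depth `n` are trivial, the `n`-th term of the
derived series is trivial. -/
theorem derivedSeries_eq_bot_of_dv (n : ℕ) :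
    ∀ (Γ : Type u) [Group Γ], (∀ a ∈ dv Γ n, a = 1) → derivedSeries Γ n = ⊥ := by
  induction n with
  | zero =>
    intro Γ _ h
    rw [derivedSeries_zero, eq_bot_iff]
    intro a _
    exact Subgroup.mem_bot.mpr (h a (Set.mem_univ _))
  | succ n ih =>
    intro Γ _ h
    have hcomm : ∀ a ∈ dv Γ n, ∀ b ∈ dv Γ n, b * a = a * b := fun a ha b hb =>
      (commutatorElement_eq_one_iff_mul_comm.mp (h _ ⟨b, hb, a, ha, rfl⟩))
    have hAn : (Subgroup.closure (dv Γ n)).Normal :=
      normal_closure_of_conj_mem (fun a ha g => conj_mem_dv n ha g)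
    have hAc : ⁅Subgroup.closure (dv Γ n), Subgroup.closure (dv Γ n)⁆ = ⊥ := by
      rw [Subgroup.commutator_eq_bot_iff_le_centralizer, Subgroup.centralizer_closure,
        Subgroup.closure_le]
      intro a ha
      rw [SetLike.mem_coe, Subgroup.mem_centralizer_iff]
      intro b hb
      exact hcomm a ha b hb
    have hq : derivedSeries (Γ ⧸ Subgroup.closure (dv Γ n)) n = ⊥ := by
      apply ih
      intro a' ha'
      obtain ⟨a, ha, rfl⟩ := exists_dv_of_surjective
        (QuotientGroup.mk' (Subgroup.closure (dv Γ n))) (QuotientGroup.mk'_surjective _) n ha'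
      exact (QuotientGroup.eq_one_iff a).mpr (Subgroup.subset_closure ha)
    have hle : derivedSeries Γ n ≤ Subgroup.closure (dv Γ n) := by
      have h1 := map_derivedSeries_eq (G := Γ)
        (f := QuotientGroup.mk' (Subgroup.closure (dv Γ n))) (QuotientGroup.mk'_surjective _) n
      rw [hq, Subgroup.map_eq_bot_iff, QuotientGroup.ker_mk'] at h1
      exact h1
    rw [derivedSeries_succ, eq_bot_iff, ← hAc]
    exact Subgroup.commutator_mono hle hle

/-- If all values of the left-normed commutator word of length `n + 1` are trivial, the `n`-th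
term of the lower central series is trivial. -/
theorem lowerCentralSeries_eq_bot_of_lv (n : ℕ) :
    ∀ (Γ : Type u) [Group Γ], (∀ a ∈ lv Γ n, a = 1) →
      Subgroup.lowerCentralSeries (⊤ : Subgroup Γ) n = ⊥ := by
  induction n with
  | zero =>
    intro Γ _ h
    rw [Subgroup.lowerCentralSeries_zero, eq_bot_iff]
    intro a _
    exact Subgroup.mem_bot.mpr (h a (Set.mem_univ _))
  | succ n ih =>
    intro Γ _ h
    have hcen : Subgroup.closure (lv Γ n) ≤ Subgroup.center Γ := by
      rw [Subgroup.closure_le]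
      intro a ha
      rw [SetLike.mem_coe, Subgroup.mem_center_iff]
      intro g
      exact (commutatorElement_eq_one_iff_mul_comm.mp (h _ ⟨a, ha, g, rfl⟩)).symm
    have hAn : (Subgroup.closure (lv Γ n)).Normal :=
      normal_closure_of_conj_mem (fun a ha g => conj_mem_lv n ha g)
    have hq : Subgroup.lowerCentralSeries (⊤ : Subgroup (Γ ⧸ Subgroup.closure (lv Γ n))) n = ⊥ := by
      apply ih
      intro a' ha'
      obtain ⟨a, ha, rfl⟩ := exists_lv_of_surjective
        (QuotientGroup.mk' (Subgroup.closure (lv Γ n))) (QuotientGroup.mk'_surjective _) n ha'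
      exact (QuotientGroup.eq_one_iff a).mpr (Subgroup.subset_closure ha)
    have hle : Subgroup.lowerCentralSeries (⊤ : Subgroup Γ) n ≤ Subgroup.closure (lv Γ n) := by
      have h1 := Subgroup.map_lowerCentralSeries (S := (⊤ : Subgroup Γ))
        (QuotientGroup.mk' (Subgroup.closure (lv Γ n))) n
      rw [Subgroup.map_top_of_surjective _ (QuotientGroup.mk'_surjective _), hq,
        Subgroup.map_eq_bot_iff, QuotientGroup.ker_mk'] at h1
      exact h1
    rw [Subgroup.lowerCentralSeries_succ, eq_bot_iff, ← Subgroup.commutator_center_left (⊤ : Subgroup Γ)]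
    exact Subgroup.commutator_mono (hle.trans hcen) le_rfl

end Groth.Agent.Lib.Helper14.WordSeries
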